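import Mathlib.LinearAlgebra.Matrix.GeneralLinearGroup.Card
import Mathlib.Algebra.Module.ZMod
import Mathlib.GroupTheory.PGroup
import Mathlib.LinearAlgebra.Matrix.ToLin
import Cfsg.Prelude.Def_CaseTheorems
import Cfsg.Agent.Lib.Thompson.Basic
import Cfsg.Agent.Lib.Core.Basic

/-!
# Automorphisms of elementary abelian 2-groups of order at most sixteen
-/

set_option autoImplicit false
set_option linter.style.haveILetI false

namespace Cfsg.Lib.Local.JComp

open Subgroup Cfsg
open scoped commutatorElement

universe u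

variable {G : Type u} [Group G] [Finite G]

/-- The automorphism group of a small elementary abelian 2-group. -/
theorem card_mulAut_small {M : Subgroup G} (hM : IsElementaryAbelian 2 M) (h16 : Nat.card M ≤ 16) :
    Nat.card (MulAut M) ∣ 20160 ∧ (Nat.card M = 4 → Nat.card (MulAut M) ∣ 6) := by
  haveI := hM.1
  letI : CommGroup M := { (inferInstance : Group M) with mul_comm := fun a b => hM.1.1.comm a b }
  haveI : Fact (Nat.Prime 2) := ⟨Nat.prime_two⟩
  letI : Module (ZMod 2) (Additive M) := AddCommGroup.zmodModule (n := 2) fun x => by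
    obtain ⟨⟨y, hy⟩, rfl⟩ := Additive.ofMul.surjective x
    rw [← ofMul_pow]
    have : (⟨y, hy⟩ : M) ^ 2 = 1 := Subtype.ext (hM.2 y hy)
    rw [this, ofMul_one]
  haveI : Finite (Additive M) := inferInstanceAs (Finite M)
  set d := Module.finrank (ZMod 2) (Additive M) with hd
  have hcard : Nat.card M = 2 ^ d := by
    have h := Module.natCard_eq_pow_finrank (K := ZMod 2) (V := Additive M)
    rw [Nat.card_zmod, ← hd] at h
    exact h
  have hd4 : d ≤ 4 := (Nat.pow_le_pow_iff_right (by norm_num : 1 < 2)).1 (hcard ▸ h16)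
  let f : MulAut M →* (Additive M ≃ₗ[ZMod 2] Additive M) :=
    { toFun := fun g => (MulEquiv.toAdditive g).toLinearEquiv
        fun c x => ZMod.map_smul (MulEquiv.toAdditive g).toAddMonoidHom c x
      map_one' := by ext x; rfl
      map_mul' := fun a b => by ext x; rfl }
  have hf : Function.Injective f := by
    intro a b h
    ext x
    exact congrArg Subtype.val
      (congrArg Additive.toMul (LinearEquiv.congr_fun h (Additive.ofMul x)))
  haveI : Finite (Additive M ≃ₗ[ZMod 2] Additive M) := Finite.of_injective _ DFunLike.coe_injective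
  have hdvd := Subgroup.card_dvd_of_injective f hf
  let b := Module.finBasis (ZMod 2) (Additive M)
  have h : Nat.card (Additive M ≃ₗ[ZMod 2] Additive M) = Nat.card (GL (Fin d) (ZMod 2)) :=
    (Nat.card_congr (LinearMap.GeneralLinearGroup.generalLinearEquiv (ZMod 2) (Additive M)).toEquiv).symm.trans
      (Nat.card_congr (Units.mapEquiv (LinearMap.toMatrixAlgEquiv b).toMulEquiv).toEquiv)
  rw [h, Matrix.card_GL_field, ZMod.card] at hdvd
  refine ⟨hdvd.trans ?_, fun h4 => hdvd.trans ?_⟩
  · interval_cases d <;> simp [Fin.prod_univ_succ]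
  · have : d = 2 := Nat.pow_right_injective (le_refl 2) (hcard.symm.trans h4)
    rw [this]; simp [Fin.prod_univ_succ]

/-- Two elements generating a group acting as a 3-group on a small elementary abelian 2-group act
commutingly. -/
theorem three_commute {M H : Subgroup G} (hM : IsElementaryAbelian 2 M) (h16 : Nat.card M ≤ 16)
    (hH : H ≤ normalizer (M : Set G)) (h3 : ∀ x ∈ H, ∃ i : ℕ, x ^ 3 ^ i ∈ centralizer (M : Set G))
    {x y : G} (hx : x ∈ H) (hy : y ∈ H) : ⁅x, y⁆ ∈ centralizer (M : Set G) := by
  haveI : Fact (Nat.Prime 3) := ⟨Nat.prime_three⟩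
  set φ := M.normalizerMonoidHom.comp (inclusion hH) with hφ
  have hker : ∀ z : H, φ z = 1 ↔ (z : G) ∈ centralizer (M : Set G) := by
    intro z
    rw [← MonoidHom.mem_ker, hφ, ← MonoidHom.comap_ker, mem_comap, normalizerMonoidHom_ker,
      mem_subgroupOf]
    rfl
  haveI : Finite (MulAut M) := Finite.of_injective _ DFunLike.coe_injective
  have hp : IsPGroup 3 φ.range := by
    rintro ⟨_, ⟨z, hz⟩, rfl⟩
    obtain ⟨i, hi⟩ := h3 z hz
    refine ⟨i, Subtype.ext ?_⟩
    show φ ⟨z, hz⟩ ^ 3 ^ i = 1
    rw [← map_pow, hker]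
    exact hi
  obtain ⟨k, hk⟩ := IsPGroup.iff_card.1 hp
  have hk2 : k ≤ 2 := by
    by_contra hc
    have h27 : 3 ^ 3 ∣ Nat.card φ.range := hk ▸ pow_dvd_pow 3 (by omega)
    have := h27.trans ((Subgroup.card_subgroup_dvd_card _).trans (card_mulAut_small hM h16).1)
    revert this
    decide
  have hcomm : ∀ a b : φ.range, a * b = b * a := by
    interval_cases k
    · haveI : Subsingleton φ.range := (Nat.card_eq_one_iff_unique.1 (by simpa using hk)).1
      exact fun a b => Subsingleton.elim _ _
    · haveI : IsCyclic φ.range := isCyclic_of_prime_card (p := 3) (by simpa using hk)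
      obtain ⟨g, hg⟩ := IsCyclic.exists_generator (α := φ.range)
      intro a b
      obtain ⟨i, rfl⟩ := hg a
      obtain ⟨j, rfl⟩ := hg b
      exact ((Commute.refl g).zpow_zpow i j).eq
    · exact IsPGroup.commutative_of_card_eq_prime_sq hk
  refine (hker ⁅(⟨x, hx⟩ : H), ⟨y, hy⟩⁆).1 ?_
  rw [map_commutatorElement, commutatorElement_eq_one_iff_mul_comm]
  exact congrArg Subtype.val (hcomm ⟨_, ⟨x, hx⟩, rfl⟩ ⟨_, ⟨y, hy⟩, rfl⟩)

/-- A 2-group acts on a four-group through a group of order at most two. -/
theorem relIndex_centralizer_le_two {M P : Subgroup G} (hM : IsElementaryAbelian 2 M)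
    (h4 : Nat.card M = 4) (hP : IsPGroup 2 P) (hPM : P ≤ normalizer (M : Set G)) :
    (centralizer (M : Set G)).relIndex P ≤ 2 := by
  haveI : Fact (Nat.Prime 2) := ⟨Nat.prime_two⟩
  set φ := M.normalizerMonoidHom.comp (inclusion hPM) with hφ
  haveI : Finite (MulAut M) := Finite.of_injective _ DFunLike.coe_injective
  have hker : φ.ker = (centralizer (M : Set G)).subgroupOf P := by
    rw [hφ, ← MonoidHom.comap_ker, normalizerMonoidHom_ker]
    rfl
  have hp : IsPGroup 2 φ.range := hP.of_surjective φ.rangeRestrict φ.rangeRestrict_surjective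
  obtain ⟨k, hk⟩ := IsPGroup.iff_card.1 hp
  have h6 : 2 ^ k ∣ 6 := hk ▸ (Subgroup.card_subgroup_dvd_card _).trans
    ((card_mulAut_small hM (by omega)).2 h4)
  rw [relIndex, ← hker, Subgroup.index_ker, hk]
  by_contra hc
  have h2 : 2 ≤ k := by
    rcases k with _ | _ | k <;> simp_all
  have := (pow_dvd_pow 2 h2).trans h6
  revert this
  decide

end Cfsg.Lib.Local.JComp
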