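import Cfsg.Agent.S0617
import Cfsg.Agent.Lib.Thompson.Basic
import Cfsg.Agent.Lib.Linear.GLTwo

/-!
For `p = 2` a group generated by best offenders has elementary abelian derived group of exponent three.
-/

set_option autoImplicit false
set_option linter.style.haveILetI false

namespace Cfsg.Lib.Local.JComp

open Subgroup Cfsg.Lib
open scoped commutatorElement

variable {G : Type*} [Group G]

theorem commutator_iSup_le {ι : Type*} {E : ι → Subgroup G} {C : Subgroup G}
    (hn : ⨆ i, E i ≤ normalizer (C : Set G)) (h : ∀ i j, ⁅E i, E j⁆ ≤ C) :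
    ⁅⨆ i, E i, ⨆ i, E i⁆ ≤ C := by
  set H := ⨆ i, E i
  have step : ∀ x ∈ H, ∀ j, ∀ y ∈ E j, ⁅x, y⁆ ∈ C := by
    intro x hx j y hy
    induction hx using iSup_induction' generalizing y with
    | hp i a ha => exact h i j (commutator_mem_commutator ha hy)
    | h1 => simp
    | hmul a b ha hb iha ihb =>
      rw [show ⁅a * b, y⁆ = a * ⁅b, y⁆ * a⁻¹ * ⁅a, y⁆ by simp [commutatorElement_def]; group]
      exact mul_mem ((mem_normalizer_iff.1 (hn ha) _).1 (ihb y hy)) (iha y hy)
  rw [commutator_le]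
  intro x hx y hy
  induction hy using iSup_induction' generalizing x with
  | hp j b hb => exact step x hx j b hb
  | h1 => simp
  | hmul a b ha hb iha ihb =>
    rw [show ⁅x, a * b⁆ = ⁅x, a⁆ * (a * ⁅x, b⁆ * a⁻¹) by simp [commutatorElement_def]; group]
    exact mul_mem (iha x hx) ((mem_normalizer_iff.1 (hn ha) _).1 (ihb x hx))

/-- The derived group of a group of order six is abelian of exponent three. -/
theorem commutator_of_card_six [Finite G] (hc : Nat.card G = 6) :
    IsElementaryAbelian 3 (commutator G) := by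
  haveI : Fact (Nat.Prime 3) := ⟨Nat.prime_three⟩
  obtain ⟨g, hg⟩ := exists_prime_orderOf_dvd_card' (G := G) 3 (by rw [hc]; norm_num)
  have hidx : (zpowers g).index = 2 := by
    have := (zpowers g).card_mul_index
    rw [Nat.card_zpowers, hg, hc] at this
    omega
  haveI := Subgroup.normal_of_index_eq_two hidx
  haveI : Fact (Nat.Prime 2) := ⟨Nat.prime_two⟩
  haveI : IsCyclic (G ⧸ zpowers g) :=
    isCyclic_of_prime_card (p := 2) (by rw [← Subgroup.index_eq_card, hidx])
  have hle : commutator G ≤ zpowers g := by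
    rw [commutator_def, commutator_le]
    intro x _ y _
    refine (QuotientGroup.eq_one_iff _).1 ?_
    show (QuotientGroup.mk' (zpowers g)) ⁅x, y⁆ = 1
    rw [map_commutatorElement, commutatorElement_eq_one_iff_mul_comm]
    obtain ⟨c, hc⟩ := IsCyclic.exists_generator (α := G ⧸ zpowers g)
    obtain ⟨i, hi⟩ := hc ((QuotientGroup.mk' (zpowers g)) x)
    obtain ⟨j, hj⟩ := hc ((QuotientGroup.mk' (zpowers g)) y)
    rw [← hi, ← hj]
    exact ((Commute.refl c).zpow_zpow i j).eq
  refine ⟨⟨⟨fun a b => Subtype.ext ?_⟩⟩, fun a ha => ?_⟩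
  · obtain ⟨i, hi⟩ := hle a.2
    obtain ⟨j, hj⟩ := hle b.2
    show (a : G) * b = b * a
    rw [← hi, ← hj]
    exact ((Commute.refl g).zpow_zpow i j).eq
  · obtain ⟨i, rfl⟩ := hle ha
    show (g ^ i) ^ 3 = 1
    rw [← zpow_natCast, ← zpow_mul, mul_comm, zpow_mul, zpow_natCast, ← hg, pow_orderOf_eq_one, one_zpow]

theorem derived_of_indep [Finite G] {ι : Type*} {E : ι → Subgroup G} {H : Subgroup G}
    (hn0 : ∀ i, H ≤ normalizer (E i : Set G)) (h6 : ∀ i, Nat.card (E i) = 6)
    (hind : iSupIndep E) (hsup : ⨆ i, E i = H) : IsElementaryAbelian 3 ⁅H, H⁆ := by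
  classical
  have hEH : ∀ i : ι, E i ≤ H := fun i => le_trans (le_iSup E i) hsup.le
  have hC : ∀ i : ι, IsElementaryAbelian 3 ⁅(E i), (E i)⁆ := by
    intro i
    have hc := h6 i
    rw [← map_subtype_commutator]
    exact Thompson.isEA_map _ (commutator_of_card_six hc)
  have hdis : ∀ i j : ι, i ≠ j → ⁅(E i), (E j)⁆ = ⊥ := by
    intro i j hij
    rw [eq_bot_iff]
    refine le_trans (le_inf ?_ ?_) ((hind i).mono_right (le_iSup₂ (f := fun k (_ : k ≠ i) => E k) j (Ne.symm hij))).le_bot
    · exact le_normalizer_iff_commutator_le_left.1 ((hEH j).trans (hn0 i))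
    · exact le_normalizer_iff_commutator_le_right.1 ((hEH i).trans (hn0 j))
  set C := ⨆ i : ι, ⁅(E i), (E i)⁆ with hCdef
  have hCea : IsElementaryAbelian 3 C := by
    rw [hCdef, iSup_eq_closure]
    refine Thompson.isEA_closure ?_ ?_
    · intro a ha b hb
      obtain ⟨i, hai⟩ := Set.mem_iUnion.1 ha
      obtain ⟨j, hbj⟩ := Set.mem_iUnion.1 hb
      by_cases hij : i = j
      · subst hij; exact Thompson.isEA_commute (hC i) hai hbj
      · have ha' : a ∈ (E i) := commutator_le_self _ hai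
        have hb' : b ∈ (E j) := commutator_le_self _ hbj
        exact commutatorElement_eq_one_iff_mul_comm.1
          (mem_bot.1 ((hdis i j hij).le (commutator_mem_commutator ha' hb')))
    · intro a ha
      obtain ⟨i, hai⟩ := Set.mem_iUnion.1 ha
      exact (hC i).2 a hai
  have hn : (⨆ i : ι, (E i)) ≤ normalizer (C : Set G) := by
    rw [hsup]
    refine Core.le_normalizer_iff_conj_mem.2 fun g hg x hx => ?_
    have h1 : C.map (MulAut.conj g).toMonoidHom ≤ C := by
      rw [hCdef, Subgroup.map_iSup]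
      refine iSup_mono fun i => ?_
      rw [map_commutator, Core.map_conj_eq_of_mem_normalizer ((hn0 i) hg)]
    exact h1 ⟨x, hx, rfl⟩
  have hle : ⁅H, H⁆ ≤ C := by
    rw [← hsup]
    refine commutator_iSup_le hn fun i j => ?_
    by_cases hij : i = j
    · subst hij; exact le_iSup (fun i : ι => ⁅E i, E i⁆) i
    · rw [hdis i j hij]; exact bot_le
  exact PGroup.isElementaryAbelian_of_le hCea hle


theorem derived_isEA [Finite G] [Fact (Nat.Prime 2)] (V H : Subgroup G)
    (hs : Cfsg.Lib.Local.FF.Setup 2 V H)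
    (hgen : H = ⨆ A : {A : Subgroup G // A ≤ H ∧ Cfsg.IsBestOffenderOn 2 V A}, (A : Subgroup G))
    (hH : H ≠ ⊥) : IsElementaryAbelian 3 ⁅H, H⁆ := by
  obtain ⟨-, hE, hind, hsup, -⟩ := Cfsg.Agent.S0617.result V H hs.hV hs.hHV hs.hf hs.hQ hgen hH
  refine derived_of_indep (fun i => (hE i).1) (fun i => ?_) hind hsup
  obtain ⟨e⟩ := (hE i).2.1
  rw [Nat.card_congr e.toEquiv, Cfsg.Lib.Linear.Two.card_SL_two, ZMod.card]
  norm_num

end Cfsg.Lib.Local.JComp
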