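import Cfsg.Agent.Lib.Local.JComp.Basic
import Cfsg.Agent.Lib.Local.JComp.Derived
import Cfsg.Agent.Lib.Core.PSolvable
import Cfsg.Agent.Lib.Local.FF.Model
import Cfsg.Prelude.Def_CaseTheorems

/-!
# `J(T)`-components inside a solvable subgroup of characteristic two

`Ctx T N`: `N` is solvable, `C_G(O₂(N)) ≤ O₂(N)`, `C_N(Ω₁Z(S)) ≤ N(S)` for the Sylow 2-subgroups
`S` of `N`, one of which has Thompson subgroup `J(T)`.
-/

set_option autoImplicit false
set_option linter.style.haveILetI false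

namespace Cfsg.Lib.Local.JComp

open Subgroup Cfsg Cfsg.Lib Cfsg.Lib.Local.GlaubermanZJ
open scoped commutatorElement

universe u

variable {G : Type u} [Group G] [Finite G] {T K N S : Subgroup G}

local notation "J" => thompsonSubgroupOf 2 T
local notation "R2" => pCoreOf 2 K
local notation "W" => wOf K
local notation "Q" => pCoreOf 2 N

/-! ### Sylow 2-subgroups of a subgroup -/

theorem isSylowTwoIn_map (P : Sylow 2 N) : IsSylowTwoIn ((P : Subgroup N).map N.subtype) N := by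
  haveI : Fact (Nat.Prime 2) := ⟨Nat.prime_two⟩
  refine ⟨map_subtype_le _, P.isPGroup'.map _, ?_⟩
  rw [relIndex, subgroupOf, comap_map_eq_self_of_injective N.subtype_injective]
  exact Nat.odd_iff.2 (Nat.two_dvd_ne_zero.1 P.not_dvd_index)

theorem exists_sylow {P : Subgroup G} (hP : IsPGroup 2 P) (hPN : P ≤ N) :
    ∃ S, IsSylowTwoIn S N ∧ P ≤ S := by
  obtain ⟨R, hR⟩ := (hP.of_equiv (subgroupOfEquivOfLe hPN).symm).exists_le_sylow
  refine ⟨_, isSylowTwoIn_map R, ?_⟩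
  rw [← map_subgroupOf_eq_of_le hPN]
  exact map_mono hR

theorem eq_of_two {P : Subgroup G} (hS : IsSylowTwoIn S N) (hP : IsPGroup 2 P) (hSP : S ≤ P)
    (hPN : P ≤ N) : P = S := by
  obtain ⟨k, hk⟩ := IsPGroup.iff_card.1 hP
  have h1 := Core.card_mul_relIndex hSP
  have h2 : S.relIndex P ∣ S.relIndex N := Dvd.intro _ (relIndex_mul_relIndex S P N hSP hPN)
  have h3 : S.relIndex P = 1 := Nat.eq_one_of_dvd_coprimes
    ((Nat.coprime_two_left.2 hS.2.2).pow_left k) (hk ▸ Dvd.intro_left _ h1) h2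
  exact le_antisymm (relIndex_eq_one.1 h3) hSP

theorem core_le_normalizer' : N ≤ normalizer (Q : Set G) :=
  le_normalizer.trans (normalizer_le_normalizer_pCoreOf N)

theorem core_le_sylow (hS : IsSylowTwoIn S N) : Q ≤ S := by
  have h : IsPGroup 2 ↥(Q ⊔ S) :=
    IsPGroup.to_sup_of_normal_left' ((Core.pCore_isPGroup 2 _).map _) hS.2.1
      (hS.1.trans core_le_normalizer')
  exact le_sup_left.trans (eq_of_two hS h le_sup_right (sup_le (map_subtype_le _) hS.1)).le

theorem sylow_conj {n : G} (hn : n ∈ N) (hS : IsSylowTwoIn S N) :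
    IsSylowTwoIn (S.map (MulAut.conj n).toMonoidHom) N := by
  have hN : N.map (MulAut.conj n).toMonoidHom = N :=
    Core.map_conj_eq_of_mem_normalizer (le_normalizer hn)
  refine ⟨hN ▸ map_mono hS.1, hS.2.1.map _, ?_⟩
  have h := relIndex_map_map_of_injective S N (f := (MulAut.conj n).toMonoidHom) (MulAut.conj n).injective
  rw [hN] at h
  rw [h]; exact hS.2.2

/-- Two Sylow 2-subgroups of `N` are conjugate in `N`. -/
theorem exists_conj_sylow {S' : Subgroup G} (hS : IsSylowTwoIn S N) (hS' : IsSylowTwoIn S' N) :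
    ∃ n ∈ N, S.map (MulAut.conj n).toMonoidHom = S' := by
  haveI : Fact (Nat.Prime 2) := ⟨Nat.prime_two⟩
  have mk : ∀ {P : Subgroup G}, IsSylowTwoIn P N → ∃ R : Sylow 2 N, (R : Subgroup N).map N.subtype = P := by
    intro P hP
    obtain ⟨R, hR⟩ := (hP.2.1.of_equiv (subgroupOfEquivOfLe hP.1).symm).exists_le_sylow
    refine ⟨R, eq_of_two hP (R.isPGroup'.map _) ?_ (map_subtype_le _)⟩
    rw [← map_subgroupOf_eq_of_le hP.1]
    exact map_mono hR
  obtain ⟨R, rfl⟩ := mk hS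
  obtain ⟨R', rfl⟩ := mk hS'
  obtain ⟨n, rfl⟩ := MulAction.exists_smul_eq N R R'
  refine ⟨n, n.2, ?_⟩
  ext z
  simp only [mem_map, Sylow.coe_subgroup_smul, Subgroup.mem_smul_pointwise_iff_exists]
  constructor
  · rintro ⟨_, ⟨v, hv, rfl⟩, rfl⟩
    exact ⟨_, ⟨v, hv, rfl⟩, by simp⟩
  · rintro ⟨_, ⟨v, hv, rfl⟩, rfl⟩
    exact ⟨_, ⟨v, hv, rfl⟩, by simp⟩

omit [Finite G] in
theorem isPGroup_Q [Finite N] : IsPGroup 2 Q := (Core.pCore_isPGroup 2 _).map _

/-! ### The context -/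

/-- The standing hypotheses on `N`. -/
structure Ctx (T N : Subgroup G) : Prop where
  hT : IsPGroup 2 T
  solv : Group.IsSolvable N
  char2 : centralizer (pCoreOf 2 N : Set G) ≤ pCoreOf 2 N
  hz : ∀ S, IsSylowTwoIn S N → N ⊓ centralizer (omegaCenterOf S : Set G) ≤ normalizer (S : Set G)
  sylow : ∃ S₀, IsSylowTwoIn S₀ N ∧ thompsonSubgroupOf 2 T ≤ S₀ ∧
    thompsonSubgroupOf 2 S₀ = thompsonSubgroupOf 2 T

/-- The hypothesis on `C(Ω₁Z(S))` passes to subgroups with self-centralizing 2-core. -/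
theorem hz_of (hZ : ∀ P : Sylow 2 G, centralizer (omegaCenterOf (P : Subgroup G) : Set G) ≤
      normalizer ((P : Subgroup G) : Set G))
    (hC : centralizer (Q : Set G) ≤ Q) (hS : IsSylowTwoIn S N) :
    N ⊓ centralizer (omegaCenterOf S : Set G) ≤ normalizer (S : Set G) := by
  obtain ⟨P, hP⟩ := hS.2.1.exists_le_sylow
  rintro x ⟨hxN, hx⟩
  have hΩ : omegaCenterOf (P : Subgroup G) ≤ omegaCenterOf S := by
    refine (closure_le _).2 fun z hz => ?_
    have hzQ : z ∈ Q := hC (mem_centralizer_iff.2 fun q hq =>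
      mem_centralizer_iff.1 hz.1.2 q (hP (core_le_sylow hS hq)))
    exact subset_closure ⟨⟨core_le_sylow hS hzQ, centralizer_le hP hz.1.2⟩, hz.2⟩
  have hxP : x ∈ normalizer ((P : Subgroup G) : Set G) := hZ P (centralizer_le hΩ hx)
  have hPN : S = (P : Subgroup G) ⊓ N :=
    (eq_of_two hS (P.isPGroup'.to_le inf_le_left) (le_inf hP hS.1) inf_le_right).symm
  rw [hPN]
  refine mem_normalizer_fintype fun y hy => ⟨(mem_normalizer_iff.1 hxP y).1 hy.1, ?_⟩
  exact N.mul_mem (N.mul_mem hxN hy.2) (N.inv_mem hxN)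

/-- A 2-local subgroup of a group of characteristic 2 type. -/
theorem twoLocal_facts (hL : IsCharacteristicTwoType G) (hN : IsTwoLocal N) :
    centralizer (Q : Set G) ≤ Q := by
  obtain ⟨R, hR, hR1, rfl⟩ := hN
  have hRQ : R ≤ pCoreOf 2 (normalizer (R : Set G)) :=
    le_pCoreOf le_normalizer le_rfl hR
  intro x hx
  have hxN : x ∈ normalizer (R : Set G) := mem_normalizer_fintype fun r hr => by
    rw [← mem_centralizer_iff.1 hx r (hRQ hr), mul_inv_cancel_right]; exact hr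
  exact ((isCharP_iff (p := 2) (normalizer (R : Set G))).2 (hL.2 R hR hR1)) ⟨hxN, hx⟩

/-- `V`: generated by the `Ω₁Z(S)`. -/
def Vc (N : Subgroup G) : Subgroup G :=
  ⨆ S : {S : Subgroup G // IsSylowTwoIn S N}, omegaCenterOf (S : Subgroup G)

/-- `D = C_N(V)`. -/
def Dk (N : Subgroup G) : Subgroup G := N ⊓ centralizer (Vc N : Set G)

section

variable (c : Ctx T N)
include c

theorem omega_le_core (hS : IsSylowTwoIn S N) : omegaCenterOf S ≤ Q := fun z hz =>
  c.char2 (mem_centralizer_iff.2 fun _ hq =>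
    (BaumannBlock.omegaOneCenter_commute (p := 2) hz (core_le_sylow hS hq)).eq.symm)

theorem Vc_le : Vc N ≤ Q := iSup_le fun S => omega_le_core c S.2

theorem Vc_le_N : Vc N ≤ N := (Vc_le c).trans (map_subtype_le _)

theorem core_le_centralizer : Q ≤ centralizer (Vc N : Set G) := by
  rw [le_centralizer_iff]
  refine iSup_le fun S z hz => mem_centralizer_iff.2 fun q hq => ?_
  exact (BaumannBlock.omegaOneCenter_commute (p := 2) hz (core_le_sylow S.2 hq)).eq.symm

theorem Vc_ea : IsElementaryAbelian 2 (Vc N) := by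
  have hcomm : ∀ a ∈ Vc N, ∀ b ∈ Vc N, Commute a b := fun a ha b hb =>
    (mem_centralizer_iff.1 (core_le_centralizer c (Vc_le c hb)) a ha)
  refine ⟨⟨⟨fun a b => Subtype.ext (hcomm a a.2 b b.2).eq⟩⟩, fun a ha => ?_⟩
  suffices h : Vc N ≤
      { carrier := {x | x ∈ Vc N ∧ x ^ 2 = 1}
        one_mem' := ⟨one_mem _, one_pow 2⟩
        mul_mem' := fun hx hy => ⟨mul_mem hx.1 hy.1, by rw [(hcomm _ hx.1 _ hy.1).mul_pow, hx.2, hy.2, one_mul]⟩
        inv_mem' := fun hx => ⟨inv_mem hx.1, by rw [inv_pow, hx.2, inv_one]⟩ : Subgroup G } from (h ha).2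
  refine iSup_le fun S => fun z hz => ⟨le_iSup (fun S : {S : Subgroup G // IsSylowTwoIn S N} =>
    omegaCenterOf (S : Subgroup G)) S hz, BaumannBlock.omegaOneCenter_pow (p := 2) hz⟩

omit c in
theorem Vc_normalized : N ≤ normalizer (Vc N : Set G) := by
  refine Core.le_normalizer_iff_conj_mem.2 fun n hn z hz => ?_
  suffices h : Vc N ≤ (Vc N).comap (MulAut.conj n).toMonoidHom from h hz
  refine iSup_le fun S => map_le_iff_le_comap.1 ?_
  refine le_trans (le_of_eq ?_) (le_iSup (fun S : {S : Subgroup G // IsSylowTwoIn S N} =>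
    omegaCenterOf (S : Subgroup G)) ⟨_, sylow_conj hn S.2⟩)
  show (omegaOne 2 _).map _ = omegaOne 2 _
  rw [GlaubermanZJ.map_omegaOne _ (MulAut.conj n).injective, Subgroup.map_inf _ _ _ (MulAut.conj n).injective]
  congr 2
  ext x
  simp only [mem_map, mem_centralizer_iff, SetLike.mem_coe]
  constructor
  · rintro ⟨y, hy, rfl⟩ _ ⟨w, hw, rfl⟩
    rw [← map_mul, hy w hw, map_mul]
  · intro hx
    refine ⟨(MulAut.conj n).symm x, fun w hw => (MulAut.conj n).injective ?_,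
      (MulAut.conj n).apply_symm_apply x⟩
    have := hx _ ⟨w, hw, rfl⟩
    rw [map_mul, map_mul, MulEquiv.apply_symm_apply]
    exact this

omit c in
theorem Dk_le : Dk N ≤ N := inf_le_left

omit c in
theorem Dk_normalized : N ≤ normalizer (Dk N : Set G) := by
  refine Core.le_normalizer_iff_conj_mem.2 fun n hn d hd =>
    ⟨N.mul_mem (N.mul_mem hn hd.1) (N.inv_mem hn), mem_centralizer_iff.2 fun v hv => ?_⟩
  have h := mem_centralizer_iff.1 hd.2 _ ((mem_normalizer_iff''.1 (Vc_normalized hn) v).1 hv)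
  calc v * (n * d * n⁻¹) = n * ((n⁻¹ * v * n) * d) * n⁻¹ := by group
    _ = n * (d * (n⁻¹ * v * n)) * n⁻¹ := by rw [h]
    _ = n * d * n⁻¹ * v := by group

theorem core_le_Dk : Q ≤ Dk N := le_inf (map_subtype_le _) (core_le_centralizer c)

theorem Dk_le_normalizer (hS : IsSylowTwoIn S N) : Dk N ≤ normalizer (S : Set G) :=
  (inf_le_inf_left _ (centralizer_le (le_iSup (fun S : {S : Subgroup G // IsSylowTwoIn S N} =>
    omegaCenterOf (S : Subgroup G)) ⟨S, hS⟩))).trans (c.hz S hS)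

theorem Dk_inf (hS : IsSylowTwoIn S N) : Dk N ⊓ S ≤ Q := by
  have h1 : Dk N ⊓ S ≤ pCoreOf 2 (Dk N) := by
    refine le_pCoreOf inf_le_left ?_ (hS.2.1.to_le inf_le_right)
    exact Core.le_normalizer_iff_conj_mem.2 fun d hd x hx =>
      ⟨(Dk N).mul_mem ((Dk N).mul_mem hd hx.1) ((Dk N).inv_mem hd),
        (mem_normalizer_iff.1 (Dk_le_normalizer c hS hd) x).1 hx.2⟩
  exact h1.trans (le_pCoreOf ((map_subtype_le _).trans Dk_le)
    (Dk_normalized.trans (normalizer_le_normalizer_pCoreOf _)) ((Core.pCore_isPGroup 2 _).map _))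

theorem two_in_Dk {P : Subgroup G} (hP : IsPGroup 2 P) (h : P ≤ Dk N) : P ≤ Q := by
  obtain ⟨S, hS, hPS⟩ := exists_sylow hP (h.trans Dk_le)
  exact (le_inf h hPS).trans (Dk_inf c hS)

omit c in
theorem card_sup_mul_card_inf' {A B : Subgroup G} (hB : B ≤ normalizer (A : Set G)) :
    Nat.card ↥(A ⊔ B) * Nat.card ↥(A ⊓ B) = Nat.card A * Nat.card B := by
  have h1 := Core.card_mul_relIndex (le_sup_left : A ≤ A ⊔ B)
  have h2 := Core.card_mul_relIndex (inf_le_right : A ⊓ B ≤ B)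
  haveI : (A.subgroupOf (A ⊔ B)).Normal :=
    (normal_subgroupOf_iff_le_normalizer le_sup_left).2 (sup_le le_normalizer hB)
  have h3 : A.relIndex (A ⊔ B) = A.relIndex B := by
    rw [← relIndex_subgroupOf (le_sup_right : B ≤ A ⊔ B), relIndex, ← relIndex_top_right,
      ← subgroupOf_self (H := A ⊔ B), subgroupOf_sup le_sup_left le_sup_right,
      sup_comm (A.subgroupOf (A ⊔ B)), relIndex_sup_right]
  rw [inf_relIndex_right] at h2
  rw [← h1, h3, mul_assoc, mul_comm (A.relIndex B), h2]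

/-- `O₂(N / D) = 1`. -/
theorem normal_two_le {M : Subgroup G} (hMN : M ≤ N) (hNM : N ≤ normalizer (M : Set G))
    (h : ∀ x ∈ M, ∃ k : ℕ, x ^ 2 ^ k ∈ Dk N) : M ≤ Dk N := by
  haveI : Fact (Nat.Prime 2) := ⟨Nat.prime_two⟩
  refine le_inf hMN ?_
  rw [le_centralizer_iff]
  refine iSup_le fun S => ?_
  rw [← le_centralizer_iff]
  set C := centralizer (omegaCenterOf (S : Subgroup G) : Set G) with hC
  have hsub : ((S : Subgroup G) ⊓ M) ⊔ (Dk N ⊓ M) ≤ C := by
    refine sup_le (fun x hx => mem_centralizer_iff.2 fun z hz =>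
      (BaumannBlock.omegaOneCenter_commute (p := 2) hz hx.1).eq) ?_
    exact inf_le_left.trans (inf_le_right.trans (centralizer_le
      (le_iSup (fun S : {S : Subgroup G // IsSylowTwoIn S N} => omegaCenterOf (S : Subgroup G)) S)))
  refine le_trans (le_of_eq (le_antisymm ?_ (sup_le inf_le_right inf_le_right))) hsub
  set P := ((S : Subgroup G) ⊓ M) ⊔ (Dk N ⊓ M) with hPdef
  -- the index divides a power of two
  obtain ⟨j, hj⟩ : ∃ j, (Dk N ⊓ M).relIndex M = 2 ^ j := by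
    haveI : ((Dk N ⊓ M).subgroupOf M).Normal := by
      refine (normal_subgroupOf_iff_le_normalizer inf_le_right).2 ?_
      exact Core.le_normalizer_iff_conj_mem.2 fun m hm x hx =>
        ⟨(mem_normalizer_iff.1 (Dk_normalized (hMN hm)) x).1 hx.1, M.mul_mem (M.mul_mem hm hx.2) (M.inv_mem hm)⟩
    have hp : IsPGroup 2 (M ⧸ (Dk N ⊓ M).subgroupOf M) := by
      intro q
      obtain ⟨⟨x, hx⟩, rfl⟩ := QuotientGroup.mk_surjective q
      obtain ⟨k, hk⟩ := h x hx
      refine ⟨k, ?_⟩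
      rw [← QuotientGroup.mk_pow, QuotientGroup.eq_one_iff, mem_subgroupOf]
      exact ⟨hk, M.pow_mem hx _⟩
    exact IsPGroup.iff_card.1 hp
  have hodd : Odd (((S : Subgroup G) ⊓ M).relIndex M) := by
    have e1 := card_sup_mul_card_inf' (A := M) (B := (S : Subgroup G)) (S.2.1.trans hNM)
    have e2 := Core.card_mul_relIndex (inf_le_right : (S : Subgroup G) ⊓ M ≤ M)
    have e3 := Core.card_mul_relIndex (le_sup_right : (S : Subgroup G) ≤ M ⊔ S)
    rw [inf_comm] at e1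
    have e4 : ((S : Subgroup G) ⊓ M).relIndex M = (S : Subgroup G).relIndex (M ⊔ S) := by
      apply Nat.eq_of_mul_eq_mul_left (Nat.card_pos (α := ↥((S : Subgroup G) ⊓ M)))
      rw [e2]
      apply Nat.eq_of_mul_eq_mul_right (Nat.card_pos (α := (S : Subgroup G)))
      rw [← e1, ← e3]; ring
    rw [e4]
    exact S.2.2.2.of_dvd_nat (Dvd.intro _ (relIndex_mul_relIndex _ _ N le_sup_right (sup_le hMN S.2.1)))
  have d1 : P.relIndex M ∣ ((S : Subgroup G) ⊓ M).relIndex M := relIndex_dvd_of_le_left M le_sup_left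
  have d2 : P.relIndex M ∣ 2 ^ j := hj ▸ relIndex_dvd_of_le_left M le_sup_right
  exact relIndex_eq_one.1 (Nat.eq_one_of_dvd_coprimes ((Nat.coprime_two_left.2 hodd).pow_left j) d2 d1)

theorem pCore_quotient_eq_bot [((Vc N).subgroupOf N).Normal] :
    pCore 2 (N ⧸ centralizer ((Vc N).subgroupOf N : Set N)) = ⊥ := by
  set C' := centralizer ((Vc N).subgroupOf N : Set N) with hC'
  have hmem : ∀ x : N, x ∈ C' ↔ (x : G) ∈ Dk N := fun x => by
    refine ⟨fun hx => ⟨x.2, mem_centralizer_iff.2 fun v hv => ?_⟩, fun hx => ?_⟩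
    · exact congrArg Subtype.val (mem_centralizer_iff.1 hx ⟨v, Vc_le_N c hv⟩ hv)
    · exact mem_centralizer_iff.2 fun v hv => Subtype.ext (mem_centralizer_iff.1 hx.2 _ hv)
  set M' := (pCore 2 (N ⧸ C')).comap (QuotientGroup.mk' C') with hM'
  have hM : M'.map N.subtype ≤ Dk N := by
    refine normal_two_le c (map_subtype_le _) ?_ ?_
    · rw [← normal_subgroupOf_iff_le_normalizer (map_subtype_le _), subgroupOf,
        comap_map_eq_self_of_injective N.subtype_injective]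
      infer_instance
    · rintro _ ⟨x, hx, rfl⟩
      obtain ⟨k, hk⟩ := Core.pCore_isPGroup 2 _ ⟨_, hx⟩
      refine ⟨k, (hmem (x ^ 2 ^ k)).1 ((QuotientGroup.eq_one_iff _).1 ?_)⟩
      exact congrArg Subtype.val hk
  rw [eq_bot_iff]
  intro q hq
  obtain ⟨x, rfl⟩ := QuotientGroup.mk_surjective q
  exact mem_bot.2 ((QuotientGroup.eq_one_iff x).2 ((hmem x).2 (hM ⟨x, hq, rfl⟩)))

theorem J_le : J ≤ N := by
  obtain ⟨S₀, hS₀, h, -⟩ := c.sylow
  exact h.trans hS₀.1

/-- `[g, D] ≤ Q` for `g` in a Sylow 2-subgroup. -/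
theorem sylow_comm_Dk (hS : IsSylowTwoIn S N) {s d : G} (hs : s ∈ S) (hd : d ∈ Dk N) : ⁅s, d⁆ ∈ Q := by
  refine Dk_inf c hS ⟨?_, ?_⟩
  · rw [commutatorElement_def]
    exact (Dk N).mul_mem ((mem_normalizer_iff.1 (Dk_normalized (hS.1 hs)) d).1 hd) ((Dk N).inv_mem hd)
  · rw [commutatorElement_def, show s * d * s⁻¹ * d⁻¹ = s * (d * s⁻¹ * d⁻¹) by group]
    exact S.mul_mem hs ((mem_normalizer_iff.1 (Dk_le_normalizer c hS hd) _).1 (S.inv_mem hs))

variable (hK : IsJComponent T K) (hKN : K ≤ N)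
include hK hKN

theorem component_comm_Dk {k d : G} (hk : k ∈ K) (hd : d ∈ Dk N) : ⁅k, d⁆ ∈ Q := by
  obtain ⟨S₀, hS₀, hJS, -⟩ := c.sylow
  let Cq : Subgroup G :=
    { carrier := {g | g ∈ N ∧ ∀ d ∈ Dk N, ⁅g, d⁆ ∈ Q}
      one_mem' := ⟨N.one_mem, fun d _ => by simp⟩
      mul_mem' := by
        rintro a b ⟨ha, ha'⟩ ⟨hb, hb'⟩
        refine ⟨N.mul_mem ha hb, fun d hd => ?_⟩
        rw [show ⁅a * b, d⁆ = a * ⁅b, d⁆ * a⁻¹ * ⁅a, d⁆ by simp [commutatorElement_def]; group]
        exact mul_mem ((mem_normalizer_iff.1 (core_le_normalizer' ha) _).1 (hb' d hd)) (ha' d hd)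
      inv_mem' := by
        rintro a ⟨ha, ha'⟩
        refine ⟨N.inv_mem ha, fun d hd => ?_⟩
        rw [show ⁅a⁻¹, d⁆ = a⁻¹ * ⁅a, d⁆⁻¹ * a by simp [commutatorElement_def]; group]
        exact (mem_normalizer_iff''.1 (core_le_normalizer' ha) _).1 (inv_mem (ha' d hd)) }
  have hS : ∀ S, IsSylowTwoIn S N → S ≤ Cq := fun S hS s hs =>
    ⟨hS.1 hs, fun d hd => sylow_comm_Dk c hS hs hd⟩
  suffices h : K ≤ Cq from (h hk).2 d hd
  refine hK.2.1.ge.trans (commutator_le.2 fun k hk j hj => ?_)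
  exact mul_mem (hS _ (sylow_conj (hKN hk) hS₀) ⟨j, hJS hj, rfl⟩) (inv_mem (hS _ hS₀ (hJS hj)))

theorem not_le_Dk : ¬ K ≤ Dk N := by
  intro h
  have h1 : K ≤ Q := by
    refine hK.2.1.ge.trans (commutator_le.2 fun k hk j hj => ?_)
    obtain ⟨S₀, hS₀, hJS, -⟩ := c.sylow
    rw [← commutatorElement_inv]
    exact inv_mem (sylow_comm_Dk c hS₀ (hJS hj) (h hk))
  obtain ⟨ρ, hρ, -, hn, -⟩ := exists_rho hK
  exact hn ((eq_core_of_two hK core_le le_rfl (isPGroup_Q.to_le h1)).le hρ)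

omit hKN in
theorem J_not_le_core (hKN : K ≤ N) : ¬ J ≤ Q := by
  intro h
  have h1 : K ≤ Q := by
    refine hK.2.1.ge.trans (commutator_le.2 fun k hk j hj => ?_)
    rw [commutatorElement_def]
    exact mul_mem ((mem_normalizer_iff.1 (core_le_normalizer' (hKN hk)) j).1 (h hj)) (inv_mem (h hj))
  obtain ⟨ρ, hρ, -, hn, -⟩ := exists_rho hK
  exact hn ((eq_core_of_two hK core_le le_rfl (isPGroup_Q.to_le h1)).le hρ)

/-- `O₂(N)` normalizes `K`. -/
theorem core_le_normalizer_component : Q ≤ normalizer (K : Set G) := by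
  haveI : Fact (Nat.Prime 2) := ⟨Nat.prime_two⟩
  obtain ⟨S₀, hS₀, -, hJS⟩ := c.sylow
  have hQJ : Q ≤ normalizer (J : Set G) := by
    have := Thompson.normalizer_le_normalizer_thompsonSubgroupOf (p := 2) S₀
    rw [hJS] at this
    exact (core_le_sylow hS₀).trans (le_normalizer.trans this)
  have hJQ : J ≤ normalizer (Q : Set G) := (J_le c).trans core_le_normalizer'
  have hME : Q ⊓ J ≤ normalizer (K : Set G) := inf_le_right.trans (J_le_normalizer hK)
  have hmap : ∀ q ∈ Q, ∀ x ∈ K, q * x * q⁻¹ ∈ K := by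
    intro q hq
    have hconj : K.map (MulAut.conj q).toMonoidHom ≤ K ⊔ (Q ⊓ J) := by
      have h1 := congrArg (Subgroup.map (MulAut.conj q).toMonoidHom) hK.2.1
      rw [map_commutator, Core.map_conj_eq_of_mem_normalizer (hQJ hq)] at h1
      rw [← h1, commutator_le]
      rintro _ ⟨e, he, rfl⟩ b hb
      set q' := e⁻¹ * (MulAut.conj q) e with hq'def
      have hq' : q' ∈ Q := by
        have h2 : e⁻¹ * q * e ∈ Q := (mem_normalizer_iff''.1 (core_le_normalizer' (hKN he)) q).1 hq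
        have : q' = (e⁻¹ * q * e) * q⁻¹ := by simp [hq'def]; group
        rw [this]; exact mul_mem h2 (inv_mem hq)
      have hqb : ⁅q', b⁆ ∈ Q ⊓ J := by
        refine ⟨?_, ?_⟩
        · rw [commutatorElement_def, show q' * b * q'⁻¹ * b⁻¹ = q' * (b * q'⁻¹ * b⁻¹) by group]
          exact (Q).mul_mem hq' ((mem_normalizer_iff.1 (hJQ hb) _).1 ((Q).inv_mem hq'))
        · rw [commutatorElement_def]
          exact (J).mul_mem ((mem_normalizer_iff.1 (hQJ hq') b).1 hb) ((J).inv_mem hb)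
      have heb : ⁅e, b⁆ ∈ K := hK.2.1.le (commutator_mem_commutator he hb)
      have : (MulAut.conj q).toMonoidHom e = e * q' := by rw [hq'def, mul_inv_cancel_left]; rfl
      rw [this, show ⁅e * q', b⁆ = e * ⁅q', b⁆ * e⁻¹ * ⁅e, b⁆ by simp [commutatorElement_def]; group]
      exact mul_mem (BaumannBlock.conj_sup_mem hME he (mem_sup_right hqb)) (mem_sup_left heb)
    have hsub : K ≤ K.comap (MulAut.conj q).toMonoidHom := le_of_odd hK fun x hx ho => by
      refine BaumannBlock.mem_of_coprime hME (isPGroup_Q.to_le inf_le_left) (hconj ⟨x, hx, rfl⟩) ?_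
      show (orderOf (MulAut.conj q x)).Coprime 2
      rw [MulEquiv.orderOf_eq]; exact odd_iff_coprime.1 ho
    exact fun x hx => hsub hx
  exact Core.le_normalizer_iff_conj_mem.2 hmap

/-- The preimage of the derived group of the offender group. -/
theorem exists_layer : ∃ E : Subgroup G, E ≤ N ∧ N ≤ normalizer (E : Set G) ∧ K ≤ E ∧ Dk N ≤ E ∧
    (∀ x ∈ E, x ^ 3 ∈ Dk N) ∧ (∀ x ∈ E, ∀ y ∈ E, ⁅x, y⁆ ∈ Dk N) := by
  haveI : Fact (Nat.Prime 2) := ⟨Nat.prime_two⟩
  haveI : Group.IsSolvable N := c.solv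
  set V' := (Vc N).subgroupOf N with hV'
  haveI : V'.Normal := (normal_subgroupOf_iff_le_normalizer (Vc_le_N c)).2 Vc_normalized
  have hVea : IsElementaryAbelian 2 V' := Thompson.isEA_subgroupOf (Vc_ea c) N
  have hker : ∀ x : N, x ∈ (FF.toModel V').ker ↔ (x : G) ∈ Dk N := fun x => by
    rw [FF.toModel_ker]
    refine ⟨fun hx => ⟨x.2, mem_centralizer_iff.2 fun v hv => ?_⟩, fun hx => ?_⟩
    · exact congrArg Subtype.val (mem_centralizer_iff.1 hx ⟨v, Vc_le_N c hv⟩ hv)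
    · exact mem_centralizer_iff.2 fun v hv => Subtype.ext (mem_centralizer_iff.1 hx.2 _ hv)
  set K' := normalClosure (((J).subgroupOf N : Subgroup N) : Set N) with hK'
  set H := K'.map (FF.toModel V') with hH
  have hs : FF.Setup 2 (FF.modV V') H :=
    FF.setup_model V' Core.isPSolvable_of_isSolvable hVea (pCore_quotient_eq_bot c) K'
  obtain ⟨S₀, hS₀, hJS, hJeq⟩ := c.sylow
  have hbest : ∀ A, IsMaxEAIn 2 T A → ∀ n : N,
      IsBestOffenderOn 2 (FF.modV V') (((A.subgroupOf N).map (MulAut.conj n).toMonoidHom).map (FF.toModel V')) := by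
    intro A hA n
    have hA' := max_of_thompson_eq hJeq hA
    refine FF.best_of_maxEA' V' hVea ⟨Thompson.isEA_map _ (Thompson.isEA_subgroupOf hA.2.1 N), fun B hB hBe => ?_⟩
    have hAN : A ≤ N := hA'.1.trans hS₀.1
    rw [BaumannBlock.card_map_mulEquiv, Nat.card_congr (subgroupOfEquivOfLe hAN).toEquiv,
      ← BaumannBlock.card_map_mulEquiv (MulAut.conj n⁻¹) B, ← card_map_of_injective N.subtype_injective]
    refine hA'.2.2 _ ?_ (Thompson.isEA_map _ (Thompson.isEA_map _ hBe))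
    refine (map_mono (map_mono hB)).trans ?_
    rw [Subgroup.map_sup, Subgroup.map_sup, Core.map_conj_eq_of_mem_normalizer (show n⁻¹ ∈ normalizer (V' : Set N) by rw [normalizer_eq_top]; exact mem_top _),
      map_subgroupOf_eq_of_le (Vc_le_N c)]
    refine sup_le ?_ ((Vc_le c).trans (core_le_sylow hS₀))
    rintro _ ⟨_, ⟨_, ⟨a, ha, rfl⟩, rfl⟩, rfl⟩
    have : ((MulAut.conj n⁻¹).toMonoidHom ((MulAut.conj n).toMonoidHom a) : N) = a := by
      simp [mul_assoc]
    rw [this]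
    exact hA'.1 ha
  have hgen : H = ⨆ A : {A : Subgroup (FF.Model V') // A ≤ H ∧ IsBestOffenderOn 2 (FF.modV V') A},
      (A : Subgroup (FF.Model V')) := by
    refine le_antisymm ?_ (iSup_le fun A => A.2.1)
    rw [hH, map_le_iff_le_comap, hK', ← SetLike.coe_subset_coe]
    show ((normalClosure _ : Subgroup N) : Set N) ⊆ _
    rw [normalClosure, SetLike.coe_subset_coe, closure_le]
    intro y hy
    obtain ⟨x, hx, hxy⟩ := Group.mem_conjugatesOfSet_iff.1 hy
    obtain ⟨n, rfl⟩ := isConj_iff.1 hxy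
    suffices hsub : (J).subgroupOf N ≤ ((⨆ A : {A : Subgroup (FF.Model V') //
        A ≤ H ∧ IsBestOffenderOn 2 (FF.modV V') A}, (A : Subgroup (FF.Model V'))).comap
          (FF.toModel V')).comap (MulAut.conj n).toMonoidHom from hsub hx
    have hmap : (((J).subgroupOf N).map N.subtype) = J := map_subgroupOf_eq_of_le (J_le c)
    rw [← map_le_map_iff_of_injective N.subtype_injective, hmap]
    conv_lhs => rw [thompsonSubgroupOf_eq_sSup]
    rw [sSup_le_iff]
    intro A hA a ha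
    have haN : a ∈ N := J_le c (le_J hA ha)
    refine ⟨⟨a, haN⟩, ?_, rfl⟩
    refine le_iSup (fun A : {A : Subgroup (FF.Model V') // A ≤ H ∧ IsBestOffenderOn 2 (FF.modV V') A} =>
      (A : Subgroup (FF.Model V'))) ⟨_, map_mono ?_, hbest A hA n⟩ ⟨_, ⟨⟨a, haN⟩, ha, rfl⟩, rfl⟩
    rintro _ ⟨u, hu, rfl⟩
    exact (normalClosure_normal).conj_mem u (subset_normalClosure (le_J hA hu)) n
  have hJK : ∀ j (hj : j ∈ J), (⟨j, J_le c hj⟩ : N) ∈ K' := fun j hj => subset_normalClosure hj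
  have hH1 : H ≠ ⊥ := by
    intro hbot
    apply J_not_le_core c hK hKN
    refine two_in_Dk c (isPGroup_J c.hT) fun j hj => (hker ⟨j, J_le c hj⟩).1 ?_
    rw [MonoidHom.mem_ker, ← mem_bot, ← hbot]
    exact ⟨_, hJK j hj, rfl⟩
  have hea := derived_isEA (FF.modV V') H hs hgen hH1
  set E' := (⁅H, H⁆).comap (FF.toModel V') with hE'
  refine ⟨E'.map N.subtype, map_subtype_le _, ?_, ?_, ?_, ?_, ?_⟩
  · rw [← normal_subgroupOf_iff_le_normalizer (map_subtype_le _), subgroupOf,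
      comap_map_eq_self_of_injective N.subtype_injective]
    refine ⟨fun x hx n => ?_⟩
    show FF.toModel V' (n * x * n⁻¹) ∈ ⁅H, H⁆
    rw [map_mul, map_mul, map_inv]
    have hn : H.map (MulAut.conj (FF.toModel V' n)).toMonoidHom ≤ H := by
      rintro _ ⟨_, ⟨u, hu, rfl⟩, rfl⟩
      exact ⟨n * u * n⁻¹, (normalClosure_normal).conj_mem u hu n, by simp⟩
    have h2 := map_commutator H H (MulAut.conj (FF.toModel V' n)).toMonoidHom
    exact (commutator_mono hn hn) (h2.le ⟨_, hx, rfl⟩)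
  · -- `K = [K, J]` twice
    have h1 : ∀ k, ∀ hk : k ∈ K, FF.toModel V' ⟨k, hKN hk⟩ ∈ H := by
      suffices h : K ≤ (H.comap (FF.toModel V')).map N.subtype by
        intro k hk
        obtain ⟨x, hx, hxk⟩ := h hk
        have : x = ⟨k, hKN hk⟩ := Subtype.ext hxk
        rw [← this]; exact hx
      refine hK.2.1.ge.trans (commutator_le.2 fun k hk j hj => ?_)
      refine ⟨⁅(⟨k, hKN hk⟩ : N), ⟨j, J_le c hj⟩⁆, ?_, rfl⟩
      exact ⟨_, (K').mul_mem ((normalClosure_normal).conj_mem _ (hJK j hj) ⟨k, hKN hk⟩)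
        ((K').inv_mem (hJK j hj)), rfl⟩
    refine hK.2.1.ge.trans (commutator_le.2 fun k hk j hj => ?_)
    refine ⟨⁅(⟨k, hKN hk⟩ : N), ⟨j, J_le c hj⟩⁆, ?_, rfl⟩
    show FF.toModel V' ⁅_, _⁆ ∈ ⁅H, H⁆
    rw [map_commutatorElement]
    exact commutator_mem_commutator (h1 k hk) ⟨_, hJK j hj, rfl⟩
  · intro d hd
    refine ⟨⟨d, hd.1⟩, ?_, rfl⟩
    show FF.toModel V' ⟨d, hd.1⟩ ∈ ⁅H, H⁆
    rw [MonoidHom.mem_ker.1 ((hker ⟨d, hd.1⟩).2 hd)]
    exact one_mem _
  · rintro _ ⟨x, hx, rfl⟩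
    refine (hker (x ^ 3)).1 ?_
    rw [MonoidHom.mem_ker, map_pow]
    exact hea.2 _ hx
  · rintro _ ⟨x, hx, rfl⟩ _ ⟨y, hy, rfl⟩
    refine (hker ⁅x, y⁆).1 ?_
    rw [MonoidHom.mem_ker, map_commutatorElement, commutatorElement_eq_one_iff_mul_comm]
    exact Thompson.isEA_commute hea hx hy

/-- `O₂(K) ≤ O₂(N)`. -/
theorem coreK_le : R2 ≤ Q := by
  obtain ⟨E, -, -, hKE, -, h3, -⟩ := exists_layer c hK hKN
  refine two_in_Dk c isPGroup_core fun x hx => ?_
  obtain ⟨k, hk⟩ := isPGroup_core (K := K) ⟨x, hx⟩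
  have hk' : x ^ 2 ^ k = 1 := congrArg Subtype.val hk
  have hcop : Nat.Coprime 3 (orderOf x) :=
    Nat.Coprime.coprime_dvd_right (orderOf_dvd_of_pow_eq_one hk') ((by decide : Nat.Coprime 3 2).pow_right k)
  obtain ⟨m, hm⟩ := exists_pow_eq_self_of_coprime hcop
  rw [← hm]
  exact pow_mem (h3 x (hKE (core_le hx))) m

theorem comm_Vc_mem {k v : G} (hk : k ∈ K) (hv : v ∈ Vc N) : ⁅k, v⁆ ∈ W := by
  haveI : Fact (Nat.Prime 2) := ⟨Nat.prime_two⟩
  have hKW : K ≤ normalizer (W : Set G) := le_normalizer.trans normalizer_le_normalizer_W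
  have hVK : Vc N ≤ normalizer (K : Set G) := (Vc_le c).trans (core_le_normalizer_component c hK hKN)
  have hVN : K ≤ normalizer (Vc N : Set G) := hKN.trans Vc_normalized
  have hea := Vc_ea c
  have hinf : Vc N ⊓ K ≤ R2 := by
    have h2 : IsPGroup 2 ↥(R2 ⊔ (Vc N ⊓ K)) :=
      IsPGroup.to_sup_of_normal_left' isPGroup_core ((isPGroup_Q.to_le (Vc_le c)).to_le inf_le_left)
        (inf_le_right.trans (le_normalizer.trans (normalizer_le_normalizer_pCoreOf K)))
    exact le_trans le_sup_right (eq_core_of_two hK le_sup_left (sup_le core_le inf_le_right) h2).le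
  have hΩ : ∀ k ∈ K, ∀ v ∈ Vc N, ⁅k, v⁆ ∈ omegaCenterOf R2 := by
    intro k hk v hv
    have h1 : ⁅k, v⁆ ∈ Vc N := by
      rw [commutatorElement_def]
      exact mul_mem ((mem_normalizer_iff.1 (hVN hk) v).1 hv) (inv_mem hv)
    have h2 : ⁅k, v⁆ ∈ K := by
      rw [commutatorElement_def, show k * v * k⁻¹ * v⁻¹ = k * (v * k⁻¹ * v⁻¹) by group]
      exact mul_mem hk ((mem_normalizer_iff.1 (hVK hv) _).1 (inv_mem hk))
    refine subset_closure ⟨⟨hinf ⟨h1, h2⟩, mem_centralizer_iff.2 fun q hq => ?_⟩, hea.2 _ h1⟩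
    exact (mem_centralizer_iff.1 (core_le_centralizer c (coreK_le c hK hKN hq)) _ h1).symm
  let Cw : Subgroup G :=
    { carrier := {g | g ∈ normalizer (W : Set G) ∧ ∀ v ∈ Vc N, ⁅g, v⁆ ∈ W}
      one_mem' := ⟨one_mem _, by simp⟩
      mul_mem' := by
        rintro a b ⟨ha, ha'⟩ ⟨hb, hb'⟩
        refine ⟨mul_mem ha hb, fun y hy => ?_⟩
        rw [show ⁅a * b, y⁆ = a * ⁅b, y⁆ * a⁻¹ * ⁅a, y⁆ by simp [commutatorElement_def]; group]
        exact mul_mem ((mem_normalizer_iff.1 ha _).1 (hb' y hy)) (ha' y hy)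
      inv_mem' := by
        rintro a ⟨ha, ha'⟩
        refine ⟨inv_mem ha, fun y hy => ?_⟩
        rw [show ⁅a⁻¹, y⁆ = a⁻¹ * ⁅a, y⁆⁻¹ * a by simp [commutatorElement_def]; group]
        exact (mem_normalizer_iff''.1 ha _).1 (inv_mem (ha' y hy)) }
  suffices h : K ≤ Cw from (h hk).2 v hv
  refine le_of_odd hK fun e he ho => ⟨hKW he, fun v hv => ?_⟩
  -- compute modulo `W`
  have hu : ⁅e, v⁆ ∈ omegaCenterOf R2 := hΩ e he v hv
  have hue : ⁅e, ⁅e, v⁆⁆ ∈ W := by
    rw [wOf, commutator_comm]; exact commutator_mem_commutator he hu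
  have hvW : v ∈ normalizer (W : Set G) := normalizer_le_normalizer_W (hVK hv)
  set Nw := normalizer (W : Set G)
  set W' := (W).subgroupOf Nw with hW'
  haveI : W'.Normal := (normal_subgroupOf_iff_le_normalizer le_normalizer).2 le_rfl
  set π := QuotientGroup.mk' W'
  set e' : Nw := ⟨e, hKW he⟩
  set v' : Nw := ⟨v, hvW⟩
  have hc1 : (orderOf (π e')).Coprime 2 :=
    (odd_iff_coprime.1 ho).coprime_dvd_left ((orderOf_map_dvd π e').trans (by rw [Subgroup.orderOf_mk]))
  have h1 : ⁅π e', π v'⁆ = π ⁅e', v'⁆ := (map_commutatorElement π e' v').symm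
  have hsq : (⁅e', v'⁆ : Nw) ^ 2 = 1 := Subtype.ext (omega_pow hu)
  have hcomm : Commute (π e') ⁅π e', π v'⁆ := by
    rw [h1]
    refine commutatorElement_eq_one_iff_mul_comm.1 ?_
    rw [← map_commutatorElement]
    exact (QuotientGroup.eq_one_iff _).2 (mem_subgroupOf.2 hue)
  have hcomm2 : Commute (π v') ⁅π e', π v'⁆ := by
    rw [h1]
    refine (Commute.map ?_ π)
    refine Subtype.ext ?_
    exact (Thompson.isEA_commute hea hv (show ⁅e, v⁆ ∈ Vc N by
      rw [commutatorElement_def]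
      exact mul_mem ((mem_normalizer_iff.1 (hVN he) v).1 hv) (inv_mem hv))).eq
  have := BaumannBlock.commute_of_coprime hc1 (by rw [h1, ← map_pow, hsq, map_one]) hcomm hcomm2
  have h3 : π ⁅e', v'⁆ = 1 := by
    rw [← h1]; exact commutatorElement_eq_one_iff_mul_comm.2 this.eq
  exact mem_subgroupOf.1 ((QuotientGroup.eq_one_iff _).1 h3)

theorem W_eq : ⁅K, Vc N⁆ = W := by
  refine eq_W_of_invariant hK (commutator_le.2 fun k hk v hv => comm_Vc_mem c hK hKN hk hv) ?_ ?_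
  · intro h
    refine not_le_Dk c hK hKN (le_inf hKN ?_)
    exact commutator_eq_bot_iff_le_centralizer.1 h
  · refine Core.le_normalizer_iff_conj_mem.2 fun k hk x hx => ?_
    have h1 : (⁅K, Vc N⁆).map (MulAut.conj k).toMonoidHom = ⁅K, Vc N⁆ := by
      rw [map_commutator, Core.map_conj_eq_of_mem_normalizer (le_normalizer hk),
        Core.map_conj_eq_of_mem_normalizer (Vc_normalized (hKN hk))]
    exact h1.le ⟨x, hx, rfl⟩

theorem W_le_Vc : W ≤ Vc N := by
  rw [← W_eq c hK hKN, commutator_le]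
  intro k hk v hv
  rw [commutatorElement_def]
  exact mul_mem ((mem_normalizer_iff.1 (Vc_normalized (hKN hk)) v).1 hv) (inv_mem hv)

/-- An element of `J` inducing a transvection on `V`, nontrivial on `W`. -/
theorem exists_atom : ∃ a ∈ J, a ∉ centralizer (W : Set G) ∧ ∀ v ∈ Vc N, ⁅a, v⁆ ∈ W := by
  haveI : Fact (Nat.Prime 2) := ⟨Nat.prime_two⟩
  haveI : Group.IsSolvable N := c.solv
  set V' := (Vc N).subgroupOf N with hV'
  haveI : V'.Normal := (normal_subgroupOf_iff_le_normalizer (Vc_le_N c)).2 Vc_normalized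
  have hVea : IsElementaryAbelian 2 V' := Thompson.isEA_subgroupOf (Vc_ea c) N
  obtain ⟨A, hA, hAW⟩ := exists_moving hK
  obtain ⟨S₀, hS₀, hJS, hJeq⟩ := c.sylow
  have hA' := max_of_thompson_eq hJeq hA
  have hAN : A ≤ N := hA'.1.trans hS₀.1
  set K' := normalClosure (((J).subgroupOf N : Subgroup N) : Set N) with hK'
  set H := K'.map (FF.toModel V') with hH
  have hs : FF.Setup 2 (FF.modV V') H :=
    FF.setup_model V' Core.isPSolvable_of_isSolvable hVea (pCore_quotient_eq_bot c) K'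
  have hbest : IsBestOffenderOn 2 (FF.modV V') ((A.subgroupOf N).map (FF.toModel V')) := by
    refine FF.best_of_maxEA' V' hVea ⟨Thompson.isEA_subgroupOf hA.2.1 N, fun B hB hBe => ?_⟩
    rw [Nat.card_congr (subgroupOfEquivOfLe hAN).toEquiv, ← card_map_of_injective N.subtype_injective]
    refine hA'.2.2 _ ?_ (Thompson.isEA_map _ hBe)
    refine (map_mono hB).trans ?_
    rw [Subgroup.map_sup, map_subgroupOf_eq_of_le hAN, map_subgroupOf_eq_of_le (Vc_le_N c)]
    exact sup_le hA'.1 ((Vc_le c).trans (core_le_sylow hS₀))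
  have hAH : (A.subgroupOf N).map (FF.toModel V') ≤ H :=
    map_mono fun x hx => subset_normalClosure (le_J hA hx)
  obtain ⟨k, B, hB, -, hsup⟩ := (hs.isOff_of_best hAH hbest).decomp hs
  -- some factor moves `W`
  obtain ⟨i, a, haA, haW, haB⟩ : ∃ i, ∃ a : N, a ∈ A.subgroupOf N ∧ (a : G) ∉ centralizer (W : Set G) ∧
      FF.toModel V' a ∈ B i := by
    by_contra hcon
    push Not at hcon
    apply hAW
    intro a ha
    have hle : (A.subgroupOf N).map (FF.toModel V') ≤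
        ((A ⊓ centralizer (W : Set G)).subgroupOf N).map (FF.toModel V') := by
      rw [← hsup]
      refine iSup_le fun i y hy => ?_
      obtain ⟨x, hx, rfl⟩ := (hB i).1 hy
      refine ⟨x, ⟨hx, ?_⟩, rfl⟩
      by_contra hxW
      exact hcon i x hx hxW hy
    obtain ⟨x, hx, hxa⟩ := hle ⟨⟨a, hAN ha⟩, ha, rfl⟩
    have hk : x⁻¹ * ⟨a, hAN ha⟩ ∈ centralizer (V' : Set N) := by
      rw [← FF.toModel_ker V', MonoidHom.mem_ker, map_mul, map_inv, hxa, inv_mul_cancel]
    have hc : (x : G)⁻¹ * a ∈ centralizer (W : Set G) := mem_centralizer_iff.2 fun w hw => by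
      have := mem_centralizer_iff.1 hk ⟨w, Vc_le_N c (W_le_Vc c hK hKN hw)⟩ (W_le_Vc c hK hKN hw)
      exact congrArg Subtype.val this
    have := mul_mem (show (x : G) ∈ centralizer (W : Set G) from hx.2) hc
    rwa [mul_inv_cancel_left] at this
  refine ⟨a, le_J hA haA, haW, ?_⟩
  -- the fixed points of `a` have index two in `V`
  have hzp : (zpowers a).map (FF.toModel V') = B i := by
    have hne : FF.toModel V' a ≠ 1 := fun h => haW (mem_centralizer_iff.2 fun w hw => by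
      have h1 : a ∈ centralizer (V' : Set N) := by rw [← FF.toModel_ker V']; exact h
      exact congrArg Subtype.val
        (mem_centralizer_iff.1 h1 ⟨w, Vc_le_N c (W_le_Vc c hK hKN hw)⟩ (W_le_Vc c hK hKN hw)))
    rw [MonoidHom.map_zpowers]
    refine eq_of_le_of_card_ge (zpowers_le.2 haB) ?_
    rw [(hB i).2.2, Nat.card_zpowers, orderOf_eq_prime ((hB i).2.1.ea.2 _ haB) hne]
  have hfc := (hB i).2.fixed_card
  rw [← hzp, FF.card_fixed, FF.card_modV, Nat.card_congr (subgroupOfEquivOfLe (Vc_le_N c)).toEquiv] at hfc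
  set F := Vc N ⊓ centralizer ({(a : G)} : Set G) with hF
  have hFc : Nat.card ↥(V' ⊓ centralizer (zpowers a : Set N)) = Nat.card F := by
    rw [← card_map_of_injective N.subtype_injective]
    congr 2
    ext x
    constructor
    · rintro ⟨y, hy, rfl⟩
      exact ⟨hy.1, mem_centralizer_singleton_iff.2
        (congrArg Subtype.val (mem_centralizer_iff.1 hy.2 a (mem_zpowers a))).symm⟩
    · rintro ⟨hx1, hx2⟩
      refine ⟨⟨x, Vc_le_N c hx1⟩, ⟨hx1, mem_centralizer_iff.2 ?_⟩, rfl⟩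
      rintro _ ⟨m, rfl⟩
      exact ((show Commute a ⟨x, Vc_le_N c hx1⟩ from
        Subtype.ext (mem_centralizer_singleton_iff.1 hx2).symm).zpow_left m).eq
  rw [hFc] at hfc
  obtain ⟨w₀, hw₀, hw₀F⟩ : ∃ w ∈ W, w ∉ F := by
    by_contra hc
    push Not at hc
    exact haW (mem_centralizer_iff.2 fun w hw => mem_centralizer_singleton_iff.1 (hc w hw).2)
  intro v hv
  by_cases hvF : v ∈ F
  · rw [commutatorElement_eq_one_iff_mul_comm.2 (mem_centralizer_singleton_iff.1 hvF.2).symm]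
    exact one_mem _
  have hidx : (F.subgroupOf (Vc N)).index = 2 := by
    have := (F.subgroupOf (Vc N)).card_mul_index
    rw [Nat.card_congr (subgroupOfEquivOfLe (inf_le_left : F ≤ Vc N)).toEquiv, hfc, mul_comm 2] at this
    exact Nat.eq_of_mul_eq_mul_left Nat.card_pos this
  have hm := (mul_mem_iff_of_index_two hidx
    (a := (⟨w₀, W_le_Vc c hK hKN hw₀⟩ : Vc N)⁻¹) (b := ⟨v, hv⟩)).2
      (iff_of_false (fun h => hw₀F (by simpa using inv_mem (mem_subgroupOf.1 h)))
        (fun h => hvF (mem_subgroupOf.1 h)))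
  rw [mem_subgroupOf] at hm
  have hf : Commute (a : G) (w₀⁻¹ * v) := (mem_centralizer_singleton_iff.1 hm.2).symm
  have hfV : w₀⁻¹ * v ∈ Vc N := hm.1
  have : ⁅(a : G), v⁆ = ⁅(a : G), w₀⁆ := by
    conv_lhs => rw [← mul_inv_cancel_left w₀ v]
    rw [show ⁅(a : G), w₀ * (w₀⁻¹ * v)⁆ = ⁅(a : G), w₀⁆ * (w₀ * ⁅(a : G), w₀⁻¹ * v⁆ * w₀⁻¹) by
      simp [commutatorElement_def]; group, commutatorElement_eq_one_iff_mul_comm.2 hf.eq]
    group
  rw [this]
  exact (comm_mem_fixed c.hT hK (le_J hA haA) hw₀).1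

end

end Cfsg.Lib.Local.JComp
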