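import Cfsg.Agent.Lib.Local.JComp.NormW

/-!
# A 2-group normalizing a component, acting on its four-group
-/

set_option autoImplicit false
set_option linter.style.haveILetI false

namespace Cfsg.Lib.Local.JComp

open Subgroup Cfsg Cfsg.Lib Cfsg.Lib.Local.GlaubermanZJ

universe u

variable {G : Type u} [Group G] [Finite G] {T K : Subgroup G}

local notation "J" => thompsonSubgroupOf 2 T
local notation "R2" => pCoreOf 2 K
local notation "W" => wOf K
local notation "R" => wOf K ⊓ centralizer (thompsonSubgroupOf 2 T : Set G)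

theorem fixed_exists (hT : IsPGroup 2 T) (hK : IsJComponent T K) : ∃ r ∈ R, r ≠ 1 := by
  obtain ⟨⟨r, hr⟩, hr1⟩ := (R).ne_bot_iff_exists_ne_one.1
    (fun h => by have := card_fixed hT hK; rw [h, card_bot] at this; omega)
  exact ⟨r, hr, fun h => hr1 (Subtype.ext h)⟩

theorem fixed_unique (hT : IsPGroup 2 T) (hK : IsJComponent T K) {r r' : G} (hr : r ∈ R) (hr1 : r ≠ 1)
    (hr' : r' ∈ R) (hr'1 : r' ≠ 1) : r' = r := by
  obtain ⟨c, hc⟩ := (Nat.card_eq_two_iff' (1 : ↥(R))).1 (card_fixed hT hK)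
  have e1 := hc.2 ⟨r, hr⟩ (fun h => hr1 (congrArg Subtype.val h))
  have e2 := hc.2 ⟨r', hr'⟩ (fun h => hr'1 (congrArg Subtype.val h))
  exact congrArg Subtype.val (e2.trans e1.symm)

theorem W_cases (hT : IsPGroup 2 T) (hK : IsJComponent T K) {r y : G} (hr : r ∈ R) (hr1 : r ≠ 1)
    (hy : y ∈ W) (hyR : y ∉ R) {v : G} (hv : v ∈ W) : v = 1 ∨ v = r ∨ v = y ∨ v = r * y := by
  haveI : Fact (Nat.Prime 2) := ⟨Nat.prime_two⟩
  set U := R ⊔ zpowers y with hU
  have hUW : U ≤ W := sup_le inf_le_left (zpowers_le.2 hy)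
  have hRy : R ≤ normalizer (zpowers y : Set G) := fun a ha => mem_normalizer_fintype fun b hb => by
    rw [(W_commute ha.1 (zpowers_le.2 hy hb)).eq, mul_inv_cancel_right]; exact hb
  have h4 : U = W := by
    refine eq_of_le_of_card_ge hUW ?_
    rw [hK.2.2.2.2.1]
    have hd : Nat.card U ∣ 2 ^ 2 := by
      have := card_dvd_of_le hUW
      rw [hK.2.2.2.2.1] at this
      exact this
    have h2 : R < U := lt_of_le_of_ne le_sup_left fun h =>
      hyR (h.ge (mem_sup_right (mem_zpowers y)))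
    have hlt : Nat.card (R : Subgroup G) < Nat.card U := by
      by_contra hle
      exact h2.ne (eq_of_le_of_card_ge h2.le (not_lt.1 hle))
    rw [card_fixed hT hK] at hlt
    obtain ⟨i, hi, e⟩ := (Nat.dvd_prime_pow Nat.prime_two).1 hd
    rw [e] at hlt ⊢
    interval_cases i <;> omega
  rw [← h4] at hv
  obtain ⟨a, ha, b, hb, rfl⟩ := (Core.mem_sup_of_le_normalizer hRy).1 hv
  have hb' : b = 1 ∨ b = y := by
    obtain ⟨i, rfl⟩ := hb
    rcases Int.even_or_odd' i with ⟨k, rfl | rfl⟩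
    · left
      show y ^ (2 * k) = 1
      rw [zpow_mul, show y ^ (2 : ℤ) = 1 from mod_cast W_pow hy, one_zpow]
    · right
      show y ^ (2 * k + 1) = y
      rw [zpow_add_one, zpow_mul, show y ^ (2 : ℤ) = 1 from mod_cast W_pow hy, one_zpow, one_mul]
  by_cases ha1 : a = 1
  · subst ha1
    rcases hb' with rfl | rfl
    · exact Or.inl (one_mul _)
    · exact Or.inr (Or.inr (Or.inl (one_mul _)))
  · obtain rfl := fixed_unique hT hK hr hr1 ha ha1
    rcases hb' with rfl | rfl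
    · exact Or.inr (Or.inl (mul_one _))
    · exact Or.inr (Or.inr (Or.inr rfl))

variable (hT : IsPGroup 2 T) (hK : IsJComponent T K) (hTK : T ≤ normalizer (K : Set G))
include hT hK hTK

theorem T_commute_fixed {t w : G} (ht : t ∈ T) (hw : w ∈ R) : Commute t w := by
  by_cases h : w = 1
  · rw [h]; exact Commute.one_right t
  have hN : t ∈ normalizer ((R : Subgroup G) : Set G) := by
    refine inf_normalizer_le_normalizer_inf ⟨normalizer_le_normalizer_W (hTK ht), ?_⟩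
    have hJ : t ∈ normalizer (J : Set G) :=
      Thompson.normalizer_le_normalizer_thompsonSubgroupOf T (le_normalizer ht)
    exact mem_normalizer_fintype fun x hx => mem_centralizer_iff.2 fun j hj => by
      have h1 := mem_centralizer_iff.1 hx _ ((mem_normalizer_iff''.1 hJ j).1 hj)
      calc j * (t * x * t⁻¹) = t * ((t⁻¹ * j * t) * x) * t⁻¹ := by group
        _ = t * (x * (t⁻¹ * j * t)) * t⁻¹ := by rw [h1]
        _ = t * x * t⁻¹ * j := by group
  have := fixed_unique hT hK hw h ((mem_normalizer_iff.1 hN w).1 hw) (fun e => h (conj_eq_one_iff.1 e))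
  exact mul_inv_eq_iff_eq_mul.1 this

/-- Outside `C(W)`, an element of `T` acts as the transvection. -/
theorem T_moves {t r y : G} (ht : t ∈ T) (htW : t ∉ centralizer (W : Set G)) (hr : r ∈ R) (hr1 : r ≠ 1)
    (hy : y ∈ W) (hyR : y ∉ R) : t * y * t⁻¹ = r * y := by
  have hfix : t * r * t⁻¹ = r := mul_inv_eq_iff_eq_mul.2 (T_commute_fixed hT hK hTK ht hr).eq
  rcases W_cases hT hK hr hr1 hy hyR
      ((mem_normalizer_iff.1 (normalizer_le_normalizer_W (hTK ht)) y).1 hy) with h | h | h | h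
  · exact absurd (conj_eq_one_iff.1 h) fun e => hyR (e ▸ one_mem _)
  · exact absurd (mul_left_cancel (mul_right_cancel (h.trans hfix.symm))) fun e => hyR (e ▸ hr)
  · refine absurd (mem_centralizer_iff.2 fun v hv => ?_) htW
    have hy' : Commute t y := mul_inv_eq_iff_eq_mul.1 h
    have hr' : Commute t r := T_commute_fixed hT hK hTK ht hr
    rcases W_cases hT hK hr hr1 hy hyR hv with rfl | rfl | rfl | rfl
    exacts [(Commute.one_left t).eq, hr'.eq.symm, hy'.eq.symm, (hr'.mul_right hy').eq.symm]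
  · exact h

theorem T_fixed {t y : G} (ht : t ∈ T) (htW : t ∉ centralizer (W : Set G)) (hy : y ∈ W)
    (h : Commute t y) : y ∈ R := by
  by_contra hyR
  obtain ⟨r, hr, hr1⟩ := fixed_exists hT hK
  have e := T_moves hT hK hTK ht htW hr hr1 hy hyR
  rw [h.eq, mul_inv_cancel_right] at e
  exact hr1 (mul_eq_right.1 e.symm)

theorem T_comm_mem {t w : G} (ht : t ∈ T) (hw : w ∈ W) : t * w * t⁻¹ * w⁻¹ ∈ R := by
  by_cases hwR : w ∈ R
  · rw [(T_commute_fixed hT hK hTK ht hwR).eq, mul_inv_cancel_right, mul_inv_cancel]; exact one_mem _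
  by_cases htW : t ∈ centralizer (W : Set G)
  · rw [← mem_centralizer_iff.1 htW w hw, mul_inv_cancel_right, mul_inv_cancel]; exact one_mem _
  obtain ⟨r, hr, hr1⟩ := fixed_exists hT hK
  rw [T_moves hT hK hTK ht htW hr hr1 hw hwR, mul_inv_cancel_right]
  exact hr

theorem T_mul_mem {s t : G} (hs : s ∈ T) (ht : t ∈ T) (hsW : s ∉ centralizer (W : Set G))
    (htW : t ∉ centralizer (W : Set G)) : s⁻¹ * t ∈ centralizer (W : Set G) := by
  refine mem_centralizer_iff.2 fun v hv => ?_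
  obtain ⟨r, hr, hr1⟩ := fixed_exists hT hK
  have e : t * v * t⁻¹ = s * v * s⁻¹ := by
    by_cases hvR : v ∈ R
    · rw [(T_commute_fixed hT hK hTK ht hvR).eq, (T_commute_fixed hT hK hTK hs hvR).eq]; group
    · rw [T_moves hT hK hTK ht htW hr hr1 hv hvR, T_moves hT hK hTK hs hsW hr hr1 hv hvR]
  calc v * (s⁻¹ * t) = s⁻¹ * (s * v * s⁻¹) * t := by group
    _ = s⁻¹ * (t * v * t⁻¹) * t := by rw [e]
    _ = s⁻¹ * t * v := by group

/-- An element of order 3 inverted by an involution of `T` outside `C(W)`. -/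
theorem exists_inverted {a : G} (ha : a ∈ T) (ha2 : a * a = 1) (haW : a ∉ centralizer (W : Set G)) :
    ∃ ρ ∈ K, Odd (orderOf ρ) ∧ ρ ∉ R2 ∧ ρ * ρ * ρ = 1 ∧ a * ρ * a⁻¹ = ρ⁻¹ := by
  haveI : Fact (Nat.Prime 2) := ⟨Nat.prime_two⟩
  obtain ⟨ρ₀, hρ₀, ho, hn, -⟩ := exists_rho hK
  have hai : a⁻¹ = a := inv_eq_of_mul_eq_one_right ha2
  set x := a * ρ₀ * a⁻¹ * ρ₀⁻¹ with hx
  have hxK : x ∈ K := K.mul_mem ((mem_normalizer_iff.1 (hTK ha) ρ₀).1 hρ₀) (K.inv_mem hρ₀)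
  have hxR : x ∉ R2 := by
    intro hc
    obtain ⟨r, hr, hr1⟩ := fixed_exists hT hK
    set y := ρ₀ * r * ρ₀⁻¹ with hy
    have hyW : y ∈ W := (mem_normalizer_iff.1 (normalizer_le_normalizer_W (le_normalizer hρ₀)) r).1 hr.1
    have hxy : x * y * x⁻¹ = y := by
      rw [← mem_centralizer_iff.1 (core_le_centralizer_W hc) y hyW, mul_inv_cancel_right]
    have hra : a⁻¹ * r * a = r := by
      rw [(T_commute_fixed hT hK hTK (T.inv_mem ha) hr).eq, mul_assoc, inv_mul_cancel, mul_one]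
    have hay : a * y * a⁻¹ = y := by
      conv_rhs => rw [← hxy]
      calc a * y * a⁻¹ = a * (ρ₀ * r * ρ₀⁻¹) * a⁻¹ := by rw [hy]
        _ = a * (ρ₀ * (a⁻¹ * r * a) * ρ₀⁻¹) * a⁻¹ := by rw [hra]
        _ = x * y * x⁻¹ := by rw [hx, hy]; group
    have hyR := T_fixed hT hK hTK ha haW hyW (mul_inv_eq_iff_eq_mul.1 hay)
    exact hr1 (rho_fpf hK hρ₀ ho hn hr.1
      (fixed_unique hT hK hr hr1 hyR fun e => hr1 (conj_eq_one_iff.1 e)))
  have hinv : a * x * a⁻¹ = x⁻¹ := by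
    calc a * x * a⁻¹ = a * (a * ρ₀ * a⁻¹ * ρ₀⁻¹) * a⁻¹ := by rw [hx]
      _ = (a * a) * ρ₀ * a⁻¹ * ρ₀⁻¹ * a⁻¹ := by group
      _ = ρ₀ * a * ρ₀⁻¹ * a⁻¹ := by rw [ha2, one_mul, hai]
      _ = x⁻¹ := by rw [hx]; group
  obtain ⟨e, m, hm, hmo⟩ := Nat.exists_eq_two_pow_mul_odd (n := orderOf x) (orderOf_pos x).ne'
  set ρ := x ^ 2 ^ e with hρ
  have hρo : Odd (orderOf ρ) := hm.of_dvd_nat (orderOf_dvd_of_pow_eq_one (by
    rw [hρ, ← pow_mul, ← hmo, pow_orderOf_eq_one]))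
  haveI : ((R2).subgroupOf K).Normal := (normal_subgroupOf_iff_le_normalizer core_le).2
    (le_normalizer.trans (normalizer_le_normalizer_pCoreOf K))
  have h3 : ∀ k ∈ K, k ^ 3 ∈ R2 := fun k hk => by
    have h1 := Subgroup.pow_index_mem ((R2).subgroupOf K) ⟨k, hk⟩
    rw [show ((R2).subgroupOf K).index = 3 from hK.2.2.1] at h1
    exact h1
  have hρn : ρ ∉ R2 := by
    intro hc
    obtain ⟨u, v, huv⟩ : ∃ u v : ℤ, (3 : ℤ) * u + (2 ^ e : ℤ) * v = 1 := by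
      have h : IsCoprime (3 : ℤ) (2 ^ e) :=
        IsCoprime.pow_right (by norm_num [Int.isCoprime_iff_gcd_eq_one])
      obtain ⟨u, v, h⟩ := h
      exact ⟨u, v, by linarith⟩
    have hpow : x ^ (1 : ℤ) = (x ^ 3) ^ u * ρ ^ v := by
      rw [← huv, zpow_add, zpow_mul, zpow_mul, hρ, ← zpow_natCast x (2 ^ e), ← zpow_natCast x 3]
      push_cast
      rfl
    rw [zpow_one] at hpow
    exact hxR (hpow ▸ mul_mem (zpow_mem (h3 x hxK) u) (zpow_mem hc v))
  refine ⟨ρ, pow_mem hxK _, hρo, hρn, ?_, ?_⟩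
  · obtain ⟨k, hk⟩ := isPGroup_core ⟨ρ ^ 3, h3 ρ (pow_mem hxK _)⟩
    have hk' : (ρ ^ 3) ^ 2 ^ k = 1 := congrArg Subtype.val hk
    have h1 : orderOf (ρ ^ 3) ∣ 2 ^ k := orderOf_dvd_of_pow_eq_one hk'
    have h2 : Odd (orderOf (ρ ^ 3)) := hρo.of_dvd_nat (orderOf_pow_dvd 3)
    have h4 : orderOf (ρ ^ 3) = 1 := Nat.eq_one_of_dvd_coprimes
      ((Nat.coprime_two_left.2 h2).pow_left k) h1 dvd_rfl
    rw [← orderOf_eq_one_iff.1 h4, pow_succ, pow_two]
  · show a * x ^ 2 ^ e * a⁻¹ = (x ^ 2 ^ e)⁻¹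
    rw [← conj_pow, hinv, inv_pow]

omit [Finite G] in
omit hT hK hTK in
/-- Two cosets suffice when `p` has only two conjugates under `A`. -/
theorem card_le_two_centralizer [Finite G] {A : Subgroup G} {p q : G}
    (h : ∀ x ∈ A, x * p * x⁻¹ = p ∨ x * p * x⁻¹ = q) :
    Nat.card A ≤ 2 * Nat.card ↥(A ⊓ centralizer ({p} : Set G)) := by
  classical
  set B := A ⊓ centralizer ({p} : Set G) with hB
  have hfix : ∀ {x}, x * p * x⁻¹ = p → x ∈ centralizer ({p} : Set G) := fun hx =>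
    mem_centralizer_singleton_iff.2 (mul_inv_eq_iff_eq_mul.1 hx)
  by_cases hall : ∀ x ∈ A, x ∈ centralizer ({p} : Set G)
  · have : Nat.card A ≤ Nat.card B := card_le_of_le fun x hx => ⟨hx, hall x hx⟩
    omega
  push Not at hall
  obtain ⟨c, hc, hcp⟩ := hall
  have hcov : (A : Set G) ⊆ (B : Set G) ∪ (fun x => c * x) '' (B : Set G) := by
    intro x hx
    by_cases hxp : x ∈ centralizer ({p} : Set G)
    · exact Or.inl ⟨hx, hxp⟩
    refine Or.inr ⟨c⁻¹ * x, ⟨A.mul_mem (A.inv_mem hc) hx, hfix ?_⟩, mul_inv_cancel_left c x⟩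
    have e1 := (h x hx).resolve_left fun e => hxp (hfix e)
    have e2 := (h c hc).resolve_left fun e => hcp (hfix e)
    calc c⁻¹ * x * p * (c⁻¹ * x)⁻¹ = c⁻¹ * (x * p * x⁻¹) * c := by group
      _ = c⁻¹ * (c * p * c⁻¹) * c := by rw [e1, e2]
      _ = p := by group
  rw [show Nat.card A = (A : Set G).ncard from Nat.card_coe_set_eq _,
    show Nat.card B = (B : Set G).ncard from Nat.card_coe_set_eq _]
  refine le_trans (Set.ncard_le_ncard hcov (Set.toFinite _)) (le_trans (Set.ncard_union_le _ _) ?_)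
  have := Set.ncard_image_le (f := fun x => c * x) (s := (B : Set G)) (Set.toFinite _)
  omega

omit hT hK hTK in
theorem two_mul_card_le {U V : Subgroup G} (h : U ≤ V) {x : G} (hx : x ∈ V) (hxU : x ∉ U) :
    2 * Nat.card U ≤ Nat.card V := by
  obtain ⟨m, hm⟩ := card_dvd_of_le h
  rw [hm, mul_comm 2]
  refine Nat.mul_le_mul_left _ ?_
  by_contra hlt
  have hpos := Nat.card_pos (α := V)
  have h1 : m = 1 := by
    have : m ≠ 0 := fun e => by rw [e, mul_zero] at hm; omega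
    omega
  exact hxU ((eq_of_le_of_card_ge h (by rw [hm, h1, mul_one])).ge hx)

omit hT hTK in
/-- The elements of `T ∩ C(W)` split over `W` if `ρ` moves them only inside `W`. -/
theorem decomp {ρ c : G} (hρ : ρ ∈ K) (ho : Odd (orderOf ρ)) (hn : ρ ∉ R2)
    (hc : c ∈ centralizer (W : Set G)) (hd : c⁻¹ * (ρ * c * ρ⁻¹) ∈ W) :
    ∃ w ∈ W, Commute ρ (w⁻¹ * c) := by
  have hN : ρ ∈ normalizer (W : Set G) := normalizer_le_normalizer_W (le_normalizer hρ)
  have hmem : ∀ w ∈ W, w⁻¹ * (ρ * w * ρ⁻¹) ∈ W := fun w hw =>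
    mul_mem (inv_mem hw) ((mem_normalizer_iff.1 hN w).1 hw)
  have hinj : Function.Injective (fun w : W => (⟨(w : G)⁻¹ * (ρ * w * ρ⁻¹), hmem w w.2⟩ : W)) := by
    intro a b hab
    have h : (a : G)⁻¹ * (ρ * a * ρ⁻¹) = (b : G)⁻¹ * (ρ * b * ρ⁻¹) := congrArg Subtype.val hab
    have h2 : ρ * ((a : G) * (b : G)⁻¹) * ρ⁻¹ = a * (b : G)⁻¹ := by
      have e : ρ * ((a : G) * (b : G)⁻¹) * ρ⁻¹ = (a * ((a : G)⁻¹ * (ρ * a * ρ⁻¹))) *
          (b * ((b : G)⁻¹ * (ρ * b * ρ⁻¹)))⁻¹ := by group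
      rw [e, h]; group
    exact Subtype.ext (mul_inv_eq_one.1 (rho_fpf hK hρ ho hn (mul_mem a.2 (inv_mem b.2)) h2))
  obtain ⟨⟨w, hw⟩, hwd⟩ := (Finite.injective_iff_surjective.1 hinj) ⟨_, hd⟩
  have hwd' : w⁻¹ * (ρ * w * ρ⁻¹) = c⁻¹ * (ρ * c * ρ⁻¹) := congrArg Subtype.val hwd
  refine ⟨w, hw, mul_inv_eq_iff_eq_mul.1 ?_⟩
  have hdc : Commute (c⁻¹ * (ρ * c * ρ⁻¹)) c := mem_centralizer_iff.1 hc _ hd
  have hdw : Commute (c⁻¹ * (ρ * c * ρ⁻¹)) w := W_commute hd hw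
  calc ρ * (w⁻¹ * c) * ρ⁻¹
      = (w * (w⁻¹ * (ρ * w * ρ⁻¹)))⁻¹ * (c * (c⁻¹ * (ρ * c * ρ⁻¹))) := by group
    _ = (w * (c⁻¹ * (ρ * c * ρ⁻¹)))⁻¹ * (c * (c⁻¹ * (ρ * c * ρ⁻¹))) := by rw [hwd']
    _ = (c⁻¹ * (ρ * c * ρ⁻¹) * w)⁻¹ * (c⁻¹ * (ρ * c * ρ⁻¹) * c) := by rw [hdw.eq, hdc.eq]
    _ = w⁻¹ * c := by group

end Cfsg.Lib.Local.JComp
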