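import Cfsg.Prelude.Def_JComponents
import Cfsg.Agent.Lib.Local.BaumannBlockBasic
import Cfsg.Agent.Lib.Local.TimmesfeldReplacement
import Cfsg.Agent.Lib.Core.Cores

/-!
# Elementary facts on `J(T)`-components
-/

set_option autoImplicit false
set_option linter.style.haveILetI false

namespace Cfsg.Lib.Local.JComp

open Subgroup Cfsg Cfsg.Lib Cfsg.Lib.Local.GlaubermanZJ
open scoped commutatorElement

universe u

variable {G : Type u} [Group G] [Finite G] {T K : Subgroup G}

local notation "J" => thompsonSubgroupOf 2 T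
local notation "R2" => pCoreOf 2 K
local notation "W" => wOf K

omit [Finite G] in
theorem odd_iff_coprime {x : G} : Odd (orderOf x) ↔ (orderOf x).Coprime 2 :=
  Nat.coprime_two_right.symm

theorem isPGroup_J (hT : IsPGroup 2 T) : IsPGroup 2 J := hT.to_le (map_subtype_le _)

omit [Finite G] in
theorem le_of_odd (hK : IsJComponent T K) {P : Subgroup G}
    (h : ∀ x ∈ K, Odd (orderOf x) → x ∈ P) : K ≤ P := by
  rw [← hK.1, closure_le]
  exact fun x hx => h x hx.1 hx.2

omit [Finite G] in
theorem residual_eq (hK : IsJComponent T K) : pResidualOf 2 K = K :=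
  le_antisymm (BaumannBlock.pResidualOf_le 2 K) (le_of_odd hK fun _ hx ho =>
    BaumannBlock.mem_pResidualOf hx (odd_iff_coprime.1 ho))

omit [Finite G] in
theorem J_le_normalizer (hK : IsJComponent T K) : J ≤ normalizer (K : Set G) :=
  le_normalizer_iff_commutator_le_left.mpr hK.2.1.le

theorem isPGroup_core : IsPGroup 2 R2 := (Core.pCore_isPGroup 2 _).map _

omit [Finite G] in
theorem core_le : R2 ≤ K := map_subtype_le _

theorem card_eq (hK : IsJComponent T K) : Nat.card K = 3 * Nat.card R2 := by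
  have h := Core.card_mul_relIndex (core_le (K := K))
  rw [hK.2.2.1] at h
  omega

/-- a `2`-subgroup of `K` over `O₂(K)` is `O₂(K)` -/
theorem eq_core_of_two (hK : IsJComponent T K) {P : Subgroup G} (h1 : R2 ≤ P) (h2 : P ≤ K)
    (hP : IsPGroup 2 P) : P = R2 := by
  obtain ⟨k, hk⟩ := IsPGroup.iff_card.1 hP
  have d1 : Nat.card P ∣ 3 * Nat.card R2 := card_eq hK ▸ card_dvd_of_le h2
  have d2 : Nat.card P ∣ Nat.card R2 := by
    refine Nat.Coprime.dvd_of_dvd_mul_left ?_ d1
    rw [hk]
    exact Nat.Coprime.pow_left k (by decide)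
  exact (eq_of_le_of_card_ge h1 (Nat.le_of_dvd Nat.card_pos d2)).symm

theorem eq_of_core_lt (hK : IsJComponent T K) {P : Subgroup G} (h1 : R2 ≤ P) (h2 : P ≤ K)
    (h3 : ¬ P ≤ R2) : P = K := by
  have d1 := card_dvd_of_le h1
  have d2 : Nat.card P ∣ Nat.card R2 * 3 := by
    rw [mul_comm, ← card_eq hK]; exact card_dvd_of_le h2
  obtain ⟨m, hm⟩ := d1
  rw [hm] at d2
  rcases (Nat.dvd_prime Nat.prime_three).1 (Nat.dvd_of_mul_dvd_mul_left Nat.card_pos d2) with h | h
  · exact absurd (eq_of_le_of_card_ge h1 (by rw [hm, h, mul_one])).ge h3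
  · exact eq_of_le_of_card_ge h2 (by rw [hm, h, card_eq hK, mul_comm])

/-- An element of odd order generating `K` modulo `O₂(K)`. -/
theorem exists_rho (hK : IsJComponent T K) :
    ∃ ρ ∈ K, Odd (orderOf ρ) ∧ ρ ∉ R2 ∧ R2 ⊔ zpowers ρ = K := by
  obtain ⟨ρ, hρ, ho, hn⟩ : ∃ ρ ∈ K, Odd (orderOf ρ) ∧ ρ ∉ R2 := by
    by_contra hc
    push Not at hc
    have h := card_eq hK
    have := card_le_of_le (le_of_odd hK hc)
    have := Nat.card_pos (α := R2)
    omega
  refine ⟨ρ, hρ, ho, hn, eq_of_core_lt hK le_sup_left (sup_le core_le (zpowers_le.2 hρ))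
    fun h => hn (h (mem_sup_right (mem_zpowers ρ)))⟩

/-! ### `W` -/

omit [Finite G] in
theorem omega_commute {w q : G} (hw : w ∈ omegaCenterOf R2) (hq : q ∈ R2) : Commute w q :=
  BaumannBlock.omegaOneCenter_commute (p := 2) hw hq

theorem normalizer_le_normalizer_omega :
    normalizer (K : Set G) ≤ normalizer (omegaCenterOf R2 : Set G) :=
  (normalizer_le_normalizer_pCoreOf K).trans (BaumannBlock.normalizer_le_omegaOneCenter (p := 2) _)

theorem W_le_omega : W ≤ omegaCenterOf R2 := by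
  rw [wOf, commutator_le]
  intro w hw k hk
  rw [commutatorElement_def, show w * k * w⁻¹ * k⁻¹ = w * (k * w⁻¹ * k⁻¹) by group]
  exact mul_mem hw
    ((mem_normalizer_iff.1 (normalizer_le_normalizer_omega (le_normalizer hk)) _).1 (inv_mem hw))

omit [Finite G] in
theorem omega_le : omegaCenterOf R2 ≤ R2 := BaumannBlock.omegaOneCenter_le 2 _

theorem W_le_core : W ≤ R2 := W_le_omega.trans omega_le

theorem W_le : W ≤ K := W_le_core.trans core_le

omit [Finite G] in
theorem omega_pow {w : G} (hw : w ∈ omegaCenterOf R2) : w ^ 2 = 1 :=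
  BaumannBlock.omegaOneCenter_pow (p := 2) hw

theorem W_pow {w : G} (hw : w ∈ W) : w ^ 2 = 1 := omega_pow (W_le_omega hw)

theorem W_commute {w w' : G} (hw : w ∈ W) (hw' : w' ∈ W) : Commute w w' :=
  omega_commute (W_le_omega hw) (W_le_core hw')

theorem isEA_W : IsElementaryAbelian 2 W :=
  ⟨⟨⟨fun a b => Subtype.ext (W_commute a.2 b.2).eq⟩⟩, fun _ hw => W_pow hw⟩

theorem normalizer_le_normalizer_W : normalizer (K : Set G) ≤ normalizer (W : Set G) := by
  intro g hg
  rw [Core.mem_normalizer_iff_map_conj, wOf, map_commutator,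
    Core.map_conj_eq_of_mem_normalizer (normalizer_le_normalizer_omega hg),
    Core.map_conj_eq_of_mem_normalizer hg]

theorem core_le_centralizer_W : R2 ≤ centralizer (W : Set G) := fun _ hq =>
  mem_centralizer_iff.2 fun _ hw => (omega_commute (W_le_omega hw) hq).eq

theorem W_not_centralized (hK : IsJComponent T K) : ¬ K ≤ centralizer (W : Set G) := by
  intro hKW
  have h1 : omegaCenterOf R2 ≤ centralizer (K : Set G) := by
    intro w hw
    refine mem_centralizer_iff.2 fun x hx => ?_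
    suffices h : K ≤ centralizer ({w} : Set G) from mem_centralizer_singleton_iff.1 (h hx)
    refine le_of_odd hK fun e he ho => mem_centralizer_singleton_iff.2 ?_
    have hwe : ⁅e, w⁆ ∈ W := by
      rw [wOf, commutator_comm]; exact commutator_mem_commutator he hw
    exact BaumannBlock.commute_of_coprime (odd_iff_coprime.1 ho) (W_pow hwe)
      (mem_centralizer_iff.1 (hKW he) _ hwe).symm (omega_commute hw (W_le_core hwe))
  have h2 : W = ⊥ := by
    rw [wOf, commutator_eq_bot_iff_le_centralizer]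
    exact h1
  have := hK.2.2.2.2.1
  rw [h2, card_bot] at this
  omega

theorem inf_centralizer_eq (hK : IsJComponent T K) : K ⊓ centralizer (W : Set G) = R2 := by
  refine le_antisymm ?_ (le_inf core_le core_le_centralizer_W)
  by_contra h
  exact W_not_centralized hK
    ((eq_of_core_lt hK (le_inf core_le core_le_centralizer_W) inf_le_left h).ge.trans inf_le_right)

theorem not_mem_centralizer_of_not_mem_core (hK : IsJComponent T K) {k : G} (hk : k ∈ K)
    (hn : k ∉ R2) : k ∉ centralizer (W : Set G) := fun h => hn ((inf_centralizer_eq hK).le ⟨hk, h⟩)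

/-- An automorphism of odd order of a four-group fixing a nontrivial point is trivial. -/
theorem four_fix {U : Subgroup G} (hU : Nat.card U = 4) {g w : G} (hg : g ∈ normalizer (U : Set G))
    (ho : Odd (orderOf g)) (hw : w ∈ U) (hw1 : w ≠ 1) (hgw : g * w * g⁻¹ = w) :
    g ∈ centralizer (U : Set G) := by
  classical
  refine mem_centralizer_iff.2 fun x hx => ?_
  suffices hfix : g * x * g⁻¹ = x from (mul_inv_eq_iff_eq_mul.1 hfix).symm
  by_cases hx0 : x = 1 ∨ x = w
  · rcases hx0 with rfl | rfl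
    · group
    · exact hgw
  push Not at hx0
  set S : Set G := (U : Set G) \ {1, w} with hS
  have hS2 : S.ncard = 2 := by
    rw [hS, Set.ncard_diff (fun y hy => by
      rcases hy with rfl | rfl
      exacts [U.one_mem, hw]) (Set.toFinite _), Set.ncard_pair (Ne.symm hw1)]
    have : (U : Set G).ncard = 4 := by rw [← hU, ← Nat.card_coe_set_eq]; rfl
    omega
  have hmap : ∀ y ∈ S, g * y * g⁻¹ ∈ S := by
    rintro y ⟨hyU, hyn⟩
    refine ⟨(mem_normalizer_iff.1 hg y).1 hyU, ?_⟩
    rintro (h | h)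
    · exact hyn (Or.inl (conj_eq_one_iff.1 h))
    · refine hyn (Or.inr ?_)
      have := h.trans hgw.symm
      exact mul_left_cancel (mul_right_cancel this)
  have hxS : x ∈ S := ⟨hx, fun h => h.elim hx0.1 hx0.2⟩
  by_contra hne
  obtain ⟨p, q, hpq, hSe⟩ := Set.ncard_eq_two.1 hS2
  have hcases : ∀ y ∈ S, y = x ∨ y = g * x * g⁻¹ := by
    intro y hy
    have h1 := hxS
    have h2 := hmap x hxS
    rw [hSe] at hy h1 h2
    rcases hy with rfl | rfl <;> rcases h1 with rfl | rfl <;> rcases h2 with h2 | h2 <;>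
      first | exact Or.inl rfl | exact Or.inr h2.symm | exact absurd h2 hne
  have hstep : g * (g * x * g⁻¹) * g⁻¹ = x := by
    rcases hcases _ (hmap _ (hmap x hxS)) with h | h
    · exact h
    · exact absurd (mul_left_cancel (mul_right_cancel h)) hne
  obtain ⟨m, hm⟩ := ho
  have heven : ∀ k : ℕ, g ^ (2 * k) * x * (g ^ (2 * k))⁻¹ = x := by
    intro k
    induction k with
    | zero => simp
    | succ k ih =>
      calc g ^ (2 * (k + 1)) * x * (g ^ (2 * (k + 1)))⁻¹
          = g * (g * (g ^ (2 * k) * x * (g ^ (2 * k))⁻¹) * g⁻¹) * g⁻¹ := by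
            rw [show 2 * (k + 1) = 1 + (1 + 2 * k) by ring, pow_add, pow_add, pow_one]; group
        _ = x := by rw [ih, hstep]
  apply hne
  have := pow_orderOf_eq_one g
  rw [hm, pow_succ'] at this
  calc g * x * g⁻¹ = g * (g ^ (2 * m) * x * (g ^ (2 * m))⁻¹) * g⁻¹ := by rw [heven]
    _ = (g * g ^ (2 * m)) * x * (g * g ^ (2 * m))⁻¹ := by group
    _ = x := by rw [this]; group

theorem rho_fpf (hK : IsJComponent T K) {ρ : G} (hρ : ρ ∈ K) (ho : Odd (orderOf ρ)) (hn : ρ ∉ R2)
    {w : G} (hw : w ∈ W) (h : ρ * w * ρ⁻¹ = w) : w = 1 := by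
  by_contra hw1
  exact not_mem_centralizer_of_not_mem_core hK hρ hn
    (four_fix hK.2.2.2.2.1 (normalizer_le_normalizer_W (le_normalizer hρ)) ho hw hw1 h)

/-- `K` is irreducible on `W`. -/
theorem eq_W_of_invariant (hK : IsJComponent T K) {U : Subgroup G} (hUW : U ≤ W) (hU : U ≠ ⊥)
    (hKU : K ≤ normalizer (U : Set G)) : U = W := by
  obtain ⟨ρ, hρ, ho, hn, -⟩ := exists_rho hK
  obtain ⟨⟨u, hu⟩, hu1⟩ := ne_bot_iff_exists_ne_one.1 hU
  have hu' : u ≠ 1 := fun h => hu1 (Subtype.ext h)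
  have hu2 : ρ * u * ρ⁻¹ ∈ U := (mem_normalizer_iff.1 (hKU hρ) u).1 hu
  refine eq_of_le_of_card_ge hUW ?_
  rw [hK.2.2.2.2.1]
  obtain ⟨m, hm⟩ : Nat.card U ∣ 4 := hK.2.2.2.2.1 ▸ card_dvd_of_le hUW
  by_contra hlt
  have h2 : Nat.card U ≤ 2 := by
    rcases (Nat.dvd_prime_pow Nat.prime_two (m := 2)).1 ⟨m, hm⟩ with ⟨i, hi, e⟩
    interval_cases i <;> omega
  have h3 : ({1, u, ρ * u * ρ⁻¹} : Set G).ncard ≤ Nat.card U := by
    rw [show Nat.card U = (U : Set G).ncard from Nat.card_coe_set_eq _]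
    refine Set.ncard_le_ncard ?_ (Set.toFinite _)
    rintro y (rfl | rfl | rfl)
    exacts [one_mem U, hu, hu2]
  have h4 : ρ * u * ρ⁻¹ ≠ u := fun h => hu' (rho_fpf hK hρ ho hn (hUW hu) h)
  have h5 : ρ * u * ρ⁻¹ ≠ 1 := fun h => hu' (conj_eq_one_iff.1 h)
  rw [Set.ncard_insert_of_notMem (by simp [Ne.symm hu', Ne.symm h5]) (Set.toFinite _),
    Set.ncard_pair h4.symm] at h3
  omega

/-! ### The action of `J` on `W` -/

theorem J_not_centralizes_W (hK : IsJComponent T K) : ¬ J ≤ centralizer (W : Set G) := by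
  intro hJ
  refine W_not_centralized hK (hK.2.1.ge.trans ?_)
  rw [commutator_le]
  intro k hk j hj
  refine mem_centralizer_iff.2 fun w hw => ?_
  have hjw : Commute j w := (mem_centralizer_iff.1 (hJ hj) w hw).symm
  have hk' := normalizer_le_normalizer_W (le_normalizer hk)
  have hjw' : Commute j (k⁻¹ * w * k) :=
    (mem_centralizer_iff.1 (hJ hj) _ ((mem_normalizer_iff''.1 hk' w).1 hw)).symm
  have h3 : Commute (k * j * k⁻¹) w := by
    have h4 := hjw'.map (MulAut.conj k)
    simpa [mul_assoc] using h4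
  rw [commutatorElement_def]
  exact ((h3.mul_left hjw.inv_left).eq).symm

theorem card_fixed (hT : IsPGroup 2 T) (hK : IsJComponent T K) :
    Nat.card ↥(W ⊓ centralizer (J : Set G)) = 2 := by
  have hJW : J ≤ normalizer (W : Set G) := (J_le_normalizer hK).trans normalizer_le_normalizer_W
  set R := W ⊓ centralizer (J : Set G) with hR
  have hR1 : R ≠ ⊥ := by
    letI : MulAction J W :=
      { smul := fun j w => ⟨(j : G) * w * (j : G)⁻¹, (mem_normalizer_iff.1 (hJW j.2) _).1 w.2⟩
        one_smul := fun w => Subtype.ext (by show (1 : G) * w * (1 : G)⁻¹ = w; group)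
        mul_smul := fun a b w => Subtype.ext (by
          show (a : G) * b * w * ((a : G) * b)⁻¹ = a * ((b : G) * w * (b : G)⁻¹) * (a : G)⁻¹
          group) }
    have hfp := (isPGroup_J hT).card_modEq_card_fixedPoints (α := W)
    rw [hK.2.2.2.2.1] at hfp
    have h2 : 2 ∣ Nat.card (MulAction.fixedPoints J W) := by
      have := hfp.symm
      exact (Nat.modEq_zero_iff_dvd.1 (this.trans (by decide)))
    have h1 : (1 : ↥(W)) ∈ MulAction.fixedPoints J W := fun j =>
      Subtype.ext (by show (j : G) * 1 * (j : G)⁻¹ = 1; group)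
    haveI : Nonempty (MulAction.fixedPoints J W) := ⟨⟨1, h1⟩⟩
    have : 1 < Nat.card (MulAction.fixedPoints J W) :=
      Nat.le_of_dvd Nat.card_pos h2
    haveI := Finite.one_lt_card_iff_nontrivial.1 this
    obtain ⟨⟨w, hw⟩, hne⟩ := exists_ne (⟨1, h1⟩ : MulAction.fixedPoints J W)
    intro hbot
    apply hne
    have hwR : (w : G) ∈ R := by
      refine ⟨w.2, mem_centralizer_iff.2 fun j hj => ?_⟩
      have := congrArg Subtype.val (hw ⟨j, hj⟩)
      change j * (w : G) * j⁻¹ = w at this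
      exact mul_inv_eq_iff_eq_mul.1 this
    rw [hbot, mem_bot] at hwR
    exact Subtype.ext (Subtype.ext hwR)
  have hR4 : Nat.card R ≠ 4 := fun h => J_not_centralizes_W hK fun j hj =>
    mem_centralizer_iff.2 fun w hw => (mem_centralizer_iff.1
      ((eq_of_le_of_card_ge (inf_le_left : R ≤ W) (by rw [h, hK.2.2.2.2.1])).ge hw).2 j hj).symm
  obtain ⟨i, hi, e⟩ := (Nat.dvd_prime_pow Nat.prime_two (m := 2)).1
    (hK.2.2.2.2.1 ▸ card_dvd_of_le (inf_le_left : R ≤ W))
  have hgt : 1 < Nat.card R := by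
    by_contra h
    exact hR1 (card_eq_one.1 (by have := Nat.card_pos (α := R); omega))
  rw [e] at hgt hR4 ⊢
  interval_cases i <;> simp_all

theorem fixed_eq (hT : IsPGroup 2 T) (hK : IsJComponent T K) {a : G} (ha : a ∈ J)
    (haW : a ∉ centralizer (W : Set G)) {w : G} (hw : w ∈ W) (haw : a * w * a⁻¹ = w) :
    w ∈ centralizer (J : Set G) := by
  by_contra hn
  apply haW
  refine mem_centralizer_iff.2 fun x hx => ?_
  suffices h : x ∈ W ⊓ centralizer ({a} : Set G) from (mem_centralizer_singleton_iff.1 h.2)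
  set F := W ⊓ centralizer ({a} : Set G)
  have hRF : W ⊓ centralizer (J : Set G) ≤ F :=
    inf_le_inf_left _ (centralizer_le (Set.singleton_subset_iff.2 ha))
  have hwF : w ∈ F := ⟨hw, mem_centralizer_singleton_iff.2 (mul_inv_eq_iff_eq_mul.1 haw).symm⟩
  obtain ⟨m, hm⟩ := card_dvd_of_le hRF
  rw [card_fixed hT hK] at hm
  have hgt : 2 < Nat.card F := by
    rcases Nat.lt_or_ge 2 (Nat.card F) with h | h
    · exact h
    · exact absurd ((eq_of_le_of_card_ge hRF (by rw [card_fixed hT hK]; exact h)).ge hwF).2 hn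
  have h4 : Nat.card F ∣ 4 := hK.2.2.2.2.1 ▸ card_dvd_of_le (inf_le_left : F ≤ W)
  have hle : Nat.card F ≤ 4 := Nat.le_of_dvd (by norm_num) h4
  have hF4 : Nat.card F = 4 := by
    have := Nat.card_pos (α := F)
    interval_cases h : Nat.card F <;> omega
  exact (eq_of_le_of_card_ge (inf_le_left : F ≤ W) (by rw [hF4, hK.2.2.2.2.1])).ge hx

theorem comm_mem_fixed (hT : IsPGroup 2 T) (hK : IsJComponent T K) {a : G} (ha : a ∈ J) {w : G}
    (hw : w ∈ W) : ⁅a, w⁆ ∈ W ⊓ centralizer (J : Set G) := by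
  have haN : a ∈ normalizer (W : Set G) := normalizer_le_normalizer_W (J_le_normalizer hK ha)
  have h1 : ⁅a, w⁆ ∈ W := by
    rw [commutatorElement_def]
    exact mul_mem ((mem_normalizer_iff.1 haN w).1 hw) (inv_mem hw)
  refine ⟨h1, ?_⟩
  by_cases haW : a ∈ centralizer (W : Set G)
  · rw [commutatorElement_eq_one_iff_mul_comm.2 (mem_centralizer_iff.1 haW w hw).symm]
    exact one_mem _
  -- `[a, w]` is fixed by `a`, since `a²` acts trivially
  refine fixed_eq hT hK ha haW h1 ?_
  have hconj : ∀ y ∈ W, a * a * y * (a * a)⁻¹ = y := by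
    intro y hy
    set R := W ⊓ centralizer (J : Set G)
    by_cases hyR : y ∈ R
    · rw [(show Commute (a * a) y from (mem_centralizer_iff.1 hyR.2 (a * a) (mul_mem ha ha))).eq]
      group
    · have hR2 := card_fixed hT hK
      obtain ⟨⟨r, hr⟩, hr1⟩ := ne_bot_iff_exists_ne_one.1
        (fun h => by rw [show W ⊓ centralizer (J : Set G) = ⊥ from h, card_bot] at hR2; omega : R ≠ ⊥)
      have hr' : r ≠ 1 := fun h => hr1 (Subtype.ext h)
      -- `W = {1, r, y, r y}`
      have hW : ∀ z ∈ W, z = 1 ∨ z = r ∨ z = y ∨ z = r * y := by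
        classical
        intro z hz
        by_contra hc
        push Not at hc
        have hy1 : y ≠ 1 := fun h => hyR (h ▸ one_mem R)
        have hyr : y ≠ r := fun h => hyR (h ▸ hr)
        have hry1 : r * y ≠ 1 := fun h => hyR (by
          rw [eq_inv_of_mul_eq_one_right h]; exact inv_mem hr)
        have hryr : r * y ≠ r := fun h => hy1 (mul_eq_left.1 h)
        have hryy : r * y ≠ y := fun h => hr' (mul_eq_right.1 h)
        have h5 : ({1, r, y, r * y, z} : Set G).ncard ≤ Nat.card W := by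
          rw [show Nat.card W = (W : Set G).ncard from Nat.card_coe_set_eq _]
          refine Set.ncard_le_ncard ?_ (Set.toFinite _)
          rintro e (rfl | rfl | rfl | rfl | rfl)
          exacts [one_mem W, hr.1, hy, mul_mem hr.1 hy, hz]
        rw [hK.2.2.2.2.1, Set.ncard_insert_of_notMem (by simp [Ne.symm hr', Ne.symm hy1, Ne.symm hry1,
            Ne.symm hc.1]) (Set.toFinite _),
          Set.ncard_insert_of_notMem (by simp [Ne.symm hyr, Ne.symm hryr, Ne.symm hc.2.1]) (Set.toFinite _),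
          Set.ncard_insert_of_notMem (by simp [Ne.symm hryy, Ne.symm hc.2.2.1]) (Set.toFinite _),
          Set.ncard_pair hc.2.2.2.symm] at h5
        omega
      have hfr : a * r * a⁻¹ = r := by
        rw [(show Commute a r from mem_centralizer_iff.1 hr.2 a ha).eq]; group
      have hne : a * y * a⁻¹ ≠ y := fun h => hyR ⟨hy, fixed_eq hT hK ha haW hy h⟩
      have hay : a * y * a⁻¹ = r * y := by
        rcases hW _ ((mem_normalizer_iff.1 haN y).1 hy) with h | h | h | h
        · exact absurd (conj_eq_one_iff.1 h) (fun h => hyR (h ▸ one_mem R))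
        · exact absurd (mul_left_cancel (mul_right_cancel (h.trans hfr.symm))) (fun h => hyR (h ▸ hr))
        · exact absurd h hne
        · exact h
      calc a * a * y * (a * a)⁻¹ = a * (a * y * a⁻¹) * a⁻¹ := by group
        _ = a * (r * y) * a⁻¹ := by rw [hay]
        _ = (a * r * a⁻¹) * (a * y * a⁻¹) := by group
        _ = r * (r * y) := by rw [hfr, hay]
        _ = y := by rw [← mul_assoc, ← pow_two, W_pow hr.1, one_mul]
  have h2 := hconj w hw
  rw [commutatorElement_def]
  calc a * (a * w * a⁻¹ * w⁻¹) * a⁻¹ = (a * a * w * (a * a)⁻¹) * (a * w⁻¹ * a⁻¹) := by group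
    _ = w * (a * w⁻¹ * a⁻¹) := by rw [h2]
    _ = (a * w⁻¹ * a⁻¹) * w := W_commute hw ((mem_normalizer_iff.1 haN _).1 (inv_mem hw))
    _ = a * w * a⁻¹ * w⁻¹ := by
      have e : ∀ z ∈ W, z⁻¹ = z := fun z hz =>
        inv_eq_of_mul_eq_one_right (by rw [← pow_two]; exact W_pow hz)
      rw [e w hw]

/-! ### The Sylow subgroup `O₂(K) J` and largest elementary abelian subgroups -/

theorem isSylow_sup (hT : IsPGroup 2 T) (hK : IsJComponent T K) : IsSylowTwoIn (R2 ⊔ J) (K ⊔ J) := by
  have hJR : J ≤ normalizer (R2 : Set G) :=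
    (J_le_normalizer hK).trans (normalizer_le_normalizer_pCoreOf K)
  have hp : IsPGroup 2 ↥(R2 ⊔ J) :=
    IsPGroup.to_sup_of_normal_left' isPGroup_core (isPGroup_J hT) hJR
  refine ⟨sup_le_sup_right core_le _, hp, ?_⟩
  have hcard : ∀ A : Subgroup G, J ≤ normalizer (A : Set G) →
      Nat.card ↥(A ⊔ J) * Nat.card ↥(A ⊓ J) = Nat.card A * Nat.card J := by
    intro A hA
    have h1 := Core.card_mul_relIndex (le_sup_left : A ≤ A ⊔ J)
    have h2 := Core.card_mul_relIndex (inf_le_right : A ⊓ J ≤ J)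
    haveI : (A.subgroupOf (A ⊔ J)).Normal :=
      (normal_subgroupOf_iff_le_normalizer le_sup_left).2 (sup_le le_normalizer hA)
    have h3 : A.relIndex (A ⊔ J) = A.relIndex J := by
      rw [← relIndex_subgroupOf (le_sup_right : J ≤ A ⊔ J), relIndex, ← relIndex_top_right,
        ← subgroupOf_self (H := A ⊔ J), subgroupOf_sup le_sup_left le_sup_right, sup_comm (A.subgroupOf (A ⊔ J)), relIndex_sup_right]
    rw [inf_relIndex_right] at h2
    rw [← h1, h3, mul_assoc, mul_comm (A.relIndex J), h2]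
  have hinf : K ⊓ J = R2 ⊓ J := by
    refine le_antisymm (le_inf ?_ inf_le_right) (inf_le_inf_right _ core_le)
    exact le_trans le_sup_right (eq_core_of_two hK le_sup_left (sup_le core_le inf_le_left)
      (IsPGroup.to_sup_of_normal_left' isPGroup_core ((isPGroup_J hT).to_le inf_le_right)
        (inf_le_right.trans hJR))).le
  have e1 := hcard K (J_le_normalizer hK)
  have e2 := hcard R2 hJR
  have e3 : Nat.card ↥(K ⊔ J) = 3 * Nat.card ↥(R2 ⊔ J) := by
    apply Nat.eq_of_mul_eq_mul_right (Nat.card_pos (α := ↥(R2 ⊓ J)))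
    rw [mul_assoc, e2, ← hinf, e1, card_eq hK, mul_assoc]
  have h := Core.card_mul_relIndex (sup_le_sup_right core_le J : R2 ⊔ J ≤ K ⊔ J)
  rw [e3, mul_comm 3, ] at h
  rw [Nat.eq_of_mul_eq_mul_left Nat.card_pos h]
  decide

/-- In a 2-group with Thompson subgroup `J(T)`, members of `𝒜(T)` are largest. -/
theorem max_of_thompson_eq {S A : Subgroup G} (hS : thompsonSubgroupOf 2 S = J)
    (hA : IsMaxEAIn 2 T A) : IsMaxEAIn 2 S A := by
  have hAS : A ≤ S := by
    refine le_trans ?_ (hS ▸ map_subtype_le _ : J ≤ S)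
    rw [thompsonSubgroupOf_eq_sSup]; exact le_sSup hA
  obtain ⟨B, hB⟩ := exists_isMaxEAIn (p := 2) S
  have hBT : B ≤ T := by
    refine le_trans ?_ (hS ▸ map_subtype_le _ : thompsonSubgroupOf 2 S ≤ T)
    rw [thompsonSubgroupOf_eq_sSup]; exact le_sSup hB
  exact ⟨hAS, hA.2.1, fun C hC hCe => (hB.2.2 C hC hCe).trans (hA.2.2 B hBT hB.2.1)⟩

theorem max_in_sylow (hT : IsPGroup 2 T) (hK : IsJComponent T K) {A : Subgroup G}
    (hA : IsMaxEAIn 2 T A) : IsMaxEAIn 2 (R2 ⊔ J) A :=
  max_of_thompson_eq (hK.2.2.2.1 _ (isSylow_sup hT hK) le_sup_right) hA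

theorem exists_moving (hK : IsJComponent T K) :
    ∃ A, IsMaxEAIn 2 T A ∧ ¬ A ≤ centralizer (W : Set G) := by
  by_contra hc
  push Not at hc
  apply J_not_centralizes_W hK
  rw [thompsonSubgroupOf_eq_sSup, sSup_le_iff]
  exact fun A hA => hc A hA

omit [Finite G] in
theorem le_J {A : Subgroup G} (hA : IsMaxEAIn 2 T A) : A ≤ J := by
  rw [thompsonSubgroupOf_eq_sSup]; exact le_sSup hA

/-- the fixed line lies in every member of `𝒜(T)` -/
theorem fixed_le_max (hT : IsPGroup 2 T) (hK : IsJComponent T K) {A : Subgroup G}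
    (hA : IsMaxEAIn 2 T A) : W ⊓ centralizer (J : Set G) ≤ A := fun w hw =>
  (max_in_sylow hT hK hA).mem_of_commute (mem_sup_left (W_le_core hw.1)) (W_pow hw.1) fun a ha =>
    (mem_centralizer_iff.1 hw.2 a (le_J hA ha)).symm

/-- `(A ∩ C(W)) W` is again largest. -/
theorem max_swap (hT : IsPGroup 2 T) (hK : IsJComponent T K) {A : Subgroup G}
    (hA : IsMaxEAIn 2 T A) :
    IsMaxEAIn 2 (R2 ⊔ J) ((A ⊓ centralizer (W : Set G)) ⊔ W) := by
  have hA' := max_in_sylow hT hK hA
  set A₁ := A ⊓ centralizer (W : Set G) with hA₁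
  have hea : IsElementaryAbelian 2 (A₁ ⊔ W) := by
    rw [← closure_eq A₁, ← closure_eq W, ← Subgroup.closure_union]
    refine Thompson.isEA_closure ?_ ?_
    · rintro a (ha | ha) b (hb | hb)
      · exact Thompson.isEA_commute hA.2.1 ha.1 hb.1
      · exact (mem_centralizer_iff.1 ha.2 b hb).symm
      · exact mem_centralizer_iff.1 hb.2 a ha
      · exact W_commute ha hb
    · rintro a (ha | ha)
      · exact hA.2.1.2 a ha.1
      · exact W_pow ha
  have hle : A₁ ⊔ W ≤ R2 ⊔ J :=
    sup_le (inf_le_left.trans hA'.1) (W_le_core.trans le_sup_left)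
  refine ⟨hle, hea, fun C hC hCe => le_trans (hA'.2.2 C hC hCe) ?_⟩
  by_cases hAW : A ≤ centralizer (W : Set G)
  · exact card_le_of_le fun a ha => mem_sup_left ⟨ha, hAW ha⟩
  have h1 := Timmesfeld.card_mul_card_le A₁ W
  have h2 : Nat.card ↥(A₁ ⊓ W) ≤ 2 := by
    rw [← card_fixed hT hK]
    refine card_le_of_le fun x hx => ⟨hx.2, ?_⟩
    obtain ⟨a, ha, haW⟩ := SetLike.not_le_iff_exists.1 hAW
    refine fixed_eq hT hK (le_J hA ha) haW hx.2 ?_
    rw [(Thompson.isEA_commute hA.2.1 ha hx.1.1).eq]; group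
  have h3 : Nat.card A ≤ 2 * Nat.card A₁ := by
    obtain ⟨a, ha, haW⟩ := SetLike.not_le_iff_exists.1 hAW
    haveI := hA.2.1.1
    -- two cosets
    have hcov : (A : Set G) ⊆ (A₁ : Set G) ∪ (fun x => a * x) '' (A₁ : Set G) := by
      intro b hb
      by_cases hbW : b ∈ centralizer (W : Set G)
      · exact Or.inl ⟨hb, hbW⟩
      refine Or.inr ⟨a⁻¹ * b, ⟨A.mul_mem (A.inv_mem ha) hb, mem_centralizer_iff.2 fun w hw => ?_⟩,
        mul_inv_cancel_left a b⟩
      -- both act as the same transvection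
      have key : a * w * a⁻¹ = b * w * b⁻¹ := by
        have ha' := comm_mem_fixed hT hK (le_J hA ha) hw
        have hb' := comm_mem_fixed hT hK (le_J hA hb) hw
        by_cases hwR : w ∈ centralizer (J : Set G)
        · rw [(show Commute a w from mem_centralizer_iff.1 hwR a (le_J hA ha)).eq,
            (show Commute b w from mem_centralizer_iff.1 hwR b (le_J hA hb)).eq]
          group
        · have hna : ⁅a, w⁆ ≠ 1 := fun h => hwR (fixed_eq hT hK (le_J hA ha) haW hw (by
            rw [commutatorElement_eq_one_iff_mul_comm] at h; rw [h]; group))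
          have hnb : ⁅b, w⁆ ≠ 1 := fun h => hwR (fixed_eq hT hK (le_J hA hb) hbW hw (by
            rw [commutatorElement_eq_one_iff_mul_comm] at h; rw [h]; group))
          have heq : ⁅a, w⁆ = ⁅b, w⁆ := by
            obtain ⟨c, hc⟩ := (Nat.card_eq_two_iff' (1 : ↥(W ⊓ centralizer (J : Set G)))).1 (card_fixed hT hK)
            have e1 := hc.2 ⟨_, ha'⟩ (fun h => hna (congrArg Subtype.val h))
            have e2 := hc.2 ⟨_, hb'⟩ (fun h => hnb (congrArg Subtype.val h))
            exact congrArg Subtype.val (e1.trans e2.symm)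
          rw [commutatorElement_def, commutatorElement_def] at heq
          exact mul_right_cancel heq
      calc w * (a⁻¹ * b) = a⁻¹ * (a * w * a⁻¹) * b := by group
        _ = a⁻¹ * (b * w * b⁻¹) * b := by rw [key]
        _ = a⁻¹ * b * w := by group
    rw [show Nat.card A = (A : Set G).ncard from Nat.card_coe_set_eq _,
      show Nat.card A₁ = (A₁ : Set G).ncard from Nat.card_coe_set_eq _]
    refine le_trans (Set.ncard_le_ncard hcov (Set.toFinite _)) (le_trans (Set.ncard_union_le _ _) ?_)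
    have := Set.ncard_image_le (f := fun x => a * x) (s := (A₁ : Set G)) (Set.toFinite _)
    omega
  have h4 : Nat.card A₁ * 4 ≤ 2 * Nat.card ↥(A₁ ⊔ W) := by
    rw [← hK.2.2.2.2.1]
    exact le_trans h1 (Nat.mul_le_mul_right _ h2)
  omega

end Cfsg.Lib.Local.JComp
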