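import Cfsg.Agent.Lib.Local.JComp.Local

/-!
# Thompson subgroups of 2-groups over `J(T)`
-/

set_option autoImplicit false
set_option linter.style.haveILetI false

namespace Cfsg.Lib.Local.JComp

open Subgroup Cfsg Cfsg.Lib Cfsg.Lib.Local.GlaubermanZJ

universe u

variable {G : Type u} [Group G] [Finite G] {T L S : Subgroup G}

/-- In a subgroup with Sylow subgroup `T`, every 2-group over `J(T)` has Thompson subgroup `J(T)`. -/
theorem thompson_eq_of_two (hT : IsSylowTwoIn T L) (hS : IsPGroup 2 S) (hSL : S ≤ L)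
    (hJS : thompsonSubgroupOf 2 T ≤ S) : thompsonSubgroupOf 2 S = thompsonSubgroupOf 2 T := by
  obtain ⟨S', hS', hSS'⟩ := exists_sylow hS hSL
  obtain ⟨n, -, hn⟩ := exists_conj_sylow hT hS'
  have hJ' : (thompsonSubgroupOf 2 T).map (MulAut.conj n).toMonoidHom = thompsonSubgroupOf 2 S' := by
    rw [← hn]
    exact Thompson.map_thompsonSubgroupOf _ _ (MulAut.conj n).injective.injOn
  obtain ⟨A₀, hA₀⟩ := exists_isMaxEAIn (p := 2) T
  have hmax : ∀ C : Subgroup G, C ≤ S' → IsElementaryAbelian 2 C → Nat.card C ≤ Nat.card A₀ := by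
    intro C hC hCe
    rw [← BaumannBlock.card_map_mulEquiv (MulAut.conj n).symm C]
    refine hA₀.2.2 _ ?_ (Thompson.isEA_map _ hCe)
    rintro _ ⟨x, hx, rfl⟩
    obtain ⟨y, hy, rfl⟩ := hn.ge (hC hx)
    show (MulAut.conj n).symm ((MulAut.conj n) y) ∈ T
    rw [MulEquiv.symm_apply_apply]; exact hy
  have hAS : ∀ A, IsMaxEAIn 2 T A → IsMaxEAIn 2 S A := fun A hA =>
    ⟨(by rw [thompsonSubgroupOf_eq_sSup]; exact le_sSup hA : A ≤ thompsonSubgroupOf 2 T).trans hJS, hA.2.1,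
      fun C hC hCe => (hmax C (hC.trans hSS') hCe).trans (hA.2.2 A₀ hA₀.1 hA₀.2.1)⟩
  have hle : thompsonSubgroupOf 2 T ≤ thompsonSubgroupOf 2 S := by
    conv_lhs => rw [thompsonSubgroupOf_eq_sSup]
    rw [thompsonSubgroupOf_eq_sSup]
    exact sSup_le_sSup hAS
  have hle' : thompsonSubgroupOf 2 S ≤ thompsonSubgroupOf 2 S' := by
    rw [thompsonSubgroupOf_eq_sSup, thompsonSubgroupOf_eq_sSup]
    refine sSup_le_sSup fun C hC => ?_
    exact ⟨hC.1.trans hSS', hC.2.1, fun D hD hDe =>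
      (hmax D hD hDe).trans (hC.2.2 A₀ (hAS A₀ hA₀).1 hA₀.2.1)⟩
  exact (eq_of_le_of_card_ge hle ((card_le_of_le hle').trans
    (by rw [← hJ', BaumannBlock.card_map_mulEquiv]))).symm

end Cfsg.Lib.Local.JComp
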