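import Cfsg.Agent.Lib.Thompson.Basic
import Cfsg.Agent.Lib.Thompson.OffenderAbelian
import Mathlib.LinearAlgebra.Dual.Lemmas
import Mathlib.LinearAlgebra.Dimension.Free
import Mathlib.Algebra.Module.ZMod
import Mathlib.GroupTheory.Subgroup.Centralizer

/-!
# A commutative 2-group with one fixed point on an elementary abelian 2-group
-/

set_option autoImplicit false
set_option linter.style.haveILetI false

namespace Cfsg.Lib.Local.JComp

open Subgroup Cfsg

universe u

variable {G : Type u} [Group G] [Finite G]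

theorem zmod_two_ne_one : ∀ a : ZMod 2, a ≠ 1 → a = 0 := by decide

theorem zmod_two_cancel : ∀ a b c d : ZMod 2, a + c + d = b + c + d → a + b = 0 := by decide

/-- If the commutative 2-group `B` has only two fixed points on `F`, then `2 |B : C_B(F)| ≤ |F|`. -/
theorem two_card_le_of_fixed_two {B F : Subgroup G} (hB : IsElementaryAbelian 2 B)
    (hF : IsElementaryAbelian 2 F) (hBF : B ≤ normalizer (F : Set G))
    (h2 : Nat.card ↥(F ⊓ centralizer (B : Set G)) = 2) :
    2 * Nat.card B ≤ Nat.card ↥(B ⊓ centralizer (F : Set G)) * Nat.card F := by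
  classical
  haveI := hF.1
  letI : CommGroup F := { (inferInstance : Group F) with mul_comm := fun a b => hF.1.1.comm a b }
  haveI : Fact (Nat.Prime 2) := ⟨Nat.prime_two⟩
  letI : Module (ZMod 2) (Additive F) := AddCommGroup.zmodModule (n := 2) fun x => by
    obtain ⟨⟨y, hy⟩, rfl⟩ := Additive.ofMul.surjective x
    rw [← ofMul_pow]
    have : (⟨y, hy⟩ : F) ^ 2 = 1 := Subtype.ext (hF.2 y hy)
    rw [this, ofMul_one]
  haveI : Finite (Additive F) := inferInstanceAs (Finite F)
  -- the fixed point
  obtain ⟨⟨z, hz⟩, hz1⟩ := ne_bot_iff_exists_ne_one.1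
    (fun h => by rw [h, card_bot] at h2; omega : F ⊓ centralizer (B : Set G) ≠ ⊥)
  set z' : Additive F := Additive.ofMul ⟨z, hz.1⟩ with hz'
  have hz0 : z' ≠ 0 := fun h => hz1 (Subtype.ext (congrArg (fun x : Additive F => ((Additive.toMul x : F) : G)) h))
  obtain ⟨l, hl⟩ : ∃ l : Module.Dual (ZMod 2) (Additive F), l z' = 1 := by
    by_contra hcon
    push Not at hcon
    refine hz0 ((Module.forall_dual_apply_eq_zero_iff (ZMod 2) z').1 fun l => ?_)
    exact zmod_two_ne_one _ (hcon l)
  set φ := F.normalizerMonoidHom.comp (inclusion hBF) with hφ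
  have hφapp : ∀ (g : B) (v : F), ((φ g v : F) : G) = (g : G) * v * (g : G)⁻¹ := fun g v => rfl
  -- the automorphisms in the image
  let lin : φ.range → (Additive F →ₗ[ZMod 2] Additive F) := fun g =>
    (MulEquiv.toAdditive (g : MulAut F)).toAddMonoidHom.toZModLinearMap 2
  have hlin : ∀ g x, lin g x = Additive.ofMul ((g : MulAut F) (Additive.toMul x)) := fun g x => rfl
  let Φ : φ.range × ZMod 2 → Module.Dual (ZMod 2) (Additive F) := fun p =>
    l.comp (lin p.1 + LinearMap.id) + p.2 • l
  have hΦ : Function.Injective Φ := by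
    rintro ⟨g, e⟩ ⟨g', e'⟩ h
    have hfix : ∀ g : φ.range, lin g z' = z' := by
      rintro ⟨_, b, rfl⟩
      rw [hlin]
      refine congrArg Additive.ofMul (Subtype.ext ?_)
      rw [hφapp]
      show (b : G) * z * (b : G)⁻¹ = z
      rw [mem_centralizer_iff.1 hz.2 b b.2, mul_inv_cancel_right]
    have hzz : z' + z' = 0 := by
      show Additive.ofMul ((⟨z, hz.1⟩ : F) * ⟨z, hz.1⟩) = 0
      rw [show (⟨z, hz.1⟩ : F) * ⟨z, hz.1⟩ = 1 from Subtype.ext (by rw [← pow_two]; exact hF.2 z hz.1)]
      rfl
    have he : e = e' := by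
      have h1 := LinearMap.congr_fun h z'
      simpa [Φ, hfix, hzz, hl] using h1
    subst he
    refine Prod.ext ?_ rfl
    -- the two automorphisms differ by a map killed by `l`
    set f := lin g + lin g' with hf
    have hlf : ∀ x, l (f x) = 0 := by
      intro x
      have h1 := LinearMap.congr_fun h x
      simp only [Φ, LinearMap.add_apply, LinearMap.comp_apply, LinearMap.smul_apply, map_add,
        LinearMap.id_apply] at h1
      rw [hf, LinearMap.add_apply, map_add]
      exact zmod_two_cancel _ _ _ _ h1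
    set I : Subgroup G := (AddSubgroup.toSubgroup (LinearMap.range f).toAddSubgroup :
      Subgroup F).map F.subtype with hI
    have hIF : I ≤ F := map_subtype_le _
    have hIB : B ≤ normalizer (I : Set G) := by
      intro b hb
      refine mem_normalizer_fintype ?_
      rintro _ ⟨_, ⟨x, hx⟩, rfl⟩
      obtain ⟨gb, hgb⟩ : ∃ gb : φ.range, (gb : MulAut F) = φ ⟨b, hb⟩ := ⟨⟨_, ⟨⟨b, hb⟩, rfl⟩⟩, rfl⟩
      have hcomm : ∀ (u : φ.range) (y : Additive F), lin gb (lin u y) = lin u (lin gb y) := by
        rintro ⟨_, c, rfl⟩ y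
        rw [hlin, hlin, hlin, hlin, hgb]
        have : (⟨b, hb⟩ : B) * c = c * ⟨b, hb⟩ :=
          Subtype.ext (Thompson.isEA_commute hB hb c.2).eq
        show Additive.ofMul ((φ ⟨b, hb⟩ * φ c) _) = Additive.ofMul ((φ c * φ ⟨b, hb⟩) _)
        rw [← map_mul, ← map_mul, this]
      refine ⟨Additive.toMul (lin gb (f x)), ⟨lin gb x, ?_⟩, ?_⟩
      · show f (lin gb x) = lin gb (f x)
        rw [hf, LinearMap.add_apply, LinearMap.add_apply, map_add, hcomm, hcomm]
      · rw [hx, hlin, hgb]
        exact hφapp _ _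
    by_contra hne
    have hI1 : I ≠ ⊥ := by
      intro hb
      apply hne
      refine Subtype.ext (MulEquiv.ext fun v => Additive.ofMul.injective ?_)
      have h0 : f (Additive.ofMul v) = 0 := by
        have hm : ((Additive.toMul (f (Additive.ofMul v)) : F) : G) ∈ I := ⟨_, ⟨_, rfl⟩, rfl⟩
        rw [hb, mem_bot] at hm
        exact Additive.toMul.injective (Subtype.ext hm)
      have hself : ∀ y : Additive F, y + y = 0 := fun y => by
        have := ZModModule.add_self y
        exact this
      show lin g (Additive.ofMul v) = lin g' (Additive.ofMul v)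
      calc lin g (Additive.ofMul v) = lin g (Additive.ofMul v) + f (Additive.ofMul v) := by rw [h0, add_zero]
        _ = lin g' (Additive.ofMul v) := by
          rw [hf, LinearMap.add_apply, ← add_assoc, hself, zero_add]
    obtain ⟨⟨w, hw⟩, hw1⟩ := ne_bot_iff_exists_ne_one.1 (Cfsg.Lib.Thompson.inf_centralizer_ne_bot_of_isPGroup
      (p := 2) ((Thompson.isPGroup_of_isEA hF).to_le hIF) (Thompson.isPGroup_of_isEA hB) hIB hI1)
    obtain ⟨c, hc⟩ := (Nat.card_eq_two_iff' (1 : ↥(F ⊓ centralizer (B : Set G)))).1 h2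
    have e1 := hc.2 ⟨w, hIF hw.1, hw.2⟩ (fun e => hw1 (Subtype.ext (congrArg Subtype.val e :)))
    have e2 := hc.2 ⟨z, hz⟩ hz1
    have hwz : w = z := congrArg Subtype.val (e1.trans e2.symm)
    obtain ⟨v, ⟨x, hx⟩, hv⟩ := hw.1
    have hzI : z' = f x := by
      rw [hx, hz']
      refine congrArg Additive.ofMul (Subtype.ext ?_)
      show z = (v : G)
      rw [← hwz, ← hv]; rfl
    have := hlf x
    rw [← hzI, hl] at this
    exact one_ne_zero this
  haveI : Finite (Module.Dual (ZMod 2) (Additive F)) := Finite.of_injective _ DFunLike.coe_injective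
  have hcard := Nat.card_le_card_of_injective Φ hΦ
  rw [Nat.card_prod, Nat.card_zmod, Module.natCard_eq_pow_finrank (K := ZMod 2) (V := Module.Dual (ZMod 2) (Additive F)),
    Subspace.dual_finrank_eq, ← Module.natCard_eq_pow_finrank] at hcard
  have hk : Nat.card φ.ker ≤ Nat.card ↥(B ⊓ centralizer (F : Set G)) := by
    have hker : φ.ker = ((centralizer (F : Set G))).subgroupOf B := by
      rw [hφ, ← MonoidHom.comap_ker, normalizerMonoidHom_ker]
      rfl
    rw [hker, ← inf_subgroupOf_left, Nat.card_congr (subgroupOfEquivOfLe inf_le_left).toEquiv]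
  calc 2 * Nat.card B = Nat.card φ.ker * (Nat.card φ.range * 2) := by
        rw [← φ.ker.card_mul_index, index_ker]; ring
    _ ≤ _ := Nat.mul_le_mul hk hcard

end Cfsg.Lib.Local.JComp
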