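import Cfsg.Agent.Lib.Local.JComp.Subnormal
import Cfsg.Agent.Lib.Local.JComp.ThompsonTwo
import Cfsg.Agent.Lib.Local.JComp.Transvection
import Cfsg.Agent.Lib.Coprime.Action

/-!
# Construction of components
-/

set_option autoImplicit false
set_option linter.style.haveILetI false

namespace Cfsg.Lib.Local.JComp

open Subgroup Cfsg Cfsg.Lib Cfsg.Lib.Local.GlaubermanZJ
open scoped commutatorElement

universe u

variable {G : Type u} [Group G] [Finite G] {T L : Subgroup G}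

local notation "J" => thompsonSubgroupOf 2 T
local notation "Q" => pCoreOf 2 L

/-- The elements commuting with `D` modulo `O₂(L)`. -/
def cenD (L : Subgroup G) : Subgroup G where
  carrier := {g | g ∈ L ∧ ∀ d ∈ Dk L, ⁅g, d⁆ ∈ pCoreOf 2 L}
  one_mem' := ⟨L.one_mem, fun d _ => by simp⟩
  mul_mem' := by
    rintro a b ⟨ha, ha'⟩ ⟨hb, hb'⟩
    refine ⟨L.mul_mem ha hb, fun d hd => ?_⟩
    rw [show ⁅a * b, d⁆ = a * ⁅b, d⁆ * a⁻¹ * ⁅a, d⁆ by simp [commutatorElement_def]; group]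
    exact mul_mem ((mem_normalizer_iff.1 (core_le_normalizer' ha) _).1 (hb' d hd)) (ha' d hd)
  inv_mem' := by
    rintro a ⟨ha, ha'⟩
    refine ⟨L.inv_mem ha, fun d hd => ?_⟩
    rw [show ⁅a⁻¹, d⁆ = a⁻¹ * ⁅a, d⁆⁻¹ * a by simp [commutatorElement_def]; group]
    exact (mem_normalizer_iff''.1 (core_le_normalizer' ha) _).1 (inv_mem (ha' d hd))

theorem Ctx.sylow_le_cenD (c : Ctx T L) {S : Subgroup G} (hS : IsSylowTwoIn S L) : S ≤ cenD L :=
  fun _ hs => ⟨hS.1 hs, fun _ hd => sylow_comm_Dk c hS hs hd⟩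

omit [Finite G] in
theorem zpow_of_cube {ρ : G} (h : ρ ^ 3 = 1) (i : ℤ) : ρ ^ i = 1 ∨ ρ ^ i = ρ ∨ ρ ^ i = ρ⁻¹ := by
  have h3 : ρ ^ (3 : ℤ) = 1 := by rw [← h]; exact zpow_natCast ρ 3
  have e : ρ ^ i = ρ ^ (i % 3) := by
    conv_lhs => rw [← Int.emod_add_mul_ediv i 3, zpow_add, zpow_mul, h3, one_zpow, mul_one]
  have h1 := Int.emod_nonneg i (by norm_num : (3 : ℤ) ≠ 0)
  have h2 := Int.emod_lt_of_pos i (by norm_num : (0 : ℤ) < 3)
  rw [e]
  obtain h | h | h : i % 3 = 0 ∨ i % 3 = 1 ∨ i % 3 = 2 := by omega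
  · exact Or.inl (by rw [h, zpow_zero])
  · exact Or.inr (Or.inl (by rw [h, zpow_one]))
  · refine Or.inr (Or.inr ?_)
    rw [h]
    refine eq_inv_of_mul_eq_one_left ?_
    rw [← h3, show (3 : ℤ) = 2 + 1 by norm_num, zpow_add, zpow_one]

/-- An element inverted by a member of a largest elementary abelian subgroup gives a component. -/
theorem Ctx.exists_component (c : Ctx T L) (hTL : IsSylowTwoIn T L) {A : Subgroup G}
    (hA : IsMaxEAIn 2 T A) {b ρ : G} (hb : b ∈ A) (hρL : ρ ∈ L) (ho : Odd (orderOf ρ))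
    (hρD : ρ ∉ Dk L) (hρ3 : ρ ^ 3 ∈ Dk L) (hinv : b * ρ * b⁻¹ = ρ⁻¹) (hcen : ρ ∈ cenD L)
    (hJρ : ∀ j ∈ J, j * ρ * j⁻¹ * ρ⁻¹ ∈ Dk L ∨ j * ρ * j⁻¹ * ρ ∈ Dk L) :
    ∃ K, IsJComponent T K ∧ K ≤ L ∧ ρ ∈ K := by
  haveI : Fact (Nat.Prime 2) := ⟨Nat.prime_two⟩
  have hTL' : T ≤ L := hTL.1
  have hbJ : b ∈ J := le_J hA hb
  have hJT : J ≤ T := map_subtype_le _
  have hbL : b ∈ L := hTL' (hJT hbJ)
  have hQD : Q ≤ Dk L := core_le_Dk c
  have hQp : IsPGroup 2 Q := isPGroup_Q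
  have hQL : Q ≤ L := map_subtype_le _
  have hLQ : L ≤ normalizer (Q : Set G) := core_le_normalizer'
  have hρQ : ρ ∉ Q := fun h => hρD (hQD h)
  -- `ρ` has order three
  have hρ3' : ρ ^ 3 = 1 := by
    have h1 : ⁅b, ρ ^ 3⁆ ∈ Q := sylow_comm_Dk c hTL (hJT hbJ) hρ3
    have h2 : ⁅b, ρ ^ 3⁆ = (ρ ^ 6)⁻¹ := by
      rw [commutatorElement_def, ← conj_pow, hinv]; group
    obtain ⟨k, hk⟩ := hQp ⟨_, h2 ▸ h1⟩
    have h4 : ((ρ ^ 6)⁻¹) ^ 2 ^ k = 1 := congrArg Subtype.val hk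
    rw [inv_pow, inv_eq_one, ← pow_mul] at h4
    have h5 : orderOf ρ ∣ 3 * 2 ^ (k + 1) := by
      rw [show 3 * 2 ^ (k + 1) = 6 * 2 ^ k by ring]
      exact orderOf_dvd_of_pow_eq_one h4
    exact orderOf_dvd_iff_pow_eq_one.1
      (((odd_iff_coprime.1 ho).pow_right (k + 1)).dvd_of_dvd_mul_right h5)
  have hord : orderOf ρ = 3 := by
    haveI : Fact (Nat.Prime 3) := ⟨Nat.prime_three⟩
    exact orderOf_eq_prime hρ3' fun h => hρD (h ▸ one_mem _)
  have hρz : Nat.card (zpowers ρ) = 3 := by rw [Nat.card_zpowers, hord]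
  have hb2 : b⁻¹ = b := inv_eq_of_mul_eq_one_right (by rw [← pow_two]; exact hA.2.1.2 b hb)
  -- `Y = O₂(L) ⟨ρ⟩`
  set Y := Q ⊔ zpowers ρ with hY
  have hρzL : zpowers ρ ≤ L := zpowers_le.2 hρL
  have hρN : zpowers ρ ≤ normalizer (Q : Set G) := hρzL.trans hLQ
  have hρY : ρ ∈ Y := mem_sup_right (mem_zpowers ρ)
  have hYL : Y ≤ L := sup_le hQL hρzL
  have hconjY : ∀ g ∈ L, g * ρ * g⁻¹ ∈ Y → g ∈ normalizer (Y : Set G) := by
    intro g hg h
    refine mem_normalizer_fintype fun x hx => ?_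
    suffices hle : Y ≤ Y.comap (MulAut.conj g).toMonoidHom from hle hx
    exact sup_le (fun q hq => mem_sup_left ((mem_normalizer_iff.1 (hLQ hg) q).1 hq)) (zpowers_le.2 h)
  have hbY : b ∈ normalizer (Y : Set G) := hconjY b hbL (hinv ▸ inv_mem hρY)
  -- conjugation of `ρ` by `J`
  haveI : ((Q).subgroupOf L).Normal := (normal_subgroupOf_iff_le_normalizer hQL).2 hLQ
  set π := QuotientGroup.mk' ((Q).subgroupOf L) with hπ
  have hπ1 : ∀ x : L, π x = 1 ↔ (x : G) ∈ Q := fun x =>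
    (QuotientGroup.eq_one_iff x).trans mem_subgroupOf
  have hcom : ∀ {x y : L}, ⁅(x : G), (y : G)⁆ ∈ Q → Commute (π x) (π y) := by
    intro x y h
    refine commutatorElement_eq_one_iff_mul_comm.1 ?_
    rw [← map_commutatorElement]
    exact (hπ1 _).2 h
  have hA' : ∀ j ∈ J, j * ρ * j⁻¹ * ρ⁻¹ ∈ Dk L → j * ρ * j⁻¹ ∈ Y := by
    intro j hj hd
    set d := j * ρ * j⁻¹ * ρ⁻¹ with hdd
    suffices hdQ : d ∈ Q by
      rw [show j * ρ * j⁻¹ = d * ρ by rw [hdd]; group]
      exact mul_mem (mem_sup_left hdQ) hρY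
    set j' := π ⟨j, hTL' (hJT hj)⟩
    set ρ' := π ⟨ρ, hρL⟩
    set d' := π ⟨d, hd.1⟩
    have cρd : Commute ρ' d' := hcom (hcen.2 d hd)
    have cjd : Commute j' d' := hcom (sylow_comm_Dk c hTL (hJT hj) hd)
    have e1 : j' * ρ' * j'⁻¹ = d' * ρ' := by
      simp only [j', ρ', d', ← map_inv, ← map_mul]
      congr 1
      apply Subtype.ext
      show j * ρ * j⁻¹ = d * ρ
      rw [hdd]; group
    have hρ'3 : ρ' ^ 3 = 1 := by
      simp only [ρ', ← map_pow]
      refine (hπ1 _).2 ?_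
      rw [coe_pow]
      show ρ ^ 3 ∈ Q
      rw [hρ3']; exact one_mem _
    have hd3 : d' ^ 3 = 1 := by
      have h : (j' * ρ' * j'⁻¹) ^ 3 = (d' * ρ') ^ 3 := by rw [e1]
      rw [conj_pow, hρ'3, mul_one, mul_inv_cancel, cρd.symm.mul_pow, hρ'3, mul_one] at h
      exact h.symm
    have hn : ∀ n : ℕ, j' ^ n * ρ' * (j' ^ n)⁻¹ = d' ^ n * ρ' := by
      intro n
      induction n with
      | zero => simp
      | succ n ih =>
        calc j' ^ (n + 1) * ρ' * (j' ^ (n + 1))⁻¹ = j' * (j' ^ n * ρ' * (j' ^ n)⁻¹) * j'⁻¹ := by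
              rw [pow_succ']; group
          _ = (j' * d' ^ n * j'⁻¹) * (j' * ρ' * j'⁻¹) := by rw [ih]; group
          _ = d' ^ (n + 1) * ρ' := by rw [(cjd.pow_right n).eq, mul_inv_cancel_right, e1, pow_succ, mul_assoc]
    obtain ⟨k, hk⟩ := isPGroup_J c.hT ⟨j, hj⟩
    have hjk : j' ^ 2 ^ k = 1 := by
      simp only [j', ← map_pow]
      refine (hπ1 _).2 ?_
      rw [coe_pow]
      show j ^ 2 ^ k ∈ Q
      rw [show j ^ 2 ^ k = 1 from congrArg Subtype.val hk]; exact one_mem _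
    have hd2 := hn (2 ^ k)
    rw [hjk, one_mul, inv_one, mul_one] at hd2
    have hd2' : d' ^ 2 ^ k = 1 := mul_right_cancel (hd2.symm.trans (one_mul ρ').symm)
    have hd1 : d' = 1 := orderOf_eq_one_iff.1 (Nat.eq_one_of_dvd_coprimes
      ((by decide : Nat.Coprime 3 2).pow_right k) (orderOf_dvd_of_pow_eq_one hd3) (orderOf_dvd_of_pow_eq_one hd2'))
    exact (hπ1 ⟨d, hd.1⟩).1 hd1
  have hJY : ∀ j ∈ J, j * ρ * j⁻¹ ∈ Y := by
    intro j hj
    rcases hJρ j hj with h | h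
    · exact hA' j hj h
    have h2 : (b * j) * ρ * (b * j)⁻¹ * ρ⁻¹ ∈ Dk L := by
      rw [show (b * j) * ρ * (b * j)⁻¹ * ρ⁻¹ = b * (j * ρ * j⁻¹ * ρ) * b⁻¹ * ((b * ρ * b⁻¹)⁻¹ * ρ⁻¹) by group,
        hinv, inv_inv, mul_inv_cancel, mul_one]
      exact (mem_normalizer_iff.1 (Dk_normalized hbL) _).1 h
    have h3 := hA' (b * j) (mul_mem hbJ hj) h2
    rw [show (b * j) * ρ * (b * j)⁻¹ = b * (j * ρ * j⁻¹) * b⁻¹ by group] at h3
    exact (mem_normalizer_iff.1 hbY _).2 h3
  have hJNY : J ≤ normalizer (Y : Set G) := fun j hj => hconjY j (hTL' (hJT hj)) (hJY j hj)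
  -- `K`
  set K := closure {g : G | g ∈ Y ∧ Odd (orderOf g)} with hKdef
  have hKY : K ≤ Y := (closure_le _).2 fun g hg => hg.1
  have hKL : K ≤ L := hKY.trans hYL
  have hρK : ρ ∈ K := subset_closure ⟨hρY, ho⟩
  have hYK : normalizer (Y : Set G) ≤ normalizer (K : Set G) := by
    intro g hg
    refine mem_normalizer_fintype fun x hx => ?_
    suffices hle : K ≤ K.comap (MulAut.conj g).toMonoidHom from hle hx
    refine (closure_le _).2 fun z hz => subset_closure ⟨(mem_normalizer_iff.1 hg z).1 hz.1, ?_⟩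
    show Odd (orderOf (MulAut.conj g z))
    rw [MulEquiv.orderOf_eq]; exact hz.2
  have hJK : J ≤ normalizer (K : Set G) := hJNY.trans hYK
  have hQK : Q ≤ normalizer (K : Set G) := (le_sup_left.trans le_normalizer).trans hYK
  set KQ := K ⊓ Q with hKQ
  have hKKQ : K ≤ normalizer (KQ : Set G) :=
    (le_inf le_normalizer (hKL.trans hLQ)).trans inf_normalizer_le_normalizer_inf
  have hdec : ∀ x ∈ K, ∃ q ∈ KQ, ∃ i : ℤ, x = q * ρ ^ i := by
    intro x hx
    have hx' : x ∈ zpowers ρ ⊔ Q := by rw [sup_comm]; exact hKY hx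
    obtain ⟨v, ⟨i, rfl⟩, q, hq, rfl⟩ := (Core.mem_sup_of_le_normalizer hρN).1 hx'
    show ∃ q' ∈ KQ, ∃ k : ℤ, ρ ^ i * q = q' * ρ ^ k
    refine ⟨ρ ^ i * q * (ρ ^ i)⁻¹, ⟨?_, ?_⟩, i, by group⟩
    · exact K.mul_mem hx (K.inv_mem (K.zpow_mem hρK i))
    · exact (mem_normalizer_iff.1 (zpow_mem (hρN (mem_zpowers ρ)) i) q).1 hq
  have hgen : KQ ⊔ zpowers ρ = K := by
    refine le_antisymm (sup_le inf_le_left (zpowers_le.2 hρK)) fun x hx => ?_
    obtain ⟨q, hq, i, rfl⟩ := hdec x hx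
    exact mul_mem (mem_sup_left hq) (mem_sup_right (zpow_mem (mem_zpowers ρ) i))
  have hKQp : IsPGroup 2 KQ := hQp.to_le inf_le_right
  have hcardK : Nat.card K = 3 * Nat.card KQ := by
    have h1 := card_sup_mul_card_inf' (A := KQ) (B := zpowers ρ) ((zpowers_le.2 hρK).trans hKKQ)
    obtain ⟨n, hn⟩ := IsPGroup.iff_card.1 hKQp
    have h2 : KQ ⊓ zpowers ρ = ⊥ := disjoint_iff.1 (Cfsg.Lib.Coprime.disjoint_of_coprime_card
      (by rw [hn, hρz]; exact Nat.Coprime.pow_left n (by decide)))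
    rw [h2, card_bot, mul_one, hgen, hρz] at h1
    omega
  have hR2 : pCoreOf 2 K = KQ := by
    have h1 : KQ ≤ pCoreOf 2 K := le_pCoreOf inf_le_left hKKQ hKQp
    obtain ⟨n, hn⟩ := IsPGroup.iff_card.1 (isPGroup_core (K := K))
    have d2 : Nat.card ↥(pCoreOf 2 K) ∣ Nat.card KQ := by
      refine Nat.Coprime.dvd_of_dvd_mul_left ?_ (hcardK ▸ card_dvd_of_le core_le)
      rw [hn]
      exact Nat.Coprime.pow_left n (by decide)
    exact (eq_of_le_of_card_ge h1 (Nat.le_of_dvd Nat.card_pos d2)).symm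
  refine ⟨K, ⟨?_, ?_, ?_, ?_, ?_, ?_⟩, hKL, hρK⟩
  · refine le_antisymm ((closure_le _).2 fun g hg => hg.1) ?_
    exact (closure_le _).2 fun g hg => subset_closure ⟨subset_closure hg, hg.2⟩
  · refine le_antisymm (le_normalizer_iff_commutator_le_left.1 hJK) ?_
    set N0 := ⁅K, J⁆ with hN0
    have h2 : ρ * ρ ∈ N0 := by
      have h := commutator_mem_commutator hρK hbJ (H₁ := K) (H₂ := J)
      rwa [commutatorElement_def, show ρ * b * ρ⁻¹ * b⁻¹ = ρ * (b * ρ * b⁻¹)⁻¹ by group, hinv, inv_inv] at h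
    have hρN0 : ρ ∈ N0 := by
      have h4 := mul_mem h2 h2
      rwa [show ρ * ρ * (ρ * ρ) = ρ ^ 3 * ρ by simp [pow_succ, mul_assoc], hρ3', one_mul] at h4
    have hKN0 : K ≤ normalizer (N0 : Set G) := normalizer_commutator_ge_left K J
    refine (closure_le _).2 fun x hx => ?_
    have hxK : x ∈ K := subset_closure hx
    refine BaumannBlock.mem_of_coprime (p := 2) ((inf_le_left : KQ ≤ K).trans hKN0) hKQp ?_ (odd_iff_coprime.1 hx.2)
    have : K ≤ N0 ⊔ KQ := hgen.ge.trans (sup_le le_sup_right (le_sup_left.trans' (zpowers_le.2 hρN0)))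
    exact this hxK
  · rw [hR2]
    have h := Core.card_mul_relIndex (inf_le_left : KQ ≤ K)
    rw [hcardK, mul_comm 3] at h
    exact Nat.eq_of_mul_eq_mul_left Nat.card_pos h
  · intro S hS hJS
    exact thompson_eq_of_two hTL hS.2.1 (hS.1.trans (sup_le hKL (hJT.trans hTL'))) hJS
  · set U := omegaCenterOf (pCoreOf 2 K) with hU
    set W := wOf K with hW
    have hWU : W ≤ U := W_le_omega
    have hKW : K ≤ normalizer (W : Set G) := le_normalizer.trans normalizer_le_normalizer_W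
    have hJW : J ≤ normalizer (W : Set G) := hJK.trans normalizer_le_normalizer_W
    have hρW : ρ ∈ normalizer (W : Set G) := hKW hρK
    have hqW : ∀ q ∈ KQ, q ∈ centralizer (W : Set G) := fun q hq =>
      core_le_centralizer_W (hR2.ge hq)
    -- `ρ` has no fixed point on `W`
    have hWρ : W ≤ ⁅U, zpowers ρ⁆ := by
      rw [hW, wOf, commutator_le]
      intro u hu k hk
      obtain ⟨q, hq, i, rfl⟩ := hdec k hk
      have hqU : ∀ {x}, x ∈ U → Commute x q := fun hx => omega_commute hx (hR2.ge hq)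
      have hU' : ⁅u, ρ ^ i⁆ ∈ U := by
        rw [commutatorElement_def, show u * ρ ^ i * u⁻¹ * (ρ ^ i)⁻¹ = u * (ρ ^ i * u⁻¹ * (ρ ^ i)⁻¹) by group]
        exact mul_mem hu ((mem_normalizer_iff.1 (normalizer_le_normalizer_omega
          (le_normalizer (zpow_mem hρK i))) _).1 (inv_mem hu))
      rw [show ⁅u, q * ρ ^ i⁆ = ⁅u, q⁆ * (q * ⁅u, ρ ^ i⁆ * q⁻¹) by simp [commutatorElement_def]; group,
        commutatorElement_eq_one_iff_mul_comm.2 (hqU hu).eq, one_mul, ← (hqU hU').eq, mul_inv_cancel_right]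
      exact commutator_mem_commutator hu (zpow_mem (mem_zpowers ρ) i)
    have hfpf : ∀ w ∈ W, ρ * w * ρ⁻¹ = w → w = 1 := by
      intro w hw h
      have hUea : IsElementaryAbelian 2 U :=
        ⟨⟨⟨fun a b => Subtype.ext (omega_commute a.2 (omega_le b.2)).eq⟩⟩, fun _ ha => omega_pow ha⟩
      haveI := hUea.1
      have hdisj := Cfsg.Lib.Coprime.disjoint_commutator_centralizer (G := U) (A := zpowers ρ)
        ((zpowers_le.2 hρK).trans (le_normalizer.trans normalizer_le_normalizer_omega)) (by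
          obtain ⟨n, hn⟩ := IsPGroup.iff_card.1 (Thompson.isPGroup_of_isEA hUea)
          rw [hn, hρz]
          exact Nat.Coprime.pow_right n (by decide))
      refine mem_bot.1 (disjoint_iff.1 hdisj ▸ ⟨hWρ hw, mem_centralizer_iff.2 ?_⟩)
      rintro _ ⟨i, rfl⟩
      exact ((show Commute ρ w from mul_inv_eq_iff_eq_mul.1 h).zpow_left i).eq
    have hWne : W ≠ ⊥ := by
      obtain ⟨v, hv, hρv⟩ : ∃ v ∈ Vc L, ⁅ρ, v⁆ ≠ 1 := by
        by_contra hc
        push Not at hc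
        exact hρD ⟨hρL, mem_centralizer_iff.2 fun v hv =>
          (commutatorElement_eq_one_iff_mul_comm.1 (hc v hv)).symm⟩
      intro hW0
      set u := ⁅ρ, v⁆ with hu
      have huV : u ∈ Vc L := by
        rw [hu, commutatorElement_def]
        exact mul_mem ((mem_normalizer_iff.1 (Vc_normalized hρL) v).1 hv) (inv_mem hv)
      have huK : u ∈ K := by
        rw [hu, commutatorElement_def, show ρ * v * ρ⁻¹ * v⁻¹ = ρ * (v * ρ⁻¹ * v⁻¹) by group]
        exact mul_mem hρK ((mem_normalizer_iff.1 (hQK (Vc_le c hv)) _).1 (inv_mem hρK))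
      have huU : u ∈ U := subset_closure ⟨⟨hR2.ge ⟨huK, Vc_le c huV⟩, mem_centralizer_iff.2 fun q hq =>
        (mem_centralizer_iff.1 (core_le_centralizer c (hR2.le hq).2) _ huV).symm⟩, (Vc_ea c).2 u huV⟩
      have h1 : ⁅ρ, u⁆ ∈ W := by
        rw [hW, wOf, commutator_comm]; exact commutator_mem_commutator hρK huU
      rw [hW0, mem_bot] at h1
      exact hρv (commutatorElement_eq_one_iff_mul_comm.2
        (BaumannBlock.commute_of_coprime (p := 2) (odd_iff_coprime.1 ho) ((Vc_ea c).2 u huV)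
          (commutatorElement_eq_one_iff_mul_comm.1 h1) (Thompson.isEA_commute (Vc_ea c) hv huV)).eq)
    -- the action of `b`
    have hbW : b ∈ normalizer (W : Set G) := hJW hbJ
    set F := W ⊓ centralizer ({b} : Set G) with hF
    have hFfix : ∀ {f : G}, f ∈ F → b * f * b⁻¹ = f := fun hf => by
      rw [← mem_centralizer_singleton_iff.1 hf.2, mul_inv_cancel_right]
    have hWF : Nat.card W ≤ Nat.card F * Nat.card F := by
      let δ : W →* G :=
        { toFun := fun w => (w : G) * (b * w * b⁻¹)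
          map_one' := by simp
          map_mul' := fun v w => by
            show (v : G) * w * (b * (v * w) * b⁻¹) = (v : G) * (b * v * b⁻¹) * ((w : G) * (b * w * b⁻¹))
            have h : Commute (b * (v : G) * b⁻¹) (w : G) :=
              W_commute ((mem_normalizer_iff.1 hbW _).1 v.2) w.2
            calc (v : G) * w * (b * (v * w) * b⁻¹) = (v : G) * ((w : G) * (b * v * b⁻¹)) * (b * w * b⁻¹) := by group
              _ = _ := by rw [← h.eq]; group }
      rw [← δ.ker.card_mul_index, index_ker]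
      refine Nat.mul_le_mul ?_ (card_le_of_le ?_)
      · refine Nat.card_le_card_of_injective (fun x : δ.ker =>
          (⟨((x : W) : G), (x : W).2, mem_centralizer_singleton_iff.2 ?_⟩ : F))
          fun a b h => Subtype.ext (Subtype.ext (by simpa using congrArg Subtype.val h))
        have h := x.2
        rw [MonoidHom.mem_ker] at h
        change ((x : W) : G) * (b * (x : W) * b⁻¹) = 1 at h
        have h' : b * ((x : W) : G) * b⁻¹ = ((x : W) : G) := by
          rw [← eq_inv_of_mul_eq_one_right h |>.symm]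
          exact inv_eq_of_mul_eq_one_right (by rw [← pow_two]; exact W_pow (x : W).2)
        exact (mul_inv_eq_iff_eq_mul.1 h').symm
      · rintro _ ⟨w, rfl⟩
        have hbw := (mem_normalizer_iff.1 hbW _).1 w.2
        refine ⟨W.mul_mem w.2 hbw, mem_centralizer_singleton_iff.2 ?_⟩
        show (w : G) * (b * w * b⁻¹) * b = b * ((w : G) * (b * w * b⁻¹))
        have hbb : b * b = 1 := by rw [← pow_two]; exact hA.2.1.2 b hb
        have key : b * ((w : G) * (b * w * b⁻¹)) * b⁻¹ = (w : G) * (b * w * b⁻¹) := by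
          calc b * ((w : G) * (b * w * b⁻¹)) * b⁻¹ = (b * w * b⁻¹) * ((b * b) * w * (b * b)⁻¹) := by group
            _ = (b * w * b⁻¹) * w := by rw [hbb]; simp
            _ = _ := (W_commute hbw w.2).eq
        exact (mul_inv_eq_iff_eq_mul.1 key).symm
    have hpow2 : ∀ {x : G}, x ∈ W → x⁻¹ = x := fun hx =>
      inv_eq_of_mul_eq_one_right (by rw [← pow_two]; exact W_pow hx)
    have hinvρ : ∀ w : G, b * (ρ * w * ρ⁻¹) * b⁻¹ = ρ⁻¹ * (b * w * b⁻¹) * ρ := by
      intro w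
      calc b * (ρ * w * ρ⁻¹) * b⁻¹ = (b * ρ * b⁻¹) * (b * w * b⁻¹) * (b * ρ * b⁻¹)⁻¹ := by group
        _ = _ := by rw [hinv, inv_inv]
    have hinj : Function.Injective (fun p : F × F => (p.1 : G) * (ρ * p.2 * ρ⁻¹)) := by
      rintro ⟨f, g⟩ ⟨f', g'⟩ h
      have h' : (f : G) * (ρ * g * ρ⁻¹) = (f' : G) * (ρ * g' * ρ⁻¹) := h
      have hd : (f' : G)⁻¹ * f = ρ * ((g' : G) * (g : G)⁻¹) * ρ⁻¹ := by
        calc (f' : G)⁻¹ * f = (f' : G)⁻¹ * ((f : G) * (ρ * g * ρ⁻¹)) * (ρ * g * ρ⁻¹)⁻¹ := by group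
          _ = _ := by rw [h']; group
      set e := (g' : G) * (g : G)⁻¹ with he
      have heF : e ∈ F := F.mul_mem g'.2 (F.inv_mem g.2)
      have h3 : ρ * e * ρ⁻¹ = ρ⁻¹ * e * ρ := by
        have := hinvρ e
        rw [hFfix heF, ← hd, hFfix (F.mul_mem (F.inv_mem f'.2) f.2), hd] at this
        exact this
      have he1 : e = 1 := by
        refine hfpf e heF.1 ?_
        calc ρ * e * ρ⁻¹ = ρ⁻¹ * e * ρ := h3
          _ = ρ⁻¹ * ρ⁻¹ * (ρ * e * ρ⁻¹) * (ρ * ρ) := by group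
          _ = ρ⁻¹ * ρ⁻¹ * (ρ⁻¹ * e * ρ) * (ρ * ρ) := by rw [h3]
          _ = (ρ * ρ * ρ)⁻¹ * e * (ρ * ρ * ρ) := by group
          _ = e := by rw [show ρ * ρ * ρ = ρ ^ 3 by simp [pow_succ], hρ3']; group
      rw [he1, mul_one, mul_inv_cancel, inv_mul_eq_one] at hd
      exact Prod.ext (Subtype.ext hd.symm) (Subtype.ext (mul_inv_eq_one.1 (he ▸ he1)).symm)
    have hmemW : ∀ p : F × F, (p.1 : G) * (ρ * p.2 * ρ⁻¹) ∈ W := fun p =>
      mul_mem p.1.2.1 ((mem_normalizer_iff.1 hρW _).1 p.2.2.1)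
    have hFW : Nat.card F * Nat.card F ≤ Nat.card W := by
      rw [← Nat.card_prod]
      exact Nat.card_le_card_of_injective (fun p => (⟨_, hmemW p⟩ : W))
        fun p q h => hinj (congrArg Subtype.val h)
    -- the elements of `A` commuting with the action of `ρ`
    let S' : Subgroup G :=
      { carrier := {g | g ∈ normalizer (W : Set G) ∧ ∀ w ∈ W, g * (ρ * w * ρ⁻¹) * g⁻¹ = ρ * (g * w * g⁻¹) * ρ⁻¹}
        one_mem' := ⟨one_mem _, fun w _ => by group⟩
        mul_mem' := by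
          rintro a c ⟨ha, ha'⟩ ⟨hc, hc'⟩
          refine ⟨mul_mem ha hc, fun w hw => ?_⟩
          calc a * c * (ρ * w * ρ⁻¹) * (a * c)⁻¹ = a * (c * (ρ * w * ρ⁻¹) * c⁻¹) * a⁻¹ := by group
            _ = a * (ρ * (c * w * c⁻¹) * ρ⁻¹) * a⁻¹ := by rw [hc' w hw]
            _ = ρ * (a * (c * w * c⁻¹) * a⁻¹) * ρ⁻¹ := ha' _ ((mem_normalizer_iff.1 hc w).1 hw)
            _ = _ := by group
        inv_mem' := by
          rintro a ⟨ha, ha'⟩
          refine ⟨inv_mem ha, fun w hw => ?_⟩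
          have h := ha' _ ((mem_normalizer_iff''.1 ha w).1 hw)
          rw [show a * (a⁻¹ * w * a) * a⁻¹ = w by group] at h
          rw [inv_inv, ← h]
          group }
    set B0 := A ⊓ S' with hB0
    have hcover : ∀ a ∈ A, a ∈ B0 ∨ b * a ∈ B0 := by
      intro a ha
      have haJ : a ∈ J := le_J hA ha
      obtain ⟨q, hq, i, hi⟩ := hdec _ ((mem_normalizer_iff.1 (hJK haJ) ρ).1 hρK)
      have hact : ∀ w ∈ W, a * (ρ * w * ρ⁻¹) * a⁻¹ = ρ ^ i * (a * w * a⁻¹) * (ρ ^ i)⁻¹ := by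
        intro w hw
        have h1 : a * w * a⁻¹ ∈ W := (mem_normalizer_iff.1 (hJW haJ) w).1 hw
        have h2 : ρ ^ i * (a * w * a⁻¹) * (ρ ^ i)⁻¹ ∈ W :=
          (mem_normalizer_iff.1 (zpow_mem hρW i) _).1 h1
        calc a * (ρ * w * ρ⁻¹) * a⁻¹ = (a * ρ * a⁻¹) * (a * w * a⁻¹) * (a * ρ * a⁻¹)⁻¹ := by group
          _ = q * (ρ ^ i * (a * w * a⁻¹) * (ρ ^ i)⁻¹) * q⁻¹ := by rw [hi]; group
          _ = _ := by rw [← mem_centralizer_iff.1 (hqW q hq) _ h2, mul_inv_cancel_right]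
      rcases zpow_of_cube hρ3' i with h | h | h
      · exfalso
        rw [h, mul_one] at hi
        refine hρQ ((mem_normalizer_iff.1 (hLQ (hTL' (hJT haJ))) ρ).2 ?_)
        rw [hi]; exact hq.2
      · exact Or.inl ⟨ha, hJW haJ, fun w hw => by rw [hact w hw, h]⟩
      · refine Or.inr ⟨A.mul_mem hb ha, mul_mem hbW (hJW haJ), fun w hw => ?_⟩
        calc b * a * (ρ * w * ρ⁻¹) * (b * a)⁻¹ = b * (a * (ρ * w * ρ⁻¹) * a⁻¹) * b⁻¹ := by group
          _ = b * (ρ⁻¹ * (a * w * a⁻¹) * ρ) * b⁻¹ := by rw [hact w hw, h, inv_inv]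
          _ = (b * ρ * b⁻¹)⁻¹ * (b * a * w * (b * a)⁻¹) * (b * ρ * b⁻¹) := by group
          _ = _ := by rw [hinv, inv_inv]
    have hA1B : A ⊓ centralizer (W : Set G) ≤ B0 := fun a ha => ⟨ha.1, centralizer_le_normalizer _ ha.2,
      fun w hw => by
        have e : ∀ y ∈ W, a * y * a⁻¹ = y := fun y hy => by
          rw [← mem_centralizer_iff.1 ha.2 y hy, mul_inv_cancel_right]
        rw [e w hw, e _ ((mem_normalizer_iff.1 hρW w).1 hw)]⟩
    have hAB0 : Nat.card A ≤ 2 * Nat.card B0 := by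
      have hcov : (A : Set G) ⊆ (B0 : Set G) ∪ (fun x => b⁻¹ * x) '' (B0 : Set G) := fun a ha => by
        rcases hcover a ha with h | h
        · exact Or.inl h
        · exact Or.inr ⟨b * a, h, inv_mul_cancel_left b a⟩
      rw [show Nat.card A = (A : Set G).ncard from Nat.card_coe_set_eq _,
        show Nat.card B0 = (B0 : Set G).ncard from Nat.card_coe_set_eq _]
      refine le_trans (Set.ncard_le_ncard hcov (Set.toFinite _)) (le_trans (Set.ncard_union_le _ _) ?_)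
      have := Set.ncard_image_le (f := fun x => b⁻¹ * x) (s := (B0 : Set G)) (Set.toFinite _)
      omega
    set F0 := F ⊓ centralizer (B0 : Set G) with hF0
    have hBF : B0 ≤ normalizer (F : Set G) := fun a ha => mem_normalizer_fintype fun f hf => by
      refine ⟨(mem_normalizer_iff.1 (hJW (le_J hA ha.1)) f).1 hf.1, mem_centralizer_singleton_iff.2 ?_⟩
      have h1 : Commute a b := Thompson.isEA_commute hA.2.1 ha.1 hb
      have h2 : Commute f b := mem_centralizer_singleton_iff.1 hf.2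
      exact ((h1.mul_left h2).mul_left h1.inv_left).eq
    have hB0ea : IsElementaryAbelian 2 B0 := PGroup.isElementaryAbelian_of_le hA.2.1 inf_le_left
    have hFea : IsElementaryAbelian 2 F := PGroup.isElementaryAbelian_of_le isEA_W inf_le_left
    have hFne : F ≠ ⊥ := fun h => hWne (by
      refine card_eq_one.1 (le_antisymm ?_ Nat.card_pos)
      rw [h, card_bot, mul_one] at hWF
      exact hWF)
    have hF0ne : F0 ≠ ⊥ := Cfsg.Lib.Thompson.inf_centralizer_ne_bot_of_isPGroup (p := 2)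
      (Thompson.isPGroup_of_isEA hFea) (Thompson.isPGroup_of_isEA hB0ea) hBF hFne
    have hfixA : ∀ w ∈ W, w ∈ centralizer (A : Set G) → w ∈ F0 := fun w hw hc =>
      ⟨⟨hw, mem_centralizer_singleton_iff.2 (mem_centralizer_iff.1 hc b hb).symm⟩,
        centralizer_le (inf_le_left : B0 ≤ A) hc⟩
    have hbound : ∀ C : Subgroup G, IsElementaryAbelian 2 C → C ≤ L → Nat.card C ≤ Nat.card A := by
      intro C hC hCL
      obtain ⟨S, hS, hCS⟩ := exists_sylow (Thompson.isPGroup_of_isEA hC) hCL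
      obtain ⟨n, -, hn⟩ := exists_conj_sylow hS hTL
      rw [← BaumannBlock.card_map_mulEquiv (MulAut.conj n) C]
      exact hA.2.2 _ ((map_mono hCS).trans hn.le) (Thompson.isEA_map _ hC)
    have hjoin : ∀ (B Z : Subgroup G), B ≤ A → Z ≤ W → Z ≤ centralizer (B : Set G) →
        Nat.card B * Nat.card Z ≤ Nat.card A * Nat.card F0 := by
      intro B Z hBA hZW hZB
      have hea : IsElementaryAbelian 2 (B ⊔ Z) := by
        rw [← closure_eq B, ← closure_eq Z, ← Subgroup.closure_union]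
        refine Thompson.isEA_closure ?_ ?_
        · rintro y (hy | hy) z (hz | hz)
          · exact Thompson.isEA_commute hA.2.1 (hBA hy) (hBA hz)
          · exact mem_centralizer_iff.1 (hZB hz) y hy
          · exact (mem_centralizer_iff.1 (hZB hy) z hz).symm
          · exact W_commute (hZW hy) (hZW hz)
        · rintro y (hy | hy)
          · exact hA.2.1.2 y (hBA hy)
          · exact W_pow (hZW hy)
      rw [← card_sup_mul_card_inf' (A := B) (B := Z) fun z hz => mem_normalizer_fintype fun y hy => by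
        rw [← mem_centralizer_iff.1 (hZB hz) y hy, mul_inv_cancel_right]; exact hy]
      refine Nat.mul_le_mul (hbound _ hea (sup_le (hBA.trans (hA.1.trans hTL')) (hZW.trans (W_le.trans hKL))))
        (card_le_of_le fun x hx => hfixA x (hZW hx.2) (mem_centralizer_iff.2 fun a ha =>
          (Thompson.isEA_commute hA.2.1 ha (hBA hx.1)).eq))
    have hF0two : Nat.card F0 = 2 := by
      set Z := W ⊓ centralizer (B0 : Set G) with hZ
      have hmemZ : ∀ p : F0 × F0, (p.1 : G) * (ρ * p.2 * ρ⁻¹) ∈ Z := by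
        rintro ⟨f, g⟩
        refine mul_mem ⟨f.2.1.1, f.2.2⟩ ⟨(mem_normalizer_iff.1 hρW _).1 g.2.1.1, ?_⟩
        refine mem_centralizer_iff.2 fun a ha => mul_inv_eq_iff_eq_mul.1 ?_
        rw [ha.2.2 _ g.2.1.1, mem_centralizer_iff.1 g.2.2 a ha, mul_inv_cancel_right]
      have h1 : Nat.card F0 * Nat.card F0 ≤ Nat.card Z := by
        rw [← Nat.card_prod]
        refine Nat.card_le_card_of_injective (fun p => (⟨_, hmemZ p⟩ : Z)) fun p q h => ?_
        have := hinj (a₁ := (⟨p.1, p.1.2.1⟩, ⟨p.2, p.2.2.1⟩)) (a₂ := (⟨q.1, q.1.2.1⟩, ⟨q.2, q.2.2.1⟩))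
          (congrArg Subtype.val h)
        simp only [Prod.mk.injEq, Subtype.mk.injEq, SetLike.coe_eq_coe] at this
        exact Prod.ext this.1 this.2
      have h2 := hjoin B0 Z inf_le_left inf_le_left inf_le_right
      have h3 : Nat.card B0 * (Nat.card F0 * Nat.card F0) ≤ Nat.card B0 * (2 * Nat.card F0) :=
        le_trans (Nat.mul_le_mul_left _ h1) (h2.trans (le_of_le_of_eq (Nat.mul_le_mul_right _ hAB0) (by ring)))
      have h4 := Nat.le_of_mul_le_mul_right (Nat.le_of_mul_le_mul_left h3 Nat.card_pos) Nat.card_pos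
      have h5 : Nat.card F0 ≠ 1 := fun h => hF0ne (card_eq_one.1 h)
      have := Nat.card_pos (α := F0)
      omega
    have h2 := hjoin (A ⊓ centralizer (W : Set G)) W inf_le_left le_rfl
      (le_centralizer_iff.1 inf_le_right)
    have h3 := two_card_le_of_fixed_two hB0ea hFea hBF hF0two
    have hsurj : ∀ w ∈ W, ∃ p : F × F, (p.1 : G) * (ρ * p.2 * ρ⁻¹) = w := by
      intro w hw
      have hbij : Function.Surjective (fun p : F × F => (⟨_, hmemW p⟩ : W)) := by
        refine (Nat.bijective_iff_injective_and_card _).2 ⟨fun p q h => hinj (congrArg Subtype.val h), ?_⟩ |>.2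
        rw [Nat.card_prod]; exact le_antisymm hFW hWF
      obtain ⟨p, hp⟩ := hbij ⟨w, hw⟩
      exact ⟨p, congrArg Subtype.val hp⟩
    have h4 : Nat.card ↥(B0 ⊓ centralizer (F : Set G)) ≤ Nat.card ↥(A ⊓ centralizer (W : Set G)) := by
      refine card_le_of_le fun a ha => ⟨ha.1.1, mem_centralizer_iff.2 fun w hw => ?_⟩
      obtain ⟨⟨f, g⟩, rfl⟩ := hsurj w hw
      have hg : a * (g : G) * a⁻¹ = g := by
        rw [← mem_centralizer_iff.1 ha.2 g g.2, mul_inv_cancel_right]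
      have hcg : Commute (ρ * (g : G) * ρ⁻¹) a :=
        (show Commute a (ρ * (g : G) * ρ⁻¹) from
          mul_inv_eq_iff_eq_mul.1 (by rw [ha.1.2.2 _ g.2.1, hg])).symm
      exact (Commute.mul_left (mem_centralizer_iff.1 ha.2 f f.2) hcg).eq
    rw [hF0two] at h2
    set n := Nat.card F
    set a1 := Nat.card ↥(A ⊓ centralizer (W : Set G))
    have hn : n ≤ 2 := by
      refine Nat.le_of_mul_le_mul_left (?_ : a1 * n * n ≤ a1 * n * 2) (Nat.mul_pos Nat.card_pos Nat.card_pos)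
      calc a1 * n * n = a1 * (n * n) := mul_assoc _ _ _
        _ ≤ a1 * Nat.card W := Nat.mul_le_mul_left _ hFW
        _ ≤ Nat.card A * 2 := h2
        _ ≤ 2 * Nat.card B0 * 2 := Nat.mul_le_mul_right _ hAB0
        _ ≤ a1 * n * 2 := Nat.mul_le_mul_right _ (h3.trans (Nat.mul_le_mul_right _ h4))
    have h22 : 2 ≤ n := hF0two ▸ card_le_of_le inf_le_left
    have hn2 : n = 2 := le_antisymm hn h22
    exact le_antisymm (hWF.trans (by rw [hn2])) (le_trans (by rw [hn2]) hFW)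
  · intro w hw
    rw [← pow_two]
    exact W_pow hw

end Cfsg.Lib.Local.JComp
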