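import Cfsg.Agent.Lib.Local.JComp.Zero
import Cfsg.Agent.Lib.Local.JComp.SmallAction
import Cfsg.Agent.Lib.Local.YMinimal
import Cfsg.Agent.Lib.Subnormal.Zipper
import Cfsg.Agent.Lib.Thompson.OffenderAbelian

/-!
# Subnormal components of an arbitrary subgroup
-/

set_option autoImplicit false
set_option linter.style.haveILetI false

namespace Cfsg.Lib.Local.JComp

open Subgroup Cfsg Cfsg.Lib Cfsg.Lib.Local.GlaubermanZJ
open scoped commutatorElement

universe u

variable {G : Type u} [Group G] [Finite G] {X K : Subgroup G}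

/-- A component (for some 2-group) subnormal in `X`. -/
structure SubComp (X K : Subgroup G) : Prop where
  comp : ∃ T, IsJComponent T K
  le : K ≤ X
  sn : (K.subgroupOf X).IsSubnormal

local notation "P" => pCoreOf 2 X
local notation "W" => wOf K

theorem SubComp.conj (h : SubComp X K) {x : G} (hx : x ∈ X) :
    SubComp X (K.map (MulAut.conj x).toMonoidHom) := by
  obtain ⟨T, hT⟩ := h.comp
  refine ⟨⟨_, isJComponent_map hT (MulAut.conj x)⟩, ?_, ?_⟩
  · rintro _ ⟨k, hk, rfl⟩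
    exact X.mul_mem (X.mul_mem hx (h.le hk)) (X.inv_mem hx)
  · refine Cfsg.Lib.Subnormal.isSubnormal_subgroupOf_conj x ?_
    rw [Core.map_conj_eq_of_mem_normalizer (le_normalizer (X.inv_mem hx))]
    exact h.sn

variable (h : SubComp X K)
include h

theorem SubComp.core_le_core : pCoreOf 2 K ≤ P := by
  have hsn : ((pCoreOf 2 K).subgroupOf X).IsSubnormal :=
    isSubnormal_step core_le (le_normalizer.trans (normalizer_le_normalizer_pCoreOf K)) h.sn
  have h1 := Core.le_pCore_of_isSubnormal (p := 2) hsn ((isPGroup_core (K := K)).comap_subtype)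
  rw [← map_subgroupOf_eq_of_le ((core_le (K := K)).trans h.le)]
  exact map_mono h1

theorem SubComp.pCore_le_normalizer : P ≤ normalizer (K : Set G) := by
  haveI : Fact (Nat.Prime 2) := ⟨Nat.prime_two⟩
  obtain ⟨T, hT⟩ := h.comp
  intro p hp
  have hPX : P ≤ X := map_subtype_le _
  have hle : K ⊔ P ≤ X := sup_le h.le hPX
  have hsn : (K.subgroupOf (K ⊔ P)).IsSubnormal := by
    have h1 := h.sn.comap (inclusion hle)
    exact h1
  obtain ⟨k, hk⟩ := IsPGroup.iff_card.1 (show IsPGroup 2 P from (Core.pCore_isPGroup 2 _).map _)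
  have hidx : (K.subgroupOf (K ⊔ P)).index ∣ 2 ^ k := by
    haveI : ((P).subgroupOf (K ⊔ P)).Normal := (normal_subgroupOf_iff_le_normalizer le_sup_right).2
      (hle.trans (le_normalizer.trans (normalizer_le_normalizer_pCoreOf X)))
    have h1 := Core.card_sup_dvd_mul (K.subgroupOf (K ⊔ P)) ((P).subgroupOf (K ⊔ P))
    rw [← subgroupOf_sup le_sup_left le_sup_right, subgroupOf_self, card_top,
      ← (K.subgroupOf (K ⊔ P)).card_mul_index, Nat.card_congr (subgroupOfEquivOfLe (le_sup_right : P ≤ K ⊔ P)).toEquiv,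
      hk] at h1
    exact (Nat.mul_dvd_mul_iff_left Nat.card_pos).1 h1
  refine mem_normalizer_fintype fun x hx => ?_
  have hsub : K ≤ K.comap (MulAut.conj p).toMonoidHom := le_of_odd hT fun y hy hyo => by
    have hm : p * y * p⁻¹ ∈ K ⊔ P :=
      mul_mem (mul_mem (mem_sup_right hp) (mem_sup_left hy)) (inv_mem (mem_sup_right hp))
    refine (Cfsg.Lib.Local.mem_of_isSubnormal_of_index hsn hidx (x := ⟨p * y * p⁻¹, hm⟩) ?_)
    rw [Subgroup.orderOf_mk]
    show (orderOf (MulAut.conj p y)).Coprime 2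
    rw [MulEquiv.orderOf_eq]
    exact odd_iff_coprime.1 hyo
  exact hsub hx

theorem SubComp.pCore_inf_le : P ⊓ K ≤ pCoreOf 2 K := by
  refine le_pCoreOf inf_le_right ?_ (((Core.pCore_isPGroup 2 _).map _).to_le inf_le_left)
  exact (le_inf ((h.le).trans (le_normalizer.trans (normalizer_le_normalizer_pCoreOf X))) le_normalizer).trans
    inf_normalizer_le_normalizer_inf

theorem SubComp.pCore_centralizes : P ≤ centralizer (W : Set G) := by
  haveI : Fact (Nat.Prime 2) := ⟨Nat.prime_two⟩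
  obtain ⟨T, hT⟩ := h.comp
  have hKW : K ≤ normalizer (W : Set G) := le_normalizer.trans normalizer_le_normalizer_W
  have hPW : P ≤ normalizer (W : Set G) := h.pCore_le_normalizer.trans normalizer_le_normalizer_W
  have hne := Cfsg.Lib.Thompson.inf_centralizer_ne_bot_of_isPGroup (p := 2) (isPGroup_core.to_le (W_le_core (K := K)))
    (show IsPGroup 2 P from (Core.pCore_isPGroup 2 _).map _) hPW (W_ne_bot hT)
  have hKP : K ≤ normalizer (P : Set G) := h.le.trans (le_normalizer.trans (normalizer_le_normalizer_pCoreOf X))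
  have hU : W ⊓ centralizer (P : Set G) = W := by
    refine eq_W_of_invariant hT inf_le_left hne ?_
    refine Core.le_normalizer_iff_conj_mem.2 fun k hk w hw => ⟨(mem_normalizer_iff.1 (hKW hk) w).1 hw.1, ?_⟩
    refine mem_centralizer_iff.2 fun p hp => ?_
    have h1 := mem_centralizer_iff.1 hw.2 _ ((mem_normalizer_iff''.1 (hKP hk) p).1 hp)
    calc p * (k * w * k⁻¹) = k * ((k⁻¹ * p * k) * w) * k⁻¹ := by group
      _ = k * (w * (k⁻¹ * p * k)) * k⁻¹ := by rw [h1]
      _ = k * w * k⁻¹ * p := by group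
  exact le_centralizer_iff.1 (hU.ge.trans inf_le_right)

theorem SubComp.W_le_omega : W ≤ omegaCenterOf P := fun w hw =>
  subset_closure ⟨⟨h.core_le_core (W_le_core hw),
    mem_centralizer_iff.2 fun p hp => (mem_centralizer_iff.1 (h.pCore_centralizes hp) w hw).symm⟩,
    W_pow hw⟩

theorem SubComp.comm_mem {k v : G} (hk : k ∈ K) (hv : v ∈ omegaCenterOf P) : ⁅k, v⁆ ∈ W := by
  haveI : Fact (Nat.Prime 2) := ⟨Nat.prime_two⟩
  obtain ⟨T, hT⟩ := h.comp
  have hΩP : omegaCenterOf P ≤ P := BaumannBlock.omegaOneCenter_le 2 _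
  have hKW : K ≤ normalizer (W : Set G) := le_normalizer.trans normalizer_le_normalizer_W
  have hVK : omegaCenterOf P ≤ normalizer (K : Set G) := hΩP.trans h.pCore_le_normalizer
  have hVN : K ≤ normalizer (omegaCenterOf P : Set G) := h.le.trans (le_normalizer.trans
    ((normalizer_le_normalizer_pCoreOf X).trans (BaumannBlock.normalizer_le_omegaOneCenter (p := 2) _)))
  have hcv : ∀ {k v : G}, k ∈ K → v ∈ omegaCenterOf P → ⁅k, v⁆ ∈ omegaCenterOf P := fun hk hv => by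
    rw [commutatorElement_def]
    exact mul_mem ((mem_normalizer_iff.1 (hVN hk) _).1 hv) (inv_mem hv)
  have hΩ : ∀ k ∈ K, ∀ v ∈ omegaCenterOf P, ⁅k, v⁆ ∈ omegaCenterOf (pCoreOf 2 K) := by
    intro k hk v hv
    have h1 := hcv hk hv
    have h2 : ⁅k, v⁆ ∈ K := by
      rw [commutatorElement_def, show k * v * k⁻¹ * v⁻¹ = k * (v * k⁻¹ * v⁻¹) by group]
      exact mul_mem hk ((mem_normalizer_iff.1 (hVK hv) _).1 (inv_mem hk))
    refine subset_closure ⟨⟨h.pCore_inf_le ⟨hΩP h1, h2⟩, mem_centralizer_iff.2 fun q hq => ?_⟩,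
      BaumannBlock.omegaOneCenter_pow (p := 2) h1⟩
    exact (BaumannBlock.omegaOneCenter_commute (p := 2) h1 (h.core_le_core hq)).eq.symm
  let Cw : Subgroup G :=
    { carrier := {g | g ∈ normalizer (W : Set G) ∧ ∀ v ∈ omegaCenterOf P, ⁅g, v⁆ ∈ W}
      one_mem' := ⟨one_mem _, by simp⟩
      mul_mem' := by
        rintro a b ⟨ha, ha'⟩ ⟨hb, hb'⟩
        refine ⟨mul_mem ha hb, fun y hy => ?_⟩
        rw [show ⁅a * b, y⁆ = a * ⁅b, y⁆ * a⁻¹ * ⁅a, y⁆ by simp [commutatorElement_def]; group]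
        exact mul_mem ((mem_normalizer_iff.1 ha _).1 (hb' y hy)) (ha' y hy)
      inv_mem' := by
        rintro a ⟨ha, ha'⟩
        refine ⟨inv_mem ha, fun y hy => ?_⟩
        rw [show ⁅a⁻¹, y⁆ = a⁻¹ * ⁅a, y⁆⁻¹ * a by simp [commutatorElement_def]; group]
        exact (mem_normalizer_iff''.1 ha _).1 (inv_mem (ha' y hy)) }
  suffices hc : K ≤ Cw from (hc hk).2 v hv
  refine le_of_odd hT fun e he ho => ⟨hKW he, fun v hv => ?_⟩
  -- compute modulo `W`
  have hu : ⁅e, v⁆ ∈ omegaCenterOf (pCoreOf 2 K) := hΩ e he v hv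
  have hue : ⁅e, ⁅e, v⁆⁆ ∈ W := by
    rw [wOf, commutator_comm]; exact commutator_mem_commutator he hu
  set Nw := normalizer (W : Set G)
  have hvW : v ∈ Nw := normalizer_le_normalizer_W (hVK hv)
  set W' := (W).subgroupOf Nw with hW'
  haveI : W'.Normal := (normal_subgroupOf_iff_le_normalizer le_normalizer).2 le_rfl
  set π := QuotientGroup.mk' W'
  set e' : Nw := ⟨e, hKW he⟩
  set v' : Nw := ⟨v, hvW⟩
  have hc1 : (orderOf (π e')).Coprime 2 :=
    (odd_iff_coprime.1 ho).coprime_dvd_left ((orderOf_map_dvd π e').trans (by rw [Subgroup.orderOf_mk]))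
  have h1 : ⁅π e', π v'⁆ = π ⁅e', v'⁆ := (map_commutatorElement π e' v').symm
  have hsq : (⁅e', v'⁆ : Nw) ^ 2 = 1 := Subtype.ext (omega_pow hu)
  have hcomm : Commute (π e') ⁅π e', π v'⁆ := by
    rw [h1]
    refine commutatorElement_eq_one_iff_mul_comm.1 ?_
    rw [← map_commutatorElement]
    exact (QuotientGroup.eq_one_iff _).2 (mem_subgroupOf.2 hue)
  have hcomm2 : Commute (π v') ⁅π e', π v'⁆ := by
    rw [h1]
    refine (Commute.map ?_ π)
    exact Subtype.ext (BaumannBlock.omegaOneCenter_commute (p := 2) hv (hΩP (hcv he hv))).eq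
  have := BaumannBlock.commute_of_coprime hc1 (by rw [h1, ← map_pow, hsq, map_one]) hcomm hcomm2
  have h3 : π ⁅e', v'⁆ = 1 := by
    rw [← h1]; exact commutatorElement_eq_one_iff_mul_comm.2 this.eq
  exact mem_subgroupOf.1 ((QuotientGroup.eq_one_iff _).1 h3)

/-- An element of odd order of `K` acts as a 3-element modulo `O₂(X)`. -/
theorem SubComp.pow_three_mem {k : G} (hk : k ∈ K) : k ^ 3 ∈ P := by
  obtain ⟨T, hT⟩ := h.comp
  haveI : ((pCoreOf 2 K).subgroupOf K).Normal := (normal_subgroupOf_iff_le_normalizer core_le).2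
    (le_normalizer.trans (normalizer_le_normalizer_pCoreOf K))
  have h1 := Subgroup.pow_index_mem ((pCoreOf 2 K).subgroupOf K) ⟨k, hk⟩
  rw [show ((pCoreOf 2 K).subgroupOf K).index = 3 from hT.2.2.1] at h1
  exact h.core_le_core h1

omit h in
/-- Distinct four-groups give commuting components. -/
theorem SubComp.centralizes {K' : Subgroup G} (h : SubComp X K) (h' : SubComp X K')
    (hne : wOf K' ≠ W) : K' ≤ centralizer (W : Set G) := by
  haveI : Fact (Nat.Prime 2) := ⟨Nat.prime_two⟩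
  haveI : Fact (Nat.Prime 3) := ⟨Nat.prime_three⟩
  obtain ⟨T, hT⟩ := h.comp
  obtain ⟨T', hT'⟩ := h'.comp
  have hΩP : omegaCenterOf P ≤ P := BaumannBlock.omegaOneCenter_le 2 _
  have hcΩ : ∀ {a b}, a ∈ omegaCenterOf P → b ∈ omegaCenterOf P → Commute a b := fun ha hb =>
    BaumannBlock.omegaOneCenter_commute (p := 2) ha (hΩP hb)
  set M := W ⊔ wOf K' with hM
  have hMΩ : M ≤ omegaCenterOf P := sup_le h.W_le_omega h'.W_le_omega
  have hMea : IsElementaryAbelian 2 M :=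
    ⟨⟨⟨fun a b => Subtype.ext (hcΩ (hMΩ a.2) (hMΩ b.2)).eq⟩⟩,
      fun a ha => BaumannBlock.omegaOneCenter_pow (p := 2) (hMΩ ha)⟩
  have h16 : Nat.card M ≤ 16 := by
    have h1 := card_sup_mul_card_inf' (A := W) (B := wOf K') fun x hx => mem_normalizer_fintype fun w hw => by
      rw [(hcΩ (h'.W_le_omega hx) (h.W_le_omega hw)).eq, mul_inv_cancel_right]; exact hw
    rw [hT.2.2.2.2.1, hT'.2.2.2.2.1] at h1
    have h2 := Nat.card_pos (α := ↥(W ⊓ wOf K'))
    calc Nat.card M ≤ Nat.card M * Nat.card ↥(W ⊓ wOf K') := Nat.le_mul_of_pos_right _ h2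
      _ = 16 := h1
  -- the common layer
  set P' := (P).subgroupOf X with hP'
  haveI : P'.Normal := (normal_subgroupOf_iff_le_normalizer (map_subtype_le _)).2
    (le_normalizer.trans (normalizer_le_normalizer_pCoreOf X))
  set π := QuotientGroup.mk' P' with hπ
  set H := ((Cfsg.pCore 3 (X ⧸ P')).comap π).map X.subtype with hHdef
  have hmem : ∀ {K₁ : Subgroup G}, SubComp X K₁ → K₁ ≤ H := by
    intro K₁ h1 k hk
    refine ⟨⟨k, h1.le hk⟩, Core.le_pCore_of_isSubnormal (p := 3)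
      (h1.sn.map (f := π) (QuotientGroup.mk'_surjective P')) ?_ ⟨⟨k, h1.le hk⟩, hk, rfl⟩, rfl⟩
    rintro ⟨_, z, hz, rfl⟩
    refine ⟨1, Subtype.ext ?_⟩
    show π z ^ 3 ^ 1 = 1
    rw [pow_one, ← map_pow]
    exact (QuotientGroup.eq_one_iff _).2 (mem_subgroupOf.2 (h1.pow_three_mem hz))
  set H₂ := H ⊓ normalizer (M : Set G) with hH2
  have hKH : K ≤ H₂ := le_inf (hmem h) (Core.le_normalizer_iff_conj_mem.2 fun k hk m hm => by
    rw [show k * m * k⁻¹ = ⁅k, m⁆ * m by simp [commutatorElement_def]]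
    exact mul_mem (mem_sup_left (h.comm_mem hk (hMΩ hm))) hm)
  have hKH' : K' ≤ H₂ := le_inf (hmem h') (Core.le_normalizer_iff_conj_mem.2 fun k hk m hm => by
    rw [show k * m * k⁻¹ = ⁅k, m⁆ * m by simp [commutatorElement_def]]
    exact mul_mem (mem_sup_right (h'.comm_mem hk (hMΩ hm))) hm)
  have h3 : ∀ x ∈ H₂, ∃ i : ℕ, x ^ 3 ^ i ∈ centralizer (M : Set G) := by
    rintro x ⟨⟨z, hz, rfl⟩, -⟩
    obtain ⟨i, hi⟩ := Core.pCore_isPGroup 3 _ ⟨_, hz⟩
    refine ⟨i, mem_centralizer_iff.2 fun m hm => ?_⟩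
    have hzP : ((z ^ 3 ^ i : X) : G) ∈ P := by
      refine mem_subgroupOf.1 ((QuotientGroup.eq_one_iff _).1 ?_)
      exact congrArg Subtype.val hi
    rw [coe_pow] at hzP
    exact (BaumannBlock.omegaOneCenter_commute (p := 2) (hMΩ hm) hzP).eq
  -- `K'` normalizes `W`
  obtain ⟨ρ, hρ, ho, hn, -⟩ := exists_rho hT
  have hρW : ∀ w ∈ W, ⁅ρ, w⁆ ∈ W := fun w hw => h.comm_mem hρ (h.W_le_omega hw)
  have hinj : Function.Injective (fun w : W => (⟨⁅ρ, (w : G)⁆, hρW w w.2⟩ : W)) := by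
    intro a b hab
    have h1 : ⁅ρ, (a : G)⁆ = ⁅ρ, (b : G)⁆ := congrArg Subtype.val hab
    have h2 : ρ * ((b : G)⁻¹ * a) * ρ⁻¹ = (b : G)⁻¹ * a := by
      have hb : ρ * (b : G)⁻¹ * ρ⁻¹ = (b : G)⁻¹ * ⁅ρ, (b : G)⁆⁻¹ := by
        simp [commutatorElement_def]; group
      calc ρ * ((b : G)⁻¹ * a) * ρ⁻¹ = (ρ * (b : G)⁻¹ * ρ⁻¹) * (⁅ρ, (a : G)⁆ * a) := by
            simp [commutatorElement_def]
        _ = (b : G)⁻¹ * a := by rw [hb, h1]; group
    exact Subtype.ext (inv_mul_eq_one.1 (rho_fpf hT hρ ho hn (mul_mem (inv_mem b.2) a.2) h2)).symm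
  have hK'W : K' ≤ normalizer (W : Set G) := by
    intro k hk
    refine mem_normalizer_fintype fun w hw => ?_
    obtain ⟨v, hv⟩ := (Finite.injective_iff_surjective.1 hinj) ⟨w, hw⟩
    have hv' : ⁅ρ, (v : G)⁆ = w := congrArg Subtype.val hv
    have hc : ⁅k, ρ⁆ ∈ centralizer (M : Set G) :=
      three_commute hMea h16 inf_le_right h3 (hKH' hk) (hKH hρ)
    set m := k * (v : G) * k⁻¹ with hm
    have hmM : m ∈ M := (mem_normalizer_iff.1 (hKH' hk).2 _).1 (mem_sup_left v.2)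
    have hρm : ρ * m * ρ⁻¹ ∈ M := (mem_normalizer_iff.1 (hKH hρ).2 _).1 hmM
    suffices hkey : k * w * k⁻¹ = ⁅ρ, m⁆ by
      show k * w * k⁻¹ ∈ W
      rw [hkey]; exact h.comm_mem hρ (hMΩ hmM)
    calc k * w * k⁻¹ = (⁅k, ρ⁆ * (ρ * m * ρ⁻¹) * ⁅k, ρ⁆⁻¹) * m⁻¹ := by
          rw [← hv', hm]; simp [commutatorElement_def]; group
      _ = (ρ * m * ρ⁻¹) * m⁻¹ := by
          rw [← mem_centralizer_iff.1 hc _ hρm, mul_inv_cancel_right]
      _ = ⁅ρ, m⁆ := by rw [commutatorElement_def]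
  have hbot : W ⊓ wOf K' = ⊥ := by
    by_contra hb
    have h1 := eq_W_of_invariant hT' (inf_le_right : W ⊓ wOf K' ≤ wOf K') hb
      ((le_inf hK'W (le_normalizer.trans normalizer_le_normalizer_W)).trans inf_normalizer_le_normalizer_inf)
    exact hne (eq_of_le_of_card_ge (h1.ge.trans inf_le_left)
      (by rw [hT.2.2.2.2.1, hT'.2.2.2.2.1]))
  intro k hk
  refine mem_centralizer_iff.2 fun w hw => (commutatorElement_eq_one_iff_mul_comm.1 ?_).symm
  have h1 : ⁅k, w⁆ ∈ W ⊓ wOf K' := ⟨by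
    rw [commutatorElement_def]
    exact (W).mul_mem ((mem_normalizer_iff.1 (hK'W hk) w).1 hw) ((W).inv_mem hw),
    h'.comm_mem hk (h.W_le_omega hw)⟩
  rwa [hbot, mem_bot] at h1

end Cfsg.Lib.Local.JComp
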