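import Cfsg.Agent.Lib.Local.JComp.NormW

/-!
# Components in the family `𝒦₀`
-/

set_option autoImplicit false
set_option linter.style.haveILetI false

namespace Cfsg.Lib.Local.JComp

open Subgroup Cfsg Cfsg.Lib Cfsg.Lib.Local.GlaubermanZJ

universe u

variable {G : Type u} [Group G] [Finite G] {T K : Subgroup G}

omit [Finite G] in
theorem W_ne_bot (hK : IsJComponent T K) : wOf K ≠ ⊥ := fun h => by
  have := hK.2.2.2.2.1
  rw [h, card_bot] at this
  omega

/-- The context at the normalizer of `W`. -/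
theorem ctx_normalizer_W (hL : IsCharacteristicTwoType G)
    (hN : ∀ N : Subgroup G, IsTwoLocal N → Group.IsSolvable ↥N)
    (hZ : ∀ S : Sylow 2 G, centralizer (omegaCenterOf (S : Subgroup G) : Set G) ≤
      normalizer ((S : Subgroup G) : Set G))
    (hT : IsPGroup 2 T) (hK : K ∈ jComponentsZero T) :
    Ctx T (normalizer (wOf K : Set G)) := by
  haveI : Fact (Nat.Prime 2) := ⟨Nat.prime_two⟩
  have hW : IsPGroup 2 (wOf K) := isPGroup_core.to_le W_le_core
  have h2 : IsTwoLocal (normalizer (wOf K : Set G)) := ⟨wOf K, hW, W_ne_bot hK.1, rfl⟩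
  have hchar := twoLocal_facts hL h2
  have hJN : thompsonSubgroupOf 2 T ≤ normalizer (wOf K : Set G) :=
    (J_le_normalizer hK.1).trans normalizer_le_normalizer_W
  obtain ⟨S₀, hS₀, hJS⟩ := exists_sylow (isPGroup_J hT) hJN
  exact ⟨hT, hN _ h2, hchar, fun S hS => hz_of hZ hchar hS, S₀, hS₀, hJS, hK.2 S₀ hJS hS₀⟩

theorem zero_normalizer (hL : IsCharacteristicTwoType G)
    (hN : ∀ N : Subgroup G, IsTwoLocal N → Group.IsSolvable ↥N)
    (hZ : ∀ S : Sylow 2 G, centralizer (omegaCenterOf (S : Subgroup G) : Set G) ≤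
      normalizer ((S : Subgroup G) : Set G))
    (hT : IsPGroup 2 T) (hK : K ∈ jComponentsZero T) :
    normalizer (K : Set G) = normalizer (wOf K : Set G) :=
  le_antisymm normalizer_le_normalizer_W
    (normalizes_of_normal_W (ctx_normalizer_W hL hN hZ hT hK) hK.1
      (le_normalizer.trans normalizer_le_normalizer_W) le_rfl)

theorem zero_component (hL : IsCharacteristicTwoType G)
    (hN : ∀ N : Subgroup G, IsTwoLocal N → Group.IsSolvable ↥N)
    (hZ : ∀ S : Sylow 2 G, centralizer (omegaCenterOf (S : Subgroup G) : Set G) ≤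
      normalizer ((S : Subgroup G) : Set G))
    (hT : IsPGroup 2 T) (hK : K ∈ jComponentsZero T) (g : G)
    (hg : thompsonSubgroupOf 2 (T.map (MulAut.conj g).toMonoidHom) ≤ normalizer (wOf K : Set G)) :
    IsJComponent (T.map (MulAut.conj g).toMonoidHom) K := by
  obtain ⟨hT', -, -, -, S₀, hS₀, hJS, hJ⟩ := ctx_normalizer_W hL hN hZ hT hK
  obtain ⟨n, hn, hJn⟩ := exists_conj_J hT' hS₀ hJ g hg
  rw [← zero_normalizer hL hN hZ hT hK] at hn
  have h := isJComponent_map hK.1 (MulAut.conj n)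
  rw [Core.map_conj_eq_of_mem_normalizer hn] at h
  refine isJComponent_congr ?_ h
  rw [← hJn, thompson_map]

end Cfsg.Lib.Local.JComp
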