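import Cfsg.Agent.Lib.Local.JComp.Straddle
import Cfsg.Agent.Lib.Local.JComp.Zero
import Cfsg.Agent.Lib.Local.JComp.SubComp

/-!
# The maximal 2-local subgroup over a component outside `M`

The components normalizing `K` form a class; the normalizer of the 2-core of their join contains every
2-local subgroup over `⟨K, J(T)⟩`.
-/

set_option autoImplicit false
set_option linter.style.haveILetI false

namespace Cfsg.Lib.Local.JComp

open Subgroup Cfsg Cfsg.Lib Cfsg.Lib.Local.GlaubermanZJ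

universe u

variable {G : Type u} [Group G] [Finite G] {T K K₁ K₂ L M : Subgroup G}

/-- The standing hypotheses. -/
structure Base (S : Sylow 2 G) (T M : Subgroup G) : Prop where
  char2 : IsCharacteristicTwoType G
  solv : ∀ N : Subgroup G, IsTwoLocal N → Group.IsSolvable ↥N
  hZ : ∀ P : Sylow 2 G, centralizer (omegaCenterOf (P : Subgroup G) : Set G) ≤
    normalizer ((P : Subgroup G) : Set G)
  hMJ : normalizer (thompsonSubgroupOf 2 (S : Subgroup G) : Set G) ≤ M
  hT : T ∈ maxStraddlingTwoSubgroups M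

theorem normalizes_W_of_both (c : Ctx T L) (h₁ : IsJComponent T K₁) (h₂ : IsJComponent T K₂)
    (hL₁ : K₁ ≤ L) (hL₂ : K₂ ≤ L) : K₂ ≤ normalizer (wOf K₁ : Set G) := by
  by_cases h : wOf K₂ = wOf K₁
  · rw [← h]; exact le_normalizer.trans normalizer_le_normalizer_W
  · exact (SubComp.centralizes ⟨⟨T, h₁⟩, hL₁, c.isSubnormal h₁ hL₁⟩ ⟨⟨T, h₂⟩, hL₂, c.isSubnormal h₂ hL₂⟩ h).trans
      (centralizer_le_normalizer _)

variable {S : Sylow 2 G} (b : Base S T M)
include b

theorem Base.isPGroup : IsPGroup 2 T := b.hT.1.1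

/-- The Sylow subgroup over `J(T)` of a 2-local subgroup outside `M`. -/
theorem Base.exists_sylow (hL2 : IsTwoLocal L) (hLM : ¬ L ≤ M) (hJL : thompsonSubgroupOf 2 T ≤ L) :
    ∃ T₀, IsSylowTwoIn T₀ L ∧ thompsonSubgroupOf 2 T₀ = thompsonSubgroupOf 2 T ∧
      T₀ ∈ straddlingTwoSubgroups M ∧ Nat.card T₀ ≤ Nat.card T := by
  obtain ⟨T₀, h0, hJ0⟩ := JComp.exists_sylow (isPGroup_J b.isPGroup) hJL
  obtain ⟨h1, h2, h3, -⟩ := straddle_sylow S b.hMJ b.hT hL2 hLM h0 hJ0
  exact ⟨T₀, h0, h1, h2, h3⟩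

theorem Base.ctx (hL2 : IsTwoLocal L) (hLM : ¬ L ≤ M) (hJL : thompsonSubgroupOf 2 T ≤ L) : Ctx T L := by
  obtain ⟨T₀, h0, h1, -, -⟩ := b.exists_sylow hL2 hLM hJL
  have hC := twoLocal_facts b.char2 hL2
  exact ⟨b.isPGroup, b.solv L hL2, hC, fun S₁ hS₁ => hz_of b.hZ hC hS₁, T₀, h0,
    h1 ▸ map_subtype_le _, h1⟩

/-- A component with `N(W)` outside `M` is in `𝒦₀`. -/
theorem Base.zero_of (hK : IsJComponent T K) (hW : ¬ normalizer (wOf K : Set G) ≤ M) :
    K ∈ jComponentsZero T :=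
  ⟨hK, fun S₁ hJS hS₁ => (straddle_sylow S b.hMJ b.hT
    ⟨wOf K, isPGroup_core.to_le W_le_core, W_ne_bot hK, rfl⟩ hW hS₁ hJS).1⟩

theorem Base.zero_outside (hK : IsJComponent T K) (hKM : ¬ K ≤ M) : K ∈ jComponentsZero T :=
  b.zero_of hK fun h => hKM ((le_normalizer.trans normalizer_le_normalizer_W).trans h)

theorem Base.normalizer_W (hK : K ∈ jComponentsZero T) :
    normalizer (K : Set G) = normalizer (wOf K : Set G) :=
  zero_normalizer b.char2 b.solv b.hZ b.isPGroup hK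

theorem Base.normalizer_twoLocal (hK : K ∈ jComponentsZero T) : IsTwoLocal (normalizer (K : Set G)) :=
  ⟨wOf K, isPGroup_core.to_le W_le_core, W_ne_bot hK.1, b.normalizer_W hK⟩

/-- Components in a common 2-local subgroup outside `M` normalize each other. -/
theorem Base.mem_class (hL2 : IsTwoLocal L) (hLM : ¬ L ≤ M) (hJL : thompsonSubgroupOf 2 T ≤ L)
    (h₁ : K₁ ∈ jComponentsZero T) (hL₁ : K₁ ≤ L) (h₂ : IsJComponent T K₂) (hL₂ : K₂ ≤ L) :
    K₂ ≤ normalizer (K₁ : Set G) := by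
  rw [b.normalizer_W h₁]
  exact normalizes_W_of_both (b.ctx hL2 hLM hJL) h₁.1 h₂ hL₁ hL₂

omit b in
/-- The components normalizing `K`. -/
def compClass (T K : Subgroup G) : Set (Subgroup G) :=
  {K' | IsJComponent T K' ∧ K' ≤ normalizer (K : Set G)}

omit b in
/-- The join of the class. -/
def classJoin (T K : Subgroup G) : Subgroup G := sSup (compClass T K)

variable (hK : IsJComponent T K) (hKM : ¬ K ≤ M)
include hK hKM

omit b in
theorem le_classJoin : K ≤ classJoin T K := le_sSup ⟨hK, le_normalizer⟩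

theorem Base.class_pair (h₁ : K₁ ∈ compClass T K) (h₂ : K₂ ∈ compClass T K) :
    K₁ ∈ jComponentsZero T ∧ K₂ ≤ normalizer (K₁ : Set G) := by
  have h0 := b.zero_outside hK hKM
  have hN2 := b.normalizer_twoLocal h0
  have hNM : ¬ normalizer (K : Set G) ≤ M := fun h => hKM (le_normalizer.trans h)
  have hc := b.ctx hN2 hNM (J_le_normalizer hK)
  have hz : K₁ ∈ jComponentsZero T := b.zero_of h₁.1 fun h =>
    hKM ((normalizes_W_of_both hc h₁.1 hK h₁.2 le_normalizer).trans h)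
  exact ⟨hz, b.mem_class hN2 hNM (J_le_normalizer hK) hz h₁.2 h₂.1 h₂.2⟩

/-- Every 2-local subgroup over `⟨K, J(T)⟩` normalizes the join of the class. -/
theorem Base.le_normalizer_join (hL2 : IsTwoLocal L) (hKL : K ≤ L) (hJL : thompsonSubgroupOf 2 T ≤ L) :
    L ≤ normalizer (classJoin T K : Set G) := by
  have hLM : ¬ L ≤ M := fun h => hKM (hKL.trans h)
  have h0 := b.zero_outside hK hKM
  obtain ⟨T₀, hT₀, hJ0, hst, -⟩ := b.exists_sylow hL2 hLM hJL
  have hin : ∀ K', IsJComponent T K' → K' ≤ L → K' ∈ compClass T K := fun K' h' hL' =>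
    ⟨h', b.mem_class hL2 hLM hJL h0 hKL h' hL'⟩
  set U := sSup {K' | IsJComponent T K' ∧ K' ≤ L} ⊔
    (L ⊓ normalizer (thompsonSubgroupOf 2 T : Set G)) with hU
  have hLU : L ≤ U := by
    by_contra hcon
    have c₀ : Ctx T₀ L := ⟨hT₀.2.1, b.solv L hL2, twoLocal_facts b.char2 hL2,
      fun S₁ hS₁ => hz_of b.hZ (twoLocal_facts b.char2 hL2) hS₁, T₀, hT₀, map_subtype_le _, rfl⟩
    have hJQ : ¬ thompsonSubgroupOf 2 T₀ ≤ pCoreOf 2 L := by
      rw [hJ0]
      exact (straddle_sylow S b.hMJ b.hT hL2 hLM hT₀ (hJ0 ▸ map_subtype_le _)).2.2.2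
    have hT₀U : T₀ ≤ U := le_sup_of_le_right (le_inf hT₀.1 (by
      rw [← hJ0]; exact le_normalizer.trans (Thompson.normalizer_le_normalizer_thompsonSubgroupOf T₀)))
    obtain ⟨K', hK', hK'L, hK'U⟩ := c₀.exists_component_outside hT₀ hJQ hT₀U
      (by rw [hJ0]; exact le_sup_right) hcon
    exact hK'U (le_sup_of_le_left (le_sSup ⟨isJComponent_congr hJ0.symm hK', hK'L⟩))
  refine hLU.trans (sup_le (sSup_le fun K' hK' => (le_sSup (hin K' hK'.1 hK'.2)).trans le_normalizer) ?_)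
  rintro n ⟨hnL, hnJ⟩
  have hTn : thompsonSubgroupOf 2 (T.map (MulAut.conj n).toMonoidHom) = thompsonSubgroupOf 2 T := by
    rw [← thompson_map]; exact Core.map_conj_eq_of_mem_normalizer hnJ
  have hcomp : ∀ {K'}, IsJComponent T K' → IsJComponent T (K'.map (MulAut.conj n).toMonoidHom) :=
    fun h' => isJComponent_congr hTn.symm (isJComponent_map h' (MulAut.conj n))
  have hKn : K.map (MulAut.conj n).toMonoidHom ∈ compClass T K :=
    hin _ (hcomp hK) (by rintro _ ⟨k, hk, rfl⟩; exact L.mul_mem (L.mul_mem hnL (hKL hk)) (L.inv_mem hnL))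
  refine mem_normalizer_fintype fun x hx => ?_
  suffices hle : classJoin T K ≤ (classJoin T K).comap (MulAut.conj n).toMonoidHom from hle hx
  refine sSup_le fun K' hK' => map_le_iff_le_comap.1 (le_sSup (a := K'.map _) ⟨hcomp hK'.1, ?_⟩)
  -- transitivity of the relation
  have h1 : K'.map (MulAut.conj n).toMonoidHom ≤ normalizer (K.map (MulAut.conj n).toMonoidHom : Set G) := by
    rw [← map_equiv_normalizer_eq]; exact map_mono hK'.2
  obtain ⟨hz, hKKn⟩ := b.class_pair hK hKM hKn ⟨hK, le_normalizer⟩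
  exact b.mem_class (b.normalizer_twoLocal hz) (fun h => hKM (hKKn.trans h)) (J_le_normalizer hz.1)
    h0 hKKn (hcomp hK'.1) h1

theorem Base.classJoin_core_ne_bot :
    IsPGroup 2 (pCoreOf 2 (classJoin T K)) ∧ pCoreOf 2 (classJoin T K) ≠ ⊥ := by
  refine ⟨(Core.pCore_isPGroup 2 _).map _, fun h => W_ne_bot hK (le_bot_iff.1 ?_)⟩
  rw [← h]
  refine W_le_core.trans (le_pCoreOf ((core_le (K := K)).trans (le_classJoin hK hKM)) ?_ isPGroup_core)
  exact (sSup_le fun K' hK' => hK'.2).trans (normalizer_le_normalizer_pCoreOf K)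

/-- The maximal 2-local subgroup attached to `K`. -/
theorem Base.le_attached (hL2 : IsTwoLocal L) (hKL : K ≤ L) (hJL : thompsonSubgroupOf 2 T ≤ L) :
    L ≤ normalizer (pCoreOf 2 (classJoin T K) : Set G) :=
  (b.le_normalizer_join hK hKM hL2 hKL hJL).trans (normalizer_le_normalizer_pCoreOf _)

theorem Base.attached_facts :
    IsTwoLocal (normalizer (pCoreOf 2 (classJoin T K) : Set G)) ∧
      K ≤ normalizer (pCoreOf 2 (classJoin T K) : Set G) ∧
      thompsonSubgroupOf 2 T ≤ normalizer (pCoreOf 2 (classJoin T K) : Set G) := by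
  obtain ⟨h1, h2⟩ := b.classJoin_core_ne_bot hK hKM
  have h0 := b.zero_outside hK hKM
  exact ⟨⟨_, h1, h2, rfl⟩,
    le_normalizer.trans (b.le_attached hK hKM (b.normalizer_twoLocal h0) le_normalizer (J_le_normalizer hK)),
    (J_le_normalizer hK).trans (b.le_attached hK hKM (b.normalizer_twoLocal h0) le_normalizer (J_le_normalizer hK))⟩

theorem Base.attached_maximal :
    IsMaximalTwoLocal (normalizer (pCoreOf 2 (classJoin T K) : Set G)) ∧
      ∀ L', IsMaximalTwoLocal L' → K ⊔ thompsonSubgroupOf 2 T ≤ L' →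
        L' = normalizer (pCoreOf 2 (classJoin T K) : Set G) := by
  obtain ⟨h1, h2, h3⟩ := b.attached_facts hK hKM
  refine ⟨⟨h1, fun N hN hle => le_antisymm (b.le_attached hK hKM hN (h2.trans hle) (h3.trans hle)) hle⟩, ?_⟩
  intro L' hL' hle
  exact (hL'.2 _ h1 (b.le_attached hK hKM hL'.1 (le_sup_left.trans hle) (le_sup_right.trans hle))).symm

end Cfsg.Lib.Local.JComp
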