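import Cfsg.Agent.S2946
import Cfsg.Agent.Lib.Local.JComp.Class
import Cfsg.Agent.Lib.Local.JComp.Action
import Cfsg.Agent.Lib.Local.JComp.SubComp
import Cfsg.Agent.Lib.Fusion.Alperin
import Cfsg.Agent.Lib.PGroup.Basic
import Cfsg.Agent.Lib.Local.StronglyEmbedded

/-!
# `Ω₁Z(J(T))` and components outside `M`
-/

set_option autoImplicit false
set_option linter.style.haveILetI false

namespace Cfsg.Lib.Local.JComp

open Subgroup Cfsg Cfsg.Lib Cfsg.Lib.Local.GlaubermanZJ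

universe u

variable {G : Type u} [Group G] [Finite G] {T K K₁ K₂ L M X : Subgroup G}

omit [Finite G] in
/-- `Ω₁Z(J(T))`. -/
abbrev Z0 (T : Subgroup G) : Subgroup G := omegaCenterOf (thompsonSubgroupOf 2 T)

omit [Finite G] in
/-- The part of `Ω₁Z(J(T))` centralizing `K`. -/
abbrev Hof (T K : Subgroup G) : Subgroup G := Z0 T ⊓ centralizer (K : Set G)

theorem Z0_le_J : Z0 T ≤ thompsonSubgroupOf 2 T := BaumannBlock.omegaOneCenter_le 2 _

theorem Z0_le : Z0 T ≤ T := Z0_le_J.trans (map_subtype_le _)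

theorem Z0_commute {z j : G} (hz : z ∈ Z0 T) (hj : j ∈ thompsonSubgroupOf 2 T) : Commute z j :=
  BaumannBlock.omegaOneCenter_commute (p := 2) hz hj

theorem Z0_sq {z : G} (hz : z ∈ Z0 T) : z * z = 1 := by
  rw [← pow_two]; exact BaumannBlock.omegaOneCenter_pow (p := 2) hz

theorem Z0_comm {z w : G} (hz : z ∈ Z0 T) (hw : w ∈ Z0 T) : Commute z w := Z0_commute hz (Z0_le_J hw)

theorem mem_Z0 {z : G} (hz : z ∈ thompsonSubgroupOf 2 T) (hz2 : z * z = 1)
    (hc : ∀ j ∈ thompsonSubgroupOf 2 T, Commute z j) : z ∈ Z0 T :=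
  subset_closure ⟨⟨hz, mem_centralizer_iff.2 fun j hj => (hc j hj).eq.symm⟩, by rw [pow_two]; exact hz2⟩

theorem normalizer_J_le_Z0 : normalizer (thompsonSubgroupOf 2 T : Set G) ≤ normalizer (Z0 T : Set G) :=
  BaumannBlock.normalizer_le_omegaOneCenter (p := 2) _

theorem T_le_normalizer_J (T : Subgroup G) : T ≤ normalizer (thompsonSubgroupOf 2 T : Set G) :=
  le_normalizer.trans (Thompson.normalizer_le_normalizer_thompsonSubgroupOf T)

theorem fixed_le_Z0 (hT : IsPGroup 2 T) (hK : IsJComponent T K) :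
    wOf K ⊓ centralizer (thompsonSubgroupOf 2 T : Set G) ≤ Z0 T := fun w hw => by
  obtain ⟨A, hA⟩ := exists_isMaxEAIn (p := 2) T
  exact mem_Z0 (le_J hA (fixed_le_max hT hK hA hw)) (by rw [← pow_two]; exact W_pow hw.1)
    fun j hj => (mem_centralizer_iff.1 hw.2 j hj).symm

theorem Z0_inf_W (hT : IsPGroup 2 T) (hK : IsJComponent T K) :
    Z0 T ⊓ wOf K = wOf K ⊓ centralizer (thompsonSubgroupOf 2 T : Set G) :=
  le_antisymm (fun _ hw => ⟨hw.2, mem_centralizer_iff.2 fun _ hj => (Z0_commute hw.1 hj).eq.symm⟩)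
    fun _ hw => ⟨fixed_le_Z0 hT hK hw, hw.1⟩

theorem Hof_inf_fixed (hK : IsJComponent T K) :
    Hof T K ⊓ (wOf K ⊓ centralizer (thompsonSubgroupOf 2 T : Set G)) = ⊥ := by
  refine (eq_bot_iff_forall _).2 fun x hx => ?_
  obtain ⟨ρ, hρ, ho, hn, -⟩ := exists_rho hK
  refine rho_fpf hK hρ ho hn hx.2.1 ?_
  rw [mem_centralizer_iff.1 hx.1.2 ρ hρ, mul_inv_cancel_right]

/-- An element of order two fixed by `T` in a nontrivial `T`-invariant subgroup of `T`. -/
theorem exists_fixed_mem (hT : IsPGroup 2 T) (hX : X ≤ T) (hTX : T ≤ normalizer (X : Set G)) (hX1 : X ≠ ⊥)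
    (hX2 : ∀ x ∈ X, x * x = 1) : ∃ x ∈ X, x ≠ 1 ∧ x ∈ omegaCenterOf T := by
  haveI : Fact (Nat.Prime 2) := ⟨Nat.prime_two⟩
  haveI : (X.subgroupOf T).Normal := (normal_subgroupOf_iff_le_normalizer hX).2 hTX
  have hne : X.subgroupOf T ≠ ⊥ := fun h => hX1 (le_bot_iff.1 fun x hx => by
    have : (⟨x, hX hx⟩ : T) ∈ X.subgroupOf T := mem_subgroupOf.2 hx
    rw [h, mem_bot] at this
    exact mem_bot.2 (congrArg Subtype.val this))
  obtain ⟨⟨x, hx⟩, hx1⟩ := ne_bot_iff_exists_ne_one.1 (PGroup.inf_center_ne_bot hT hne)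
  have hxc : ∀ t ∈ T, t * (x : G) = x * t := fun t ht =>
    congrArg Subtype.val (mem_center_iff.1 hx.2 ⟨t, ht⟩)
  refine ⟨x, mem_subgroupOf.1 hx.1, fun h => hx1 (Subtype.ext (Subtype.ext h)), subset_closure
    ⟨⟨x.2, mem_centralizer_iff.2 hxc⟩, ?_⟩⟩
  rw [pow_two]
  exact hX2 x (mem_subgroupOf.1 hx.1)

theorem omega_le_Z0 : omegaCenterOf T ≤ Z0 T := by
  refine (closure_le _).2 fun z hz => ?_
  have hz2 : z * z = 1 := by
    have := hz.2
    rwa [pow_two] at this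
  obtain ⟨A, hA⟩ := exists_isMaxEAIn (p := 2) T
  refine mem_Z0 (le_J hA (hA.mem_of_commute hz.1.1 hz.2 fun a ha => ?_)) hz2 fun j hj => ?_
  · exact (mem_centralizer_iff.1 hz.1.2 a (hA.1 ha)).symm
  · exact (mem_centralizer_iff.1 hz.1.2 j (map_subtype_le _ hj)).symm

theorem omega_ne_bot (hT : IsPGroup 2 T) (hT1 : T ≠ ⊥) : omegaCenterOf T ≠ ⊥ := by
  haveI : Fact (Nat.Prime 2) := ⟨Nat.prime_two⟩
  set C := T ⊓ centralizer (T : Set G)
  have hC : C.subgroupOf T ≠ ⊥ := by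
    intro h
    haveI := hT.isNilpotent
    haveI : Nontrivial T := (nontrivial_iff_ne_bot _).2 hT1
    refine Group.IsNilpotent.center_ne_bot (G := T) (le_bot_iff.1 fun x hx => ?_)
    rw [← h]
    exact ⟨x.2, mem_centralizer_iff.2 fun t ht => congrArg Subtype.val (mem_center_iff.1 hx ⟨t, ht⟩)⟩
  have hC1 : C ≠ ⊥ := fun h => hC (by rw [h, bot_subgroupOf])
  obtain ⟨z, hz, hz2⟩ := Cfsg.Lib.Local.exists_orderOf_prime_mem (hT.to_le (inf_le_left : C ≤ T)) hC1
  intro h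
  have : z ∈ omegaCenterOf T := subset_closure ⟨hz, by rw [← hz2]; exact pow_orderOf_eq_one z⟩
  rw [h, mem_bot] at this
  rw [this, orderOf_one] at hz2
  omega

/-- A central involution of an overgroup of a Sylow subgroup of a subgroup of characteristic 2. -/
theorem omega_le_of_sylow {P : Subgroup G} (hC : centralizer (pCoreOf 2 L : Set G) ≤ pCoreOf 2 L)
    (hTL : IsSylowTwoIn T L) (hTP : T ≤ P) : omegaCenterOf P ≤ omegaCenterOf T := by
  refine (closure_le _).2 fun z hz => ?_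
  have hzQ : z ∈ pCoreOf 2 L := hC (mem_centralizer_iff.2 fun q hq =>
    mem_centralizer_iff.1 hz.1.2 q (hTP (core_le_sylow hTL hq)))
  exact subset_closure ⟨⟨core_le_sylow hTL hzQ, centralizer_le hTP hz.1.2⟩, hz.2⟩

/-- Centralizers of involutions are 2-local. -/
theorem centralizer_twoLocal {x : G} (hx : x * x = 1) (hx1 : x ≠ 1) :
    IsTwoLocal (centralizer ({x} : Set G)) := by
  haveI : Fact (Nat.Prime 2) := ⟨Nat.prime_two⟩
  have ho : orderOf x = 2 := orderOf_eq_prime (by rw [pow_two]; exact hx) hx1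
  refine ⟨zpowers x, Cfsg.Lib.Local.isPGroup_zpowers_of_orderOf ho,
    Cfsg.Lib.Local.zpowers_ne_bot_of_orderOf ho, le_antisymm ?_ ?_⟩
  · intro g hg
    refine mem_normalizer_fintype fun y hy => ?_
    obtain ⟨i, rfl⟩ := hy
    have h0 : Commute g x := mem_centralizer_singleton_iff.1 hg
    have : Commute g (x ^ i) := h0.zpow_right i
    rw [this.eq, mul_inv_cancel_right]
    exact zpow_mem (mem_zpowers x) i
  · intro g hg
    obtain ⟨i, hi⟩ := (mem_normalizer_iff.1 hg x).1 (mem_zpowers x)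
    rcases Int.even_or_odd' i with ⟨k, rfl | rfl⟩
    · exfalso
      have e : g * x * g⁻¹ = 1 := by
        rw [← hi]
        show x ^ (2 * k) = 1
        rw [zpow_mul, zpow_two, hx, one_zpow]
      exact hx1 (conj_eq_one_iff.1 e)
    · refine mem_centralizer_singleton_iff.2 (mul_inv_eq_iff_eq_mul.1 ?_)
      rw [← hi]
      show x ^ (2 * k + 1) = x
      rw [zpow_add_one, zpow_mul, zpow_two, hx, one_zpow, one_mul]

/-- A component and its `J` are never inside the normalizer of a 2-group over `J`. -/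
theorem not_le_normalizer (hK : IsJComponent T K) (hX : IsPGroup 2 X)
    (hJX : thompsonSubgroupOf 2 T ≤ X) : ¬ K ≤ normalizer (X : Set G) := by
  intro h
  haveI : Fact (Nat.Prime 2) := ⟨Nat.prime_two⟩
  have hKX : K ≤ X := hK.2.1.ge.trans (commutator_le.2 fun k hk j hj => by
    rw [commutatorElement_def]
    exact X.mul_mem ((mem_normalizer_iff.1 (h hk) j).1 (hJX hj)) (X.inv_mem (hJX hj)))
  have e := eq_core_of_two hK core_le le_rfl (hX.to_le hKX)
  have := card_eq hK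
  rw [← e] at this
  have := Nat.card_pos (α := K)
  omega

theorem max_normalizer (hL : IsMaximalTwoLocal L) : normalizer (L : Set G) ≤ L := by
  obtain ⟨U, hU, hU1, hLU⟩ := hL.1
  have hUQ : U ≤ pCoreOf 2 L := by
    rw [hLU]
    exact le_pCoreOf le_normalizer le_rfl hU
  have h := hL.2 (normalizer (pCoreOf 2 L : Set G))
    ⟨_, (Core.pCore_isPGroup 2 _).map _, fun h => hU1 (le_bot_iff.1 (hUQ.trans h.le)), rfl⟩
    core_le_normalizer'
  exact (normalizer_le_normalizer_pCoreOf L).trans h.le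

theorem maximal_map (hL : IsMaximalTwoLocal L) (e : G ≃* G) : IsMaximalTwoLocal (L.map e.toMonoidHom) := by
  have key : ∀ {N : Subgroup G} (f : G ≃* G), IsTwoLocal N → IsTwoLocal (N.map f.toMonoidHom) := by
    rintro N f ⟨U, hU, hU1, rfl⟩
    exact ⟨U.map f.toMonoidHom, hU.map _, fun h => hU1 ((map_eq_bot_iff_of_injective U f.injective).1 h),
      (map_equiv_normalizer_eq U f)⟩
  refine ⟨key e hL.1, fun N hN hle => ?_⟩
  have h := hL.2 _ (key e.symm hN) (fun x hx => ⟨e x, hle ⟨x, hx, rfl⟩, e.symm_apply_apply x⟩)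
  rw [← h, map_map_symm]

variable {S : Sylow 2 G} (b : Base S T M)
include b

theorem Base.T_ne_bot : T ≠ ⊥ := b.hT.1.2.1

theorem Base.normalizer_J_le : normalizer (thompsonSubgroupOf 2 T : Set G) ≤ M :=
  JComp.normalizer_J_le S b.hMJ b.hT

theorem Base.center_split (hK : IsJComponent T K) :
    Hof T K ⊔ (wOf K ⊓ centralizer (thompsonSubgroupOf 2 T : Set G)) = Z0 T ∧
      Nat.card ↥(Z0 T) = 2 * Nat.card ↥(Hof T K) := by
  obtain ⟨-, h⟩ := Cfsg.Agent.S2946.result b.char2 b.solv b.hZ T b.isPGroup b.T_ne_bot K hK (Z0 T) rfl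
  rw [Z0_inf_W b.isPGroup hK] at h
  have e : Hof T K ⊔ (wOf K ⊓ centralizer (thompsonSubgroupOf 2 T : Set G)) = Z0 T := by
    refine le_antisymm (sup_le inf_le_left (fixed_le_Z0 b.isPGroup hK)) ?_
    conv_lhs => rw [← h]
    refine sup_le (fun x hx => mem_sup_left ⟨hx.1, centralizer_le ?_ hx.2.2⟩) le_sup_right
    exact Set.subset_union_left
  refine ⟨e, ?_⟩
  have hn : wOf K ⊓ centralizer (thompsonSubgroupOf 2 T : Set G) ≤ normalizer (Hof T K : Set G) :=
    fun r hr => mem_normalizer_fintype fun x hx => by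
      rw [(Z0_comm (fixed_le_Z0 b.isPGroup hK hr) hx.1).eq, mul_inv_cancel_right]; exact hx
  have h2 := card_sup_mul_card_inf' hn
  rw [e, Hof_inf_fixed hK, card_bot, mul_one, card_fixed b.isPGroup hK] at h2
  rw [h2, mul_comm]

variable (hLmax : IsMaximalTwoLocal L) (hJL : thompsonSubgroupOf 2 T ≤ L)
include hLmax

theorem Base.eq_max (hKL : K ≤ L) (hK : IsJComponent T K) (hKM : ¬ K ≤ M) (hJL : thompsonSubgroupOf 2 T ≤ L)
    {L' : Subgroup G} (hL' : IsTwoLocal L') (hKL' : K ≤ L') (hJL' : thompsonSubgroupOf 2 T ≤ L') : L' ≤ L := by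
  have e := hLmax.2 _ (b.attached_facts hK hKM).1 (b.le_attached hK hKM hLmax.1 hKL hJL)
  exact (b.le_attached hK hKM hL' hKL' hJL').trans e.le

include hJL

theorem Base.centralizer_le (hK : IsJComponent T K) (hKM : ¬ K ≤ M) (hKL : K ≤ L) {x : G}
    (hx : x ∈ Hof T K) (hx1 : x ≠ 1) : Subgroup.centralizer ({x} : Set G) ≤ L :=
  b.eq_max hLmax hKL hK hKM hJL (centralizer_twoLocal (Z0_sq hx.1) hx1)
    (fun k hk => mem_centralizer_singleton_iff.2 (mem_centralizer_iff.1 hx.2 k hk))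
    (fun j hj => mem_centralizer_singleton_iff.2 (Z0_commute hx.1 hj).eq.symm)

/-- Fusion of elements of `Ω₁Z(J(T))` centralizing components of `L` stays in `L`. -/
theorem Base.fusion_mem (h₁ : IsJComponent T K₁) (hM₁ : ¬ K₁ ≤ M) (hL₁ : K₁ ≤ L)
    (h₂ : IsJComponent T K₂) (hM₂ : ¬ K₂ ≤ M) (hL₂ : K₂ ≤ L) {g x : G} (hx : x ∈ Hof T K₂) (hx1 : x ≠ 1)
    (hgx : g * x * g⁻¹ ∈ Hof T K₁) : g ∈ L := by
  have hC := b.centralizer_le hLmax hJL h₂ hM₂ hL₂ hx hx1
  set L' := L.map (MulAut.conj g).toMonoidHom with hL'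
  have hle : ∀ {c}, Commute c (g * x * g⁻¹) → c ∈ L' := by
    intro c hc
    refine ⟨g⁻¹ * c * g, hC (mem_centralizer_singleton_iff.2 ?_), by simp [mul_assoc]⟩
    calc g⁻¹ * c * g * x = g⁻¹ * (c * (g * x * g⁻¹)) * g := by group
      _ = g⁻¹ * ((g * x * g⁻¹) * c) * g := by rw [hc.eq]
      _ = x * (g⁻¹ * c * g) := by group
  have hmax := maximal_map hLmax (MulAut.conj g)
  have h := b.eq_max hLmax hL₁ h₁ hM₁ hJL hmax.1
    (fun k hk => hle (mem_centralizer_iff.1 hgx.2 k hk))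
    (fun j hj => hle (Z0_commute hgx.1 hj).symm)
  exact max_normalizer hLmax (Core.mem_normalizer_iff_map_conj.2 (hmax.2 L hLmax.1 h).symm)

/-- Components in `L` outside `M` with different four-groups. -/
theorem Base.fixed_le_Hof (h₁ : IsJComponent T K₁) (hM₁ : ¬ K₁ ≤ M) (hL₁ : K₁ ≤ L)
    (h₂ : IsJComponent T K₂) (hL₂ : K₂ ≤ L) (hne : wOf K₁ ≠ wOf K₂) :
    wOf K₂ ⊓ Subgroup.centralizer (thompsonSubgroupOf 2 T : Set G) ≤ Hof T K₁ := by
  have c := b.ctx hLmax.1 (fun h => hM₁ (hL₁.trans h)) hJL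
  have hc := SubComp.centralizes (X := L) (K := K₂) (K' := K₁) ⟨⟨T, h₂⟩, hL₂, c.isSubnormal h₂ hL₂⟩
    ⟨⟨T, h₁⟩, hL₁, c.isSubnormal h₁ hL₁⟩ hne
  exact fun r hr => ⟨fixed_le_Z0 b.isPGroup h₂ hr,
    mem_centralizer_iff.2 fun k hk => (mem_centralizer_iff.1 (hc hk) r hr.1).symm⟩

omit hLmax hJL in
/-- Conjugates of components under `N(J(T))`. -/
theorem Base.conj_component (hK : IsJComponent T K) (hKM : ¬ K ≤ M) {n : G}
    (hn : n ∈ normalizer (thompsonSubgroupOf 2 T : Set G)) :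
    IsJComponent T (K.map (MulAut.conj n).toMonoidHom) ∧ ¬ K.map (MulAut.conj n).toMonoidHom ≤ M := by
  have hJ : thompsonSubgroupOf 2 (T.map (MulAut.conj n).toMonoidHom) = thompsonSubgroupOf 2 T := by
    rw [← thompson_map]; exact Core.map_conj_eq_of_mem_normalizer hn
  refine ⟨isJComponent_congr hJ.symm (isJComponent_map hK (MulAut.conj n)), fun h => hKM fun k hk => ?_⟩
  have hnM := b.normalizer_J_le hn
  have := M.mul_mem (M.mul_mem (M.inv_mem hnM) (h ⟨k, hk, rfl⟩)) hnM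
  simpa [mul_assoc] using this

omit hLmax hJL in
theorem Base.fixed_conj {n : G} (hn : n ∈ normalizer (thompsonSubgroupOf 2 T : Set G)) {r : G}
    (hr : r ∈ wOf K ⊓ Subgroup.centralizer (thompsonSubgroupOf 2 T : Set G)) (hK : IsJComponent T K) :
    n * r * n⁻¹ ∈ wOf (K.map (MulAut.conj n).toMonoidHom) ⊓
      Subgroup.centralizer (thompsonSubgroupOf 2 T : Set G) := by
  refine ⟨?_, mem_centralizer_iff.2 fun j hj => (Z0_commute
    ((mem_normalizer_iff.1 (normalizer_J_le_Z0 hn) r).1 (fixed_le_Z0 b.isPGroup hK hr)) hj).eq.symm⟩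
  rw [wOf_map]
  exact ⟨r, hr.1, rfl⟩

omit hLmax hJL in
theorem Base.wOf_conj_ne (hK : IsJComponent T K) (hKM : ¬ K ≤ M) {n : G}
    (hn : n ∉ normalizer (K : Set G)) : wOf K ≠ wOf (K.map (MulAut.conj n).toMonoidHom) := by
  intro h
  rw [b.normalizer_W (b.zero_outside hK hKM)] at hn
  rw [wOf_map] at h
  exact hn (Core.mem_normalizer_iff_map_conj.2 h.symm)

end Cfsg.Lib.Local.JComp
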