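import Cfsg.Agent.Lib.Local.JComp.Cross

/-!
# The four-groups of two linked components do not commute
-/

set_option autoImplicit false
set_option linter.style.haveILetI false

namespace Cfsg.Lib.Local.JComp

open Subgroup Cfsg Cfsg.Lib Cfsg.Lib.Local.GlaubermanZJ

universe u

variable {G : Type u} [Group G] [Finite G] {T K₁ K₂ L₁ L₂ : Subgroup G}

omit [Finite G] in
/-- The image of a subgroup under conjugation. -/
abbrev cj (g : G) (X : Subgroup G) : Subgroup G := X.map (MulAut.conj g).toMonoidHom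

omit [Finite G] in
theorem cj_cj (g h : G) (X : Subgroup G) : cj g (cj h X) = cj (g * h) X := by
  unfold cj
  rw [Subgroup.map_map]
  congr 1
  ext v
  simp [mul_assoc]

omit [Finite G] in
theorem cj_normalizer (g : G) (X : Subgroup G) :
    cj g (normalizer (X : Set G)) = normalizer (cj g X : Set G) := map_equiv_normalizer_eq X _

omit [Finite G] in
theorem cj_centralizer_le (g : G) {X Y : Subgroup G} (h : X ≤ centralizer (Y : Set G)) :
    cj g X ≤ centralizer (cj g Y : Set G) := by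
  rintro _ ⟨x, hx, rfl⟩
  refine mem_centralizer_iff.2 ?_
  rintro _ ⟨y, hy, rfl⟩
  exact (map_mul _ _ _).symm.trans ((congrArg _ (mem_centralizer_iff.1 (h hx) y hy)).trans (map_mul _ _ _))

omit [Finite G] in
theorem cj_one (X : Subgroup G) : cj 1 X = X := by
  ext v
  simp [mem_map]

namespace Linked

variable (k : Linked T K₁ L₁ K₂ L₂) (hc : wOf K₂ ≤ Subgroup.centralizer (wOf K₁ : Set G))
include k hc

/-- The four-group of `K₂` commutes with its conjugates under `K₁ T`. -/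
theorem commute_cj {p : G} (hp : p ∈ K₁ ⊔ T) :
    cj p (wOf K₂) ≤ Subgroup.centralizer (wOf K₂ : Set G) := by
  have s₁ := k.left
  have s₂ := k.right
  rw [sup_comm] at hp
  obtain ⟨t, ht, c, hcK, rfl⟩ := (Core.mem_sup_of_le_normalizer s₁.norm).1 hp
  have hTW : ∀ {x}, x ∈ T → cj x (wOf K₂) = wOf K₂ := fun hx =>
    Core.map_conj_eq_of_mem_normalizer (normalizer_le_normalizer_W (s₂.norm hx))
  suffices h : cj c (wOf K₂) ≤ Subgroup.centralizer (wOf K₂ : Set G) by
    have := cj_centralizer_le t h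
    rwa [cj_cj, hTW ht] at this
  obtain ⟨ρ, hρ, ho, hn, hgen⟩ := exists_rho s₁.comp
  rw [← hgen, sup_comm] at hcK
  obtain ⟨p', hp', q, hq, rfl⟩ := (Core.mem_sup_of_le_normalizer (A := zpowers ρ) (B := pCoreOf 2 K₁)
    (zpowers_le.2 (normalizer_le_normalizer_pCoreOf K₁ (le_normalizer hρ)))).1 hcK
  rw [← cj_cj, hTW (s₁.R2_le hq)]
  obtain ⟨i, rfl⟩ := hp'
  by_cases hR : ρ ^ i ∈ pCoreOf 2 K₁
  · show cj (ρ ^ i) (wOf K₂) ≤ _
    rw [hTW (s₁.R2_le hR)]
    exact fun x hx => mem_centralizer_iff.2 fun y hy => (W_commute hy hx).eq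
  rintro _ ⟨v, hv, rfl⟩
  show ρ ^ i * v * (ρ ^ i)⁻¹ ∈ Subgroup.centralizer (wOf K₂ : Set G)
  have hρi : ρ ^ i ∈ K₁ := K₁.zpow_mem hρ i
  have hoi : Odd (orderOf (ρ ^ i)) := ho.of_dvd_nat (orderOf_dvd_of_pow_eq_one (by
    rw [← zpow_natCast, ← zpow_mul, mul_comm, zpow_mul, zpow_natCast, pow_orderOf_eq_one, one_zpow]))
  set v' := ρ ^ i * v * (ρ ^ i)⁻¹ with hv'
  have hv'T : v' ∈ T :=
    ((mem_normalizer_iff.1 (s₁.K_le_normalizer_CT hρi) v).1 ⟨s₂.W_le hv, hc hv⟩).1
  by_cases hvR : v ∈ wOf K₂ ⊓ Subgroup.centralizer (thompsonSubgroupOf 2 T : Set G)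
  · have he : v' = v := by
      by_cases hv1 : v = 1
      · rw [hv', hv1]; group
      · rw [hv', mem_centralizer_iff.1 (k.fixed_mem_Hof hc hvR hv1).2 _ hρi, mul_inv_cancel_right]
    rw [he]
    exact mem_centralizer_iff.2 fun y hy => (W_commute hy hv).eq
  by_contra hvW
  exact hvR (T_fixed s₂.isPGroup s₂.comp s₂.norm hv'T hvW hv (k.conj_commute hc hρi hoi hR hv).symm)

/-- A conjugate four-group normalizing `W₁` and normalized by it centralizes it. -/
theorem cross_step {Kj Lj : Subgroup G} (sj : Side T Kj Lj) {g : G}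
    (h1 : cj g (wOf Kj) ≤ normalizer (wOf K₁ : Set G))
    (h2 : wOf K₁ ≤ normalizer (cj g (wOf Kj) : Set G)) :
    cj g (wOf Kj) ≤ Subgroup.centralizer (wOf K₁ : Set G) := by
  haveI : Fact (Nat.Prime 2) := ⟨Nat.prime_two⟩
  by_contra hY
  have s₁ := k.left
  have s₂ := k.right
  have hL₁N : L₁ ≤ normalizer (wOf K₁ : Set G) := k.le_normalizer_W hc
  have hY2 : IsPGroup 2 (cj g (wOf Kj)) := (sj.isPGroup.to_le sj.W_le).map _
  -- move into `T`
  have hN : normalizer (wOf K₁ : Set G) ≤ L₁ :=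
    s₁.eq_max ⟨wOf K₁, s₁.isPGroup.to_le s₁.W_le, W_ne_bot s₁.comp, rfl⟩
      (le_normalizer.trans normalizer_le_normalizer_W)
      ((map_subtype_le _).trans (s₁.norm.trans normalizer_le_normalizer_W))
  obtain ⟨S', hS', hYS'⟩ := JComp.exists_sylow hY2 (h1.trans hN)
  obtain ⟨l, hl, hlS⟩ := exists_conj_sylow hS' s₁.sylow
  have hlW : cj l (wOf K₁) = wOf K₁ := Core.map_conj_eq_of_mem_normalizer (hL₁N hl)
  set Y := cj (l * g) (wOf Kj) with hYdef
  have hYT : Y ≤ T := by
    rw [hYdef, ← cj_cj]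
    exact (map_mono hYS').trans hlS.le
  have hWY : wOf K₁ ≤ normalizer (Y : Set G) := by
    rw [hYdef, ← cj_cj, ← cj_normalizer, ← hlW]
    exact map_mono h2
  have hYC : ¬ Y ≤ Subgroup.centralizer (wOf K₁ : Set G) := by
    intro h
    apply hY
    have := cj_centralizer_le l⁻¹ h
    rw [hYdef, cj_cj, ← mul_assoc, inv_mul_cancel, one_mul] at this
    rwa [show cj l⁻¹ (wOf K₁) = wOf K₁ from
      Core.map_conj_eq_of_mem_normalizer (inv_mem (hL₁N hl))] at this
  -- the commutator is the fixed point of `W₁`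
  obtain ⟨y, hy, hyW⟩ := SetLike.not_le_iff_exists.1 hYC
  obtain ⟨w, hw, hyw⟩ : ∃ w ∈ wOf K₁, ¬ Commute y w := by
    by_contra hcon
    push Not at hcon
    exact hyW (mem_centralizer_iff.2 fun w hw => (hcon w hw).eq.symm)
  set s := y * w * y⁻¹ * w⁻¹ with hs
  have hsR := T_comm_mem s₁.isPGroup s₁.comp s₁.norm (hYT hy) hw
  have hs1 : s ≠ 1 := fun e => hyw (commutatorElement_eq_one_iff_mul_comm.1 e)
  have hsY : s ∈ Y := by
    have := Y.mul_mem hy ((mem_normalizer_iff.1 (hWY hw) y⁻¹).1 (Y.inv_mem hy))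
    rwa [show y * (w * y⁻¹ * w⁻¹) = s by rw [hs]; group] at this
  have hsH₂ : s ∈ Hof T K₂ := k.symm.fixed_mem_Hof (comm_symm hc) hsR hs1
  have hCs : Subgroup.centralizer ({s} : Set G) ≤ L₂ := s₂.centralizer_le hsH₂ hs1
  obtain ⟨x, hx, hxs⟩ := hsY
  obtain ⟨r, hr, hr1⟩ := fixed_exists sj.isPGroup sj.comp
  obtain ⟨σ, hσ, hσo, hσn, -⟩ := exists_rho sj.comp
  have hxs' : l * g * x * (l * g)⁻¹ = s := hxs
  have hx1 : x ≠ 1 := fun e => hs1 (by rw [← hxs', e]; group)
  obtain ⟨c, hcK, hcr⟩ : ∃ c ∈ Kj, c * r * c⁻¹ = x := by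
    rcases four_list sj.comp hσ hσo hσn hr.1 hr1 hx with h | h | h | h
    · exact absurd h hx1
    · exact ⟨1, Kj.one_mem, by rw [h]; group⟩
    · exact ⟨σ, hσ, h.symm⟩
    · exact ⟨σ⁻¹, Kj.inv_mem hσ, by rw [h, inv_inv]⟩
  set g' := l * g * c with hg'
  have hg'r : g' * r * g'⁻¹ = s := by
    calc g' * r * g'⁻¹ = l * g * (c * r * c⁻¹) * (l * g)⁻¹ := by rw [hg']; group
      _ = s := by rw [hcr, hxs']
  have hg'W : cj g' (wOf Kj) = Y := by
    rw [hg', ← cj_cj, show cj c (wOf Kj) = wOf Kj from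
      Core.map_conj_eq_of_mem_normalizer (normalizer_le_normalizer_W (le_normalizer hcK))]
  -- two Sylow subgroups of `C(s)`
  set C := Subgroup.centralizer ({s} : Set G)
  have hTC : T ≤ C := fun t ht =>
    mem_centralizer_singleton_iff.2 (s₂.Z0_central ht hsH₂.1).eq
  have hT'C : cj g' T ≤ C := by
    rintro _ ⟨t, ht, rfl⟩
    refine mem_centralizer_singleton_iff.2 ?_
    rw [← hg'r]
    exact ((T_commute_fixed sj.isPGroup sj.comp sj.norm ht hr).map (MulAut.conj g')).eq
  have hTS : IsSylowTwoIn T C := ⟨hTC, s₂.isPGroup,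
    s₂.sylow.2.2.of_dvd_nat (Dvd.intro _ (relIndex_mul_relIndex T C L₂ hTC hCs))⟩
  obtain ⟨S'', hS'', hle''⟩ := JComp.exists_sylow (s₂.isPGroup.map (MulAut.conj g').toMonoidHom) hT'C
  obtain ⟨l₂, hl₂, hl₂S⟩ := exists_conj_sylow hS'' hTS
  set n := l₂ * g' with hn
  have hnT : n ∈ normalizer (T : Set G) := by
    refine Core.mem_normalizer_iff_map_conj.2 (eq_of_le_of_card_ge ?_ ?_)
    · show cj (l₂ * g') T ≤ T
      rw [← cj_cj]
      exact (map_mono hle'').trans hl₂S.le
    · rw [BaumannBlock.card_map_mulEquiv]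
  have sn := sj.map hnT
  set Kn := Kj.map (MulAut.conj n).toMonoidHom
  have hns : n * r * n⁻¹ = s := by
    calc n * r * n⁻¹ = l₂ * (g' * r * g'⁻¹) * l₂⁻¹ := by rw [hn]; group
      _ = s := by rw [hg'r, mem_centralizer_singleton_iff.1 hl₂, mul_inv_cancel_right]
  have hWn : wOf Kn = cj l₂ Y := by
    rw [← hg'W, cj_cj]; exact wOf_map Kj (MulAut.conj n)
  have hsn : s ∈ wOf Kn ⊓ Subgroup.centralizer (thompsonSubgroupOf 2 T : Set G) := by
    refine ⟨?_, hsR.2⟩
    rw [wOf_map]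
    exact ⟨r, hr.1, hns⟩
  obtain ⟨z, hz, hz1⟩ := fixed_exists s₂.isPGroup s₂.comp
  have hsz : s ≠ z := fun e => hs1 (mem_bot.1 ((Hof_inf_fixed s₂.comp).le ⟨hsH₂, e ▸ hz⟩))
  have hWne : wOf Kn ≠ wOf K₂ := fun e =>
    hsz (fixed_unique s₂.isPGroup s₂.comp hz hz1 (e ▸ hsn) hs1)
  have kn : Linked T K₂ L₂ Kn (Lj.map (MulAut.conj n).toMonoidHom) :=
    ⟨s₂, sn, fun hle => hWne (k.symm.same_W (comm_symm hc) sn.comp hle).symm⟩
  have hcn : wOf Kn ≤ Subgroup.centralizer (wOf K₂ : Set G) := by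
    by_contra hcon
    obtain ⟨s', hs'1, hs'₂, hs'n⟩ := kn.fixed_common hcon
    exact hsz ((fixed_unique sn.isPGroup sn.comp hsn hs1 hs'n hs'1).symm.trans
      (fixed_unique s₂.isPGroup s₂.comp hz hz1 hs'₂ hs'1))
  have hzKn : z ∈ Hof T Kn := kn.symm.fixed_mem_Hof (comm_symm hcn) hz hz1
  have hzH₁ : z ∈ Hof T K₁ := k.fixed_mem_Hof hc hz hz1
  have hKnL₁ : Kn ≤ L₁ := fun v hv => s₁.centralizer_le hzH₁ hz1
    (mem_centralizer_singleton_iff.2 (mem_centralizer_iff.1 hzKn.2 v hv))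
  have hW1 : cj l₂ Y = wOf K₁ := hWn.symm.trans (k.same_W hc sn.comp hKnL₁).symm
  -- the conjugating element can be taken in `K₂ T`
  have hl₂L : l₂⁻¹ ∈ L₂ := L₂.inv_mem (hCs hl₂)
  obtain ⟨p, hp, hpl⟩ := s₂.exists_same_action (k.symm.le_normalizer_W (comm_symm hc) hl₂L)
  have hpl' := k.symm.centralizer_le_normalizer_W (comm_symm hc) hpl
  refine hYC ?_
  have e : Y = cj p (wOf K₁) := by
    calc Y = cj l₂⁻¹ (cj l₂ Y) := by rw [cj_cj, inv_mul_cancel, cj_one]
      _ = cj l₂⁻¹ (wOf K₁) := by rw [hW1]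
      _ = cj p (cj (p⁻¹ * l₂⁻¹) (wOf K₁)) := by rw [cj_cj, mul_inv_cancel_left]
      _ = cj p (wOf K₁) := by
        rw [show cj (p⁻¹ * l₂⁻¹) (wOf K₁) = wOf K₁ from Core.map_conj_eq_of_mem_normalizer hpl']
  rw [e]
  exact k.symm.commute_cj (comm_symm hc) hp

/-- All conjugates under `⟨K₁, K₂, T⟩` of both four-groups commute with both four-groups. -/
theorem commute_all : ∀ (l : List G), (∀ x ∈ l, x ∈ K₁ ⊔ T ∨ x ∈ K₂ ⊔ T) →
    ∀ X ∈ [wOf K₁, wOf K₂], ∀ Y ∈ [wOf K₁, wOf K₂],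
      cj l.prod Y ≤ Subgroup.centralizer (X : Set G) := by
  have hself : ∀ X ∈ [wOf K₁, wOf K₂], ∀ Y ∈ [wOf K₁, wOf K₂], Y ≤ Subgroup.centralizer (X : Set G) := by
    intro X hX Y hY
    simp only [List.mem_cons, List.not_mem_nil, or_false] at hX hY
    rcases hX with rfl | rfl <;> rcases hY with rfl | rfl
    · exact fun x hx => mem_centralizer_iff.2 fun y hy => (W_commute hy hx).eq
    · exact hc
    · exact comm_symm hc
    · exact fun x hx => mem_centralizer_iff.2 fun y hy => (W_commute hy hx).eq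
  have hN₁ : K₁ ⊔ T ≤ normalizer (wOf K₁ : Set G) :=
    (sup_le le_normalizer k.left.norm).trans normalizer_le_normalizer_W
  have hN₂ : K₂ ⊔ T ≤ normalizer (wOf K₂ : Set G) :=
    (sup_le le_normalizer k.right.norm).trans normalizer_le_normalizer_W
  have hC : ∀ X ∈ [wOf K₁, wOf K₂], ∀ X' ∈ [wOf K₁, wOf K₂],
      Subgroup.centralizer (X : Set G) ≤ normalizer (X' : Set G) := by
    intro X hX X' hX'
    simp only [List.mem_cons, List.not_mem_nil, or_false] at hX hX'
    rcases hX with rfl | rfl <;> rcases hX' with rfl | rfl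
    · exact centralizer_le_normalizer _
    · exact k.centralizer_le_normalizer_W hc
    · exact k.symm.centralizer_le_normalizer_W (comm_symm hc)
    · exact centralizer_le_normalizer _
  -- both directions of normalization
  have step : ∀ g, ∀ X ∈ [wOf K₁, wOf K₂], ∀ Y ∈ [wOf K₁, wOf K₂],
      cj g Y ≤ normalizer (X : Set G) → X ≤ normalizer (cj g Y : Set G) →
      cj g Y ≤ Subgroup.centralizer (X : Set G) := by
    intro g X hX Y hY h1 h2
    simp only [List.mem_cons, List.not_mem_nil, or_false] at hX hY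
    rcases hX with rfl | rfl <;> rcases hY with rfl | rfl
    · exact k.cross_step hc k.left h1 h2
    · exact k.cross_step hc k.right h1 h2
    · exact k.symm.cross_step (comm_symm hc) k.left h1 h2
    · exact k.symm.cross_step (comm_symm hc) k.right h1 h2
  intro l
  induction hlen : l.length using Nat.strong_induction_on generalizing l with
  | _ N ih =>
    subst hlen
    intro hl X hX Y hY
    rcases List.eq_nil_or_concat l with rfl | ⟨l', p', hlc⟩
    · rw [List.prod_nil, cj_one]; exact hself X hX Y hY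
    obtain ⟨p, l'', hlp⟩ : ∃ p l'', l = p :: l'' := by
      cases l with
      | nil => simp at hlc
      | cons p l'' => exact ⟨p, l'', rfl⟩
    have hlen' : l'.length < l.length := by simp [hlc]
    have hlen'' : l''.length < l.length := by simp [hlp]
    have ih' := ih _ hlen' l' rfl fun x hx => hl x (by simp [hlc, hx])
    have ih'' := ih _ hlen'' l'' rfl fun x hx => hl x (by simp [hlp, hx])
    refine step _ X hX Y hY ?_ ?_
    · -- the first letter
      obtain ⟨X', hX', hpX'⟩ : ∃ X' ∈ [wOf K₁, wOf K₂], p ∈ normalizer (X' : Set G) := by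
        rcases hl p (by simp [hlp]) with h | h
        exacts [⟨_, by simp, hN₁ h⟩, ⟨_, by simp, hN₂ h⟩]
      refine le_trans ?_ (hC X' hX' X hX)
      rw [hlp, List.prod_cons, ← cj_cj,
        ← Core.map_conj_eq_of_mem_normalizer hpX']
      exact cj_centralizer_le p (ih'' X' hX' Y hY)
    · -- the last letter
      obtain ⟨Y', hY', hpY'⟩ : ∃ Y' ∈ [wOf K₁, wOf K₂], p' ∈ normalizer (Y' : Set G) := by
        rcases hl p' (by simp [hlc]) with h | h
        exacts [⟨_, by simp, hN₁ h⟩, ⟨_, by simp, hN₂ h⟩]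
      have e : cj l.prod Y' = cj l'.prod Y' := by
        rw [hlc, List.concat_eq_append, List.prod_append, List.prod_singleton, ← cj_cj,
          show cj p' Y' = Y' from Core.map_conj_eq_of_mem_normalizer hpY']
      have h := ih' X hX Y' hY'
      rw [← e] at h
      intro x hx
      have hxC : x ∈ Subgroup.centralizer (cj l.prod Y' : Set G) := le_centralizer_iff.1 h hx
      rw [← cj_normalizer]
      refine ⟨l.prod⁻¹ * x * l.prod, hC Y' hY' Y hY (mem_centralizer_iff.2 fun v hv => ?_),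
        by simp [mul_assoc]⟩
      have h' := mem_centralizer_iff.1 hxC _ ⟨v, hv, rfl⟩
      change l.prod * v * l.prod⁻¹ * x = x * (l.prod * v * l.prod⁻¹) at h'
      calc v * (l.prod⁻¹ * x * l.prod) = l.prod⁻¹ * (l.prod * v * l.prod⁻¹ * x) * l.prod := by group
        _ = l.prod⁻¹ * (x * (l.prod * v * l.prod⁻¹)) * l.prod := by rw [h']
        _ = l.prod⁻¹ * x * l.prod * v := by group

end Linked

/-- Linked components have non-commuting four-groups. -/
theorem Linked.not_commute (k : Linked T K₁ L₁ K₂ L₂) :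
    ¬ wOf K₂ ≤ Subgroup.centralizer (wOf K₁ : Set G) := by
  haveI : Fact (Nat.Prime 2) := ⟨Nat.prime_two⟩
  intro hc
  set H₀ := (K₁ ⊔ T) ⊔ (K₂ ⊔ T) with hH₀
  have hall : ∀ g ∈ H₀, cj g (wOf K₁) ≤ Subgroup.centralizer (wOf K₁ : Set G) := by
    intro g hg
    have hg' : g ∈ Subgroup.closure ((K₁ ⊔ T : Subgroup G) ∪ (K₂ ⊔ T : Subgroup G) : Set G) := by
      rw [Subgroup.closure_union, Subgroup.closure_eq, Subgroup.closure_eq]; exact hg
    have hg'' : g ∈ Submonoid.closure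
        ((((K₁ ⊔ T : Subgroup G) : Set G) ∪ (K₂ ⊔ T : Subgroup G)) ∪
          ((((K₁ ⊔ T : Subgroup G) : Set G) ∪ (K₂ ⊔ T : Subgroup G)))⁻¹) := by
      rw [← Subgroup.closure_toSubmonoid]; exact hg'
    obtain ⟨l, hl, rfl⟩ := Submonoid.exists_list_of_mem_closure hg''
    refine k.commute_all hc l (fun x hx => ?_) _ (List.mem_cons_self ..) _ (List.mem_cons_self ..)
    rcases hl x hx with (h | h) | h
    · exact Or.inl h
    · exact Or.inr h
    · rcases Set.mem_inv.1 h with h | h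
      · exact Or.inl (by simpa using inv_mem h)
      · exact Or.inr (by simpa using inv_mem h)
  set s := ⋃ g ∈ H₀, (cj g (wOf K₁) : Set G) with hs
  set N := Subgroup.closure s with hN
  have hNe : IsElementaryAbelian 2 N := by
    refine Thompson.isEA_closure ?_ ?_
    · intro a ha b hb
      simp only [hs, Set.mem_iUnion] at ha hb
      obtain ⟨g, hg, ha⟩ := ha
      obtain ⟨g', hg', hb⟩ := hb
      have h := cj_centralizer_le g' (hall _ (mul_mem (inv_mem hg') hg))
      rw [cj_cj, mul_inv_cancel_left] at h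
      exact ((mem_centralizer_iff.1 (h ha) b hb).symm)
    · intro a ha
      simp only [hs, Set.mem_iUnion] at ha
      obtain ⟨g, hg, v, hv, rfl⟩ := ha
      rw [← map_pow, W_pow hv, map_one]
  have hN1 : N ≠ ⊥ := by
    intro h
    refine W_ne_bot k.left.comp (le_bot_iff.1 fun x hx => ?_)
    rw [← h]
    exact Subgroup.subset_closure (Set.mem_biUnion (one_mem H₀) (by rw [cj_one]; exact hx))
  have hH₀N : H₀ ≤ normalizer (N : Set G) := by
    intro h hh
    refine mem_normalizer_fintype fun x hx => ?_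
    have hle : N ≤ N.comap (MulAut.conj h).toMonoidHom := by
      refine (Subgroup.closure_le _).2 fun a ha => ?_
      simp only [hs, Set.mem_iUnion] at ha
      obtain ⟨g, hg, ha⟩ := ha
      refine Subgroup.subset_closure (Set.mem_biUnion (mul_mem hh hg) ?_)
      rw [← cj_cj]
      exact ⟨a, ha, rfl⟩
    exact hle hx
  have hp : IsPGroup 2 N := fun x => ⟨1, Subtype.ext (by simpa using hNe.2 x x.2)⟩
  have hle := k.left.eq_max ⟨N, hp, hN1, rfl⟩ (le_sup_left.trans (le_sup_left.trans hH₀N))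
    ((map_subtype_le _).trans (le_sup_right.trans (le_sup_left.trans hH₀N)))
  exact k.out ((le_sup_left.trans (le_sup_right.trans hH₀N)).trans hle)

end Cfsg.Lib.Local.JComp
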