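import Cfsg.Agent.Lib.Local.JComp.Side

/-!
# Two components over `T` in different maximal subgroups with commuting four-groups
-/

set_option autoImplicit false
set_option linter.style.haveILetI false

namespace Cfsg.Lib.Local.JComp

open Subgroup Cfsg Cfsg.Lib Cfsg.Lib.Local.GlaubermanZJ

universe u

variable {G : Type u} [Group G] [Finite G] {T K₁ K₂ L₁ L₂ : Subgroup G}

/-- Two sides with different maximal subgroups. -/
structure Linked (T K₁ L₁ K₂ L₂ : Subgroup G) : Prop where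
  left : Side T K₁ L₁
  right : Side T K₂ L₂
  out : ¬ K₂ ≤ L₁

theorem Linked.symm (k : Linked T K₁ L₁ K₂ L₂) : Linked T K₂ L₂ K₁ L₁ :=
  ⟨k.right, k.left, fun h => k.out (k.right.le.trans
    (k.left.eq_max k.right.max.1 h k.right.J_le))⟩

theorem odd_cube {T K : Subgroup G} (hK : IsJComponent T K) {ρ : G} (hρ : ρ ∈ K) (ho : Odd (orderOf ρ)) :
    ρ * ρ * ρ = 1 := by
  haveI : ((pCoreOf 2 K).subgroupOf K).Normal := (normal_subgroupOf_iff_le_normalizer core_le).2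
    (le_normalizer.trans (normalizer_le_normalizer_pCoreOf K))
  have h3 : ρ ^ 3 ∈ pCoreOf 2 K := by
    have h1 := Subgroup.pow_index_mem ((pCoreOf 2 K).subgroupOf K) ⟨ρ, hρ⟩
    rw [show ((pCoreOf 2 K).subgroupOf K).index = 3 from hK.2.2.1] at h1
    exact h1
  obtain ⟨k, hk⟩ := isPGroup_core ⟨ρ ^ 3, h3⟩
  have hk' : (ρ ^ 3) ^ 2 ^ k = 1 := congrArg Subtype.val hk
  have h1 : orderOf (ρ ^ 3) ∣ 2 ^ k := orderOf_dvd_of_pow_eq_one hk'
  have h2 : Odd (orderOf (ρ ^ 3)) := ho.of_dvd_nat (orderOf_pow_dvd 3)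
  have h4 : orderOf (ρ ^ 3) = 1 := Nat.eq_one_of_dvd_coprimes
    ((Nat.coprime_two_left.2 h2).pow_left k) h1 dvd_rfl
  rw [← orderOf_eq_one_iff.1 h4, pow_succ, pow_two]

theorem exists_nonfixed {T K : Subgroup G} (hT : IsPGroup 2 T) (hK : IsJComponent T K) :
    ∃ y ∈ wOf K, y ∉ wOf K ⊓ centralizer (thompsonSubgroupOf 2 T : Set G) := by
  by_contra hc
  push Not at hc
  have := card_le_of_le (show wOf K ≤ _ from hc)
  rw [card_fixed hT hK, hK.2.2.2.2.1] at this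
  omega

namespace Linked

variable (k : Linked T K₁ L₁ K₂ L₂)
include k

theorem CT_ne : CT T K₁ ≠ CT T K₂ := by
  intro h
  have h1 := k.left.isPGroup.to_le (inf_le_left : CT T K₁ ≤ T)
  have hne : CT T K₁ ≠ ⊥ := fun e => W_ne_bot k.left.comp (le_bot_iff.1 (k.left.W_le_CT.trans e.le))
  have hle := k.left.eq_max ⟨CT T K₁, h1, hne, rfl⟩ k.left.K_le_normalizer_CT
    ((map_subtype_le _).trans k.left.T_le_normalizer_CT)
  exact k.out ((h ▸ k.right.K_le_normalizer_CT).trans hle)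

theorem CT_not_le : ¬ CT T K₁ ≤ CT T K₂ := fun h => k.CT_ne (eq_of_le_of_card_ge h (by
  have h1 := k.left.card_T
  have h2 := k.right.card_T
  omega))

/-- Four-groups that do not commute share their fixed points. -/
theorem fixed_common (h : ¬ wOf K₂ ≤ Subgroup.centralizer (wOf K₁ : Set G)) :
    ∃ s, s ≠ 1 ∧ s ∈ wOf K₁ ⊓ Subgroup.centralizer (thompsonSubgroupOf 2 T : Set G) ∧
      s ∈ wOf K₂ ⊓ Subgroup.centralizer (thompsonSubgroupOf 2 T : Set G) := by
  obtain ⟨v, hv, hvW⟩ := SetLike.not_le_iff_exists.1 h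
  obtain ⟨w, hw, hne⟩ : ∃ w ∈ wOf K₁, ¬ Commute v w := by
    by_contra hc
    push Not at hc
    exact hvW (mem_centralizer_iff.2 fun w hw => (hc w hw).eq.symm)
  have hwi : w⁻¹ = w := inv_eq_of_mul_eq_one_right (by rw [← pow_two]; exact W_pow hw)
  have hvi : v⁻¹ = v := inv_eq_of_mul_eq_one_right (by rw [← pow_two]; exact W_pow hv)
  refine ⟨v * w * v⁻¹ * w⁻¹, fun e => hne (commutatorElement_eq_one_iff_mul_comm.1 e),
    T_comm_mem k.left.isPGroup k.left.comp k.left.norm (k.right.W_le hv) hw, ?_⟩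
  have h2 := inv_mem (T_comm_mem k.right.isPGroup k.right.comp k.right.norm (k.left.W_le hw) hv)
  rwa [show (w * v * w⁻¹ * v⁻¹)⁻¹ = v * w * v⁻¹ * w⁻¹ by group] at h2

variable (hc : wOf K₂ ≤ Subgroup.centralizer (wOf K₁ : Set G))
include hc

omit k in
theorem comm_symm : wOf K₁ ≤ Subgroup.centralizer (wOf K₂ : Set G) := le_centralizer_iff.1 hc

/-- With commuting four-groups, the fixed point of `K₂` centralizes `K₁`. -/
theorem fixed_mem_Hof {z : G}
    (hz : z ∈ wOf K₂ ⊓ Subgroup.centralizer (thompsonSubgroupOf 2 T : Set G)) (hz1 : z ≠ 1) :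
    z ∈ Hof T K₁ := by
  have s₁ := k.left
  have s₂ := k.right
  by_contra hzH
  have hzZ := fixed_le_Z0 s₂.isPGroup s₂.comp hz
  obtain ⟨v, hv, hvR⟩ := exists_nonfixed s₂.isPGroup s₂.comp
  have hρL : ∀ ρ ∈ K₁, ρ ∉ pCoreOf 2 K₁ → ρ ∉ Subgroup.centralizer ({z} : Set G) := by
    intro ρ hρ hn hρz
    have hzR : z ∈ (wOf K₁ ⊓ Subgroup.centralizer (thompsonSubgroupOf 2 T : Set G)) ⊔ Hof T K₁ := by
      rw [sup_comm, s₁.center_split.1]; exact hzZ
    obtain ⟨r, hr, h, hh, e⟩ := (Core.mem_sup_of_le_normalizer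
      (show wOf K₁ ⊓ Subgroup.centralizer (thompsonSubgroupOf 2 T : Set G) ≤
          normalizer (Hof T K₁ : Set G) from fun r hr => mem_normalizer_fintype fun x hx => by
        rw [(Z0_comm (fixed_le_Z0 s₁.isPGroup s₁.comp hr) hx.1).eq, mul_inv_cancel_right]; exact hx)).1 hzR
    have hr1 : r ≠ 1 := fun h1 => hzH (by rw [← e, h1, one_mul]; exact hh)
    refine hn (fix_le_core s₁.comp hρ hr.1 hr1 (mul_inv_eq_iff_eq_mul.2 ?_))
    have h1 : Commute ρ z := mem_centralizer_singleton_iff.1 hρz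
    have h2 : Commute ρ h := mem_centralizer_iff.1 hh.2 ρ hρ
    have h3 := h1.mul_right h2.inv_right
    rw [← e, mul_inv_cancel_right] at h3
    exact h3.eq
  have hmove : ∀ t ∈ T, t * v * t⁻¹ = v ∨ t * v * t⁻¹ = v * z := fun t ht => by
    by_cases htW : t ∈ Subgroup.centralizer (wOf K₂ : Set G)
    · left; rw [← mem_centralizer_iff.1 htW v hv, mul_inv_cancel_right]
    · right; rw [T_moves s₂.isPGroup s₂.comp s₂.norm ht htW hz hz1 hv hvR, (W_commute hz.1 hv).eq]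
  have d : SplitData T K₁ (Subgroup.centralizer ({z} : Set G)) v z :=
    ⟨s₁.isPGroup, s₁.comp, s₁.norm, s₁.W_le, s₁.K_le_normalizer_CT, s₂.W_le hv,
      by rw [← pow_two]; exact W_pow hv, fun t ht => s₂.Z0_central ht hzZ, Z0_sq hzZ, hz1, hmove, hρL,
      le_rfl⟩
  have hzE : z ∈ wOf K₁ ⊔ Hof T K₁ := by
    have h := s₁.center_split.1.ge hzZ
    exact (sup_le le_sup_right (inf_le_left.trans le_sup_left) :
      Hof T K₁ ⊔ (wOf K₁ ⊓ Subgroup.centralizer (thompsonSubgroupOf 2 T : Set G)) ≤ wOf K₁ ⊔ Hof T K₁) h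
  refine k.CT_not_le fun c hcc => ⟨hcc.1, by_contra fun hcW => hvR (T_fixed s₂.isPGroup s₂.comp s₂.norm hcc.1
    hcW hv ?_)⟩
  exact d.centralized s₁.Hof_central inf_le_right (fun h hh => Z0_sq hh.1) hzE (hc hv) hcc

/-- All components in `L₁` share their four-group. -/
theorem same_W {K : Subgroup G} (hK : IsJComponent T K) (hKL : K ≤ L₁) : wOf K₁ = wOf K := by
  by_contra hne
  have s₁ := k.left
  have s₂ := k.right
  obtain ⟨h1, h2⟩ := s₁.centralizes hK hKL hne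
  obtain ⟨r, hr, hr1⟩ := fixed_exists s₁.isPGroup hK
  obtain ⟨ρ, hρ, ho, hn, -⟩ := exists_rho hK
  obtain ⟨z, hz, hz1⟩ := fixed_exists s₂.isPGroup s₂.comp
  obtain ⟨w, hw, hw1⟩ := fixed_exists s₁.isPGroup s₁.comp
  have hrz : r = z := by
    have hrH : r ∈ Hof T K₁ := ⟨fixed_le_Z0 s₁.isPGroup hK hr,
      mem_centralizer_iff.2 fun c hc => (mem_centralizer_iff.1 (h2 hc) r hr.1).symm⟩
    have hzH := k.fixed_mem_Hof hc hz hz1
    by_contra hne'
    have h3 : ({1, r, z} : Set G).ncard ≤ Nat.card ↥(Hof T K₁) := by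
      rw [show Nat.card ↥(Hof T K₁) = (Hof T K₁ : Set G).ncard from Nat.card_coe_set_eq _]
      refine Set.ncard_le_ncard ?_ (Set.toFinite _)
      rintro e (rfl | rfl | rfl)
      exacts [one_mem _, hrH, hzH]
    rw [Set.ncard_insert_of_notMem (by simp [Ne.symm hr1, Ne.symm hz1]) (Set.toFinite _),
      Set.ncard_pair hne'] at h3
    have := s₁.card_Hof
    omega
  have hwH := k.symm.fixed_mem_Hof (comm_symm hc) hw hw1
  have hKL₂ : K ≤ L₂ := fun c hc' => s₂.centralizer_le hwH hw1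
    (mem_centralizer_singleton_iff.2 (mem_centralizer_iff.1 (h1 hc') w hw.1).symm)
  by_cases hW : wOf K₂ = wOf K
  · have hKW : K₁ ≤ normalizer (wOf K₂ : Set G) := by
      rw [hW]; exact h2.trans (centralizer_le_normalizer _)
    refine k.out ((le_normalizer.trans normalizer_le_normalizer_W).trans (s₁.eq_max
      ⟨wOf K₂, s₂.isPGroup.to_le s₂.W_le, W_ne_bot s₂.comp, rfl⟩ hKW
      ((map_subtype_le _).trans (s₂.norm.trans normalizer_le_normalizer_W))))
  · obtain ⟨h1', -⟩ := s₂.centralizes hK hKL₂ hW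
    refine hn (fix_le_core hK hρ hr.1 hr1 (mul_inv_eq_iff_eq_mul.2 ?_))
    rw [hrz]
    exact (mem_centralizer_iff.1 (h1' hρ) z hz.1).symm

theorem le_normalizer_W : L₁ ≤ normalizer (wOf K₁ : Set G) :=
  k.left.le_normalizer_W fun _ h h' => k.same_W hc h h'

/-- `C(W₁)` normalizes `W₂`. -/
theorem centralizer_le_normalizer_W :
    Subgroup.centralizer (wOf K₁ : Set G) ≤ normalizer (wOf K₂ : Set G) := by
  obtain ⟨w, hw, hw1⟩ := fixed_exists k.left.isPGroup k.left.comp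
  have hwH := k.symm.fixed_mem_Hof (comm_symm hc) hw hw1
  exact ((Subgroup.centralizer_le (Set.singleton_subset_iff.2 hw.1)).trans (k.right.centralizer_le hwH hw1)).trans
    (k.symm.le_normalizer_W (comm_symm hc))

/-- The four-group of `K₂` commutes with its conjugates under `K₁`. -/
theorem conj_commute {ρ v : G} (hρ : ρ ∈ K₁) (ho : Odd (orderOf ρ)) (hn : ρ ∉ pCoreOf 2 K₁)
    (hv : v ∈ wOf K₂) : Commute v (ρ * v * ρ⁻¹) := by
  have s₁ := k.left
  have s₂ := k.right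
  obtain ⟨z, hz, hz1⟩ := fixed_exists s₂.isPGroup s₂.comp
  have hzH := k.fixed_mem_Hof hc hz hz1
  have hzZ := fixed_le_Z0 s₂.isPGroup s₂.comp hz
  have hρz : Commute ρ z := mem_centralizer_iff.1 hzH.2 ρ hρ
  have hvC : v ∈ CT T K₁ := ⟨s₂.W_le hv, hc hv⟩
  have hρC : ρ ∈ normalizer (CT T K₁ : Set G) := s₁.K_le_normalizer_CT hρ
  set v' := ρ * v * ρ⁻¹ with hv'
  have hv'C : v' ∈ CT T K₁ := (mem_normalizer_iff.1 hρC v).1 hvC
  by_cases hvR : v ∈ wOf K₂ ⊓ Subgroup.centralizer (thompsonSubgroupOf 2 T : Set G)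
  · exact (T_commute_fixed s₂.isPGroup s₂.comp s₂.norm hv'C.1 hvR).symm
  by_contra hnc
  have hρ3 := odd_cube s₁.comp hρ ho
  have hρi : ρ⁻¹ = ρ * ρ := inv_eq_of_mul_eq_one_right (by rw [← mul_assoc]; exact hρ3)
  set v'' := ρ⁻¹ * v * ρ with hv''
  have hv''C : v'' ∈ CT T K₁ := (mem_normalizer_iff''.1 hρC v).1 hvC
  have hzc : ∀ t ∈ T, Commute t z := fun t ht => s₂.Z0_central ht hzZ
  have hz2 : z * z = 1 := Z0_sq hzZ
  have hv2 : v * v = 1 := by rw [← pow_two]; exact W_pow hv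
  have hv'2 : v' * v' = 1 := by
    rw [hv']
    calc ρ * v * ρ⁻¹ * (ρ * v * ρ⁻¹) = ρ * (v * v) * ρ⁻¹ := by group
      _ = 1 := by rw [hv2]; group
  have hv''2 : v'' * v'' = 1 := by
    rw [hv'']
    calc ρ⁻¹ * v * ρ * (ρ⁻¹ * v * ρ) = ρ⁻¹ * (v * v) * ρ := by group
      _ = 1 := by rw [hv2]; group
  have hv'i : v'⁻¹ = v' := inv_eq_of_mul_eq_one_right hv'2
  have hmem : ∀ t ∈ T, Commute t v → t ∈ CT T K₂ := fun t ht h =>
    ⟨ht, by_contra fun htW => hvR (T_fixed s₂.isPGroup s₂.comp s₂.norm ht htW hv h)⟩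
  have hv'W : v' ∉ Subgroup.centralizer (wOf K₂ : Set G) := fun h => hnc (mem_centralizer_iff.1 h v hv)
  -- the three involutions pairwise commute up to `z`
  have e1 : v' * v = z * v * v' := by
    rw [← mul_inv_eq_iff_eq_mul]
    exact T_moves s₂.isPGroup s₂.comp s₂.norm hv'C.1 hv'W hz hz1 hv hvR
  have hρv' : ρ * v' * ρ⁻¹ = v'' := by
    calc ρ * v' * ρ⁻¹ = (ρ * ρ) * v * (ρ * ρ)⁻¹ := by rw [hv']; group
      _ = v'' := by rw [← hρi, inv_inv]
  have hρv'' : ρ * v'' * ρ⁻¹ = v := by rw [hv'']; group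
  have hρzc : ρ * z * ρ⁻¹ = z := by rw [hρz.eq, mul_inv_cancel_right]
  have e2 : v'' * v' = z * v' * v'' := by
    calc v'' * v' = ρ * (v' * v) * ρ⁻¹ := by rw [← hρv', hv']; group
      _ = ρ * (z * v * v') * ρ⁻¹ := by rw [e1]
      _ = (ρ * z * ρ⁻¹) * (ρ * v * ρ⁻¹) * (ρ * v' * ρ⁻¹) := by group
      _ = z * v' * v'' := by rw [hρzc, hρv', hv']
  have e3 : v * v'' = z * v'' * v := by
    calc v * v'' = ρ * (v'' * v') * ρ⁻¹ := by
          rw [show ρ * (v'' * v') * ρ⁻¹ = (ρ * v'' * ρ⁻¹) * (ρ * v' * ρ⁻¹) by group, hρv', hρv'']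
      _ = ρ * (z * v' * v'') * ρ⁻¹ := by rw [e2]
      _ = (ρ * z * ρ⁻¹) * (ρ * v' * ρ⁻¹) * (ρ * v'' * ρ⁻¹) := by group
      _ = z * v'' * v := by rw [hρzc, hρv', hρv'']
  have e3' : v'' * v = z * v * v'' := by
    calc v'' * v = (z * z) * (v'' * v) := by rw [hz2, one_mul]
      _ = z * (z * v'' * v) := by group
      _ = z * v * v'' := by rw [← e3, mul_assoc]
  have hzv : Commute z v := (hzc v hvC.1).symm
  have hzv' : Commute z v' := (hzc v' hv'C.1).symm
  have hzv'' : Commute z v'' := (hzc v'' hv''C.1).symm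
  set q := v * v' * v'' with hq
  have hqq : q * q = z := by
    calc q * q = v * v' * (v'' * v) * v' * v'' := by rw [hq]; group
      _ = v * (v' * z) * v * v'' * v' * v'' := by rw [e3']; group
      _ = v * z * (v' * v) * v'' * v' * v'' := by rw [← hzv'.eq]; group
      _ = (v * z) * z * v * v' * (v'' * v') * v'' := by rw [e1]; group
      _ = (z * z) * (v * v) * v' * (z * v' * v'') * v'' := by rw [← hzv.eq, e2, mul_assoc z v z, ← hzv.eq]; group
      _ = (v' * z) * v' * (v'' * v'') := by rw [hz2, hv2]; group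
      _ = z * (v' * v') * (v'' * v'') := by rw [← hzv'.eq]; group
      _ = z := by rw [hv'2, hv''2, mul_one, mul_one]
  have hqT : q ∈ T := T.mul_mem (T.mul_mem hvC.1 hv'C.1) hv''C.1
  have hqC : q ∈ CT T K₂ := by
    refine hmem q hqT ?_
    show q * v = v * q
    calc q * v = v * v' * (v'' * v) := by rw [hq]; group
      _ = v * (v' * z) * v * v'' := by rw [e3']; group
      _ = v * z * (v' * v) * v'' := by rw [← hzv'.eq]; group
      _ = v * (z * z) * v * v' * v'' := by rw [e1]; group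
      _ = v * q := by rw [hz2, hq]; group
  have hqW : q ∈ Subgroup.centralizer (wOf K₁ : Set G) := mul_mem (mul_mem hvC.2 hv'C.2) hv''C.2
  -- the subgroup `⟨q⟩ W`
  set M := zpowers q ⊔ wOf K₂ with hM
  have hqN : zpowers q ≤ normalizer (wOf K₂ : Set G) := zpowers_le.2
    (normalizer_le_normalizer_W (s₂.norm hqT))
  have hMcases : ∀ m ∈ M, m ∈ wOf K₂ ∨ ∃ u ∈ wOf K₂, m = q * u := by
    intro m hm
    obtain ⟨a, ha, u, hu, rfl⟩ := (Core.mem_sup_of_le_normalizer hqN).1 hm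
    obtain ⟨i, rfl⟩ := ha
    have hq2 : q ^ (2 : ℤ) = z := by rw [zpow_two, hqq]
    rcases Int.even_or_odd' i with ⟨j, rfl | rfl⟩
    · left
      show q ^ (2 * j) * u ∈ wOf K₂
      rw [zpow_mul, hq2]
      exact mul_mem ((wOf K₂).zpow_mem hz.1 j) hu
    · refine Or.inr ⟨z ^ j * u, mul_mem ((wOf K₂).zpow_mem hz.1 j) hu, ?_⟩
      show q ^ (2 * j + 1) * u = q * (z ^ j * u)
      rw [add_comm, zpow_add, zpow_one, zpow_mul, hq2, mul_assoc]
  have hzM : z ∈ M := mem_sup_right hz.1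
  have hvM : v ∈ M := mem_sup_right hv
  -- commutators with `v'`
  have hsmall : ∀ c ∈ CT T K₁, c * v' * c⁻¹ = v' ∨ c * v' * c⁻¹ = z * v' := by
    intro c hcc
    have hc' : ρ⁻¹ * c * ρ ∈ CT T K₁ := (mem_normalizer_iff''.1 hρC c).1 hcc
    have e : c * v' * c⁻¹ = ρ * ((ρ⁻¹ * c * ρ) * v * (ρ⁻¹ * c * ρ)⁻¹) * ρ⁻¹ := by rw [hv']; group
    by_cases hW : ρ⁻¹ * c * ρ ∈ Subgroup.centralizer (wOf K₂ : Set G)
    · left; rw [e, ← mem_centralizer_iff.1 hW v hv, mul_inv_cancel_right]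
    · right
      rw [e, T_moves s₂.isPGroup s₂.comp s₂.norm hc'.1 hW hz hz1 hv hvR]
      calc ρ * (z * v) * ρ⁻¹ = (ρ * z * ρ⁻¹) * (ρ * v * ρ⁻¹) := by group
        _ = z * v' := by rw [hρzc]
  have hcomm : ∀ c ∈ CT T K₂, v' * c * v' * c⁻¹ ∈ M := by
    intro c hc2
    by_cases hcW : c ∈ Subgroup.centralizer (wOf K₁ : Set G)
    · have e : v' * c * v' * c⁻¹ = v' * (c * v' * c⁻¹) := by group
      rw [e]
      rcases hsmall c ⟨hc2.1, hcW⟩ with h | h <;> rw [h]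
      · rw [hv'2]; exact one_mem M
      · rw [← mul_assoc, ← hzv'.eq, mul_assoc, hv'2, mul_one]; exact hzM
    · set κ := c * ρ * c⁻¹ with hκ
      have hκK : κ ∈ K₁ := (mem_normalizer_iff.1 (s₁.norm hc2.1) ρ).1 hρ
      have hgen : zpowers ρ ⊔ pCoreOf 2 K₁ = K₁ := eq_of_core_lt s₁.comp le_sup_right
        (sup_le (zpowers_le.2 hρ) core_le) fun h => hn (h (mem_sup_left (mem_zpowers ρ)))
      obtain ⟨p, hp, q₀, hq₀, hpq⟩ := (Core.mem_sup_of_le_normalizer (A := zpowers ρ) (B := pCoreOf 2 K₁)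
        (zpowers_le.2 (normalizer_le_normalizer_pCoreOf K₁ (le_normalizer hρ)))).1 (hgen.ge hκK)
      have hvc : c * v * c⁻¹ = v := by rw [← mem_centralizer_iff.1 hc2.2 v hv, mul_inv_cancel_right]
      have e : v' * c * v' * c⁻¹ = v' * (p * (q₀ * v * q₀⁻¹) * p⁻¹) := by
        calc v' * c * v' * c⁻¹ = v' * (κ * (c * v * c⁻¹) * κ⁻¹) := by rw [hκ, hv']; group
          _ = _ := by rw [hvc, ← hpq]; group
      obtain ⟨x, hx, hxe⟩ : ∃ x ∈ wOf K₂, x ∈ Subgroup.centralizer ({ρ} : Set G) ∧ q₀ * v * q₀⁻¹ = x * v := by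
        by_cases hW : q₀ ∈ Subgroup.centralizer (wOf K₂ : Set G)
        · exact ⟨1, one_mem _, one_mem _, by rw [one_mul, ← mem_centralizer_iff.1 hW v hv, mul_inv_cancel_right]⟩
        · exact ⟨z, hz.1, mem_centralizer_singleton_iff.2 hρz.eq.symm,
            T_moves s₂.isPGroup s₂.comp s₂.norm (s₁.R2_le hq₀) hW hz hz1 hv hvR⟩
      obtain ⟨i, rfl⟩ := hp
      have hxρ0 : Commute x ρ := mem_centralizer_singleton_iff.1 hxe.1
      have hxρ : Commute (ρ ^ i) x := hxρ0.symm.zpow_left i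
      have hxT : Commute x v' := by
        rcases W_cases s₂.isPGroup s₂.comp hz hz1 hv hvR hx with h | h | h | h
        · rw [h]; exact Commute.one_left _
        · rw [h]; exact hzv'
        · exact absurd ((mem_centralizer_singleton_iff.1 hxe.1 : x * ρ = ρ * x))
            (fun h' => hnc (by
              rw [h] at h'
              have : v' = v := by rw [hv', ← h', mul_inv_cancel_right]
              rw [this]))
        · exact absurd ((mem_centralizer_singleton_iff.1 hxe.1 : x * ρ = ρ * x))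
            (fun h' => hnc (by
              rw [h] at h'
              have h2 : Commute ρ v := by
                have := hρz.inv_right.mul_right (show Commute ρ (z * v) from h'.symm)
                rwa [inv_mul_cancel_left] at this
              rw [hv', h2.eq, mul_inv_cancel_right]))
      rw [e, hxe.2]
      have e' : v' * (ρ ^ i * (x * v) * (ρ ^ i)⁻¹) = x * (v' * (ρ ^ i * v * (ρ ^ i)⁻¹)) := by
        calc v' * (ρ ^ i * (x * v) * (ρ ^ i)⁻¹) = v' * ((ρ ^ i * x) * v * (ρ ^ i)⁻¹) := by group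
          _ = (v' * x) * (ρ ^ i * v * (ρ ^ i)⁻¹) := by rw [hxρ.eq]; group
          _ = _ := by rw [← hxT.eq]; group
      show v' * (ρ ^ i * (x * v) * (ρ ^ i)⁻¹) ∈ M
      rw [e']
      refine M.mul_mem (mem_sup_right hx) ?_
      have hρ3' : ρ ^ (3 : ℤ) = 1 := by
        rw [show (3 : ℤ) = ((3 : ℕ) : ℤ) from rfl, zpow_natCast, pow_succ, pow_two, hρ3]
      have hi : ρ ^ i = ρ ^ (i % 3) := by
        conv_lhs => rw [← Int.emod_add_mul_ediv i 3, zpow_add, zpow_mul, hρ3', one_zpow, mul_one]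
      have h0 := Int.emod_nonneg i (show (3 : ℤ) ≠ 0 by norm_num)
      have h3 := Int.emod_lt_of_pos i (show (0 : ℤ) < 3 by norm_num)
      rw [hi]
      interval_cases hr : i % 3
      · exfalso
        have hi1 : (fun j : ℤ => ρ ^ j) i = 1 := by show ρ ^ i = 1; rw [hi, zpow_zero]
        rw [hi1, one_mul] at hpq
        apply hn
        have hκR : κ ∈ pCoreOf 2 K₁ := hpq ▸ hq₀
        have h' := (mem_normalizer_iff''.1 (normalizer_le_normalizer_pCoreOf K₁ (s₁.norm hc2.1)) κ).1 hκR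
        rwa [hκ, show c⁻¹ * (c * ρ * c⁻¹) * c = ρ by group] at h'
      · rw [zpow_one, ← hv', hv'2]
        exact one_mem M
      · have : ρ ^ (2 : ℤ) * v * (ρ ^ (2 : ℤ))⁻¹ = v'' := by
          rw [zpow_two, ← hρi, inv_inv]
        rw [this, show v' * v'' = v⁻¹ * q by rw [hq]; group]
        exact M.mul_mem (M.inv_mem hvM) (mem_sup_left (mem_zpowers q))
  have hvqv : v' * q * v' = q := by
    calc v' * q * v' = (v' * v) * v' * (v'' * v') := by rw [hq]; group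
      _ = z * v * v' * v' * (z * v' * v'') := by rw [e1, e2]
      _ = z * v * (v' * v') * z * v' * v'' := by group
      _ = (z * v) * z * v' * v'' := by rw [hv'2, mul_one]
      _ = (v * z) * z * v' * v'' := by rw [hzv.eq]
      _ = v * (z * z) * v' * v'' := by group
      _ = q := by rw [hz2, mul_one, hq]
  -- an element of order 3 of `K₂` inverted by `v'`
  obtain ⟨σ, hσ, hσo, hσn, hσ3, hσinv⟩ := exists_inverted s₂.isPGroup s₂.comp s₂.norm hv'C.1 hv'2 hv'W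
  have hσi : σ⁻¹ = σ * σ := inv_eq_of_mul_eq_one_right (by rw [← mul_assoc]; exact hσ3)
  have hσv' : σ * v' * σ⁻¹ = v' * σ := by
    calc σ * v' * σ⁻¹ = v' * (v'⁻¹ * σ * v') * σ⁻¹ := by group
      _ = v' * (v' * σ * v'⁻¹) * σ⁻¹ := by rw [hv'i]
      _ = v' * σ := by rw [hσinv, mul_assoc, ← mul_inv_rev, ← hσi, inv_inv]
  have hσC : σ ∈ normalizer (CT T K₂ : Set G) := s₂.K_le_normalizer_CT hσ
  have hσW : σ ∈ normalizer (wOf K₂ : Set G) := normalizer_le_normalizer_W (le_normalizer hσ)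
  obtain ⟨w, hw, hwR⟩ := exists_nonfixed s₁.isPGroup s₁.comp
  have hwC : w ∈ CT T K₂ := ⟨s₁.W_le hw, comm_symm hc hw⟩
  have hwmem : ∀ t ∈ T, Commute t w → t ∈ CT T K₁ := fun t ht h =>
    ⟨ht, by_contra fun htW => hwR (T_fixed s₁.isPGroup s₁.comp s₁.norm ht htW hw h)⟩
  have hwv' : v' * w * v' = w := by
    rw [← mem_centralizer_iff.1 hv'C.2 w hw, mul_assoc, hv'2, mul_one]
  set c₀ := σ⁻¹ * w * σ with hc₀
  have hc₀C : c₀ ∈ CT T K₂ := (mem_normalizer_iff''.1 hσC w).1 hwC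
  set m := v' * c₀ * v' * c₀⁻¹ with hm
  have hmM : m ∈ M := hcomm c₀ hc₀C
  have e4 : σ * w * σ⁻¹ = σ⁻¹ * (v' * m * v') * σ * w := by
    have h1 : (v' * σ) * w * (v' * σ)⁻¹ = (σ * m * σ⁻¹) * w := by
      rw [← hσv']
      calc σ * v' * σ⁻¹ * w * (σ * v' * σ⁻¹)⁻¹ = σ * (v' * c₀ * v'⁻¹) * σ⁻¹ := by rw [hc₀]; group
        _ = σ * (v' * c₀ * v') * σ⁻¹ := by rw [hv'i]
        _ = (σ * m * σ⁻¹) * w := by rw [hm, hc₀]; group
    have h2 : v' * σ = σ⁻¹ * v' := by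
      calc v' * σ = (v' * σ * v'⁻¹) * v' := by group
        _ = σ⁻¹ * v' := by rw [hσinv]
    calc σ * w * σ⁻¹ = v'⁻¹ * ((v' * σ) * w * (v' * σ)⁻¹) * v' := by group
      _ = v' * (σ * m * σ⁻¹ * w) * v' := by rw [h1, hv'i]
      _ = (v' * σ) * m * (v' * σ)⁻¹ * (v' * w * v') := by group
      _ = σ⁻¹ * (v' * m * v') * σ * w := by rw [h2, hwv']; rw [mul_inv_rev, inv_inv, hv'i]; group
  have hv'N : v' ∈ normalizer (wOf K₂ : Set G) := normalizer_le_normalizer_W (s₂.norm hv'C.1)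
  have hWconj : ∀ {u}, u ∈ wOf K₂ → v' * u * v' ∈ wOf K₂ := fun hu => by
    have := (mem_normalizer_iff.1 hv'N _).1 hu
    rwa [hv'i] at this
  have hσzne : ¬ Commute σ z := fun h => hσn (fix_le_core s₂.comp hσ hz.1 hz1 (mul_inv_eq_iff_eq_mul.2 h.eq))
  rcases hMcases m hmM with hmW | ⟨u, hu, hmu⟩
  · -- `σ` moves `w` only inside `W₂`
    set u := σ⁻¹ * (v' * m * v') * σ with hu
    have huW : u ∈ wOf K₂ := (mem_normalizer_iff''.1 hσW _).1 (hWconj hmW)
    set u' := σ⁻¹ * u * σ with hu'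
    have hu'W : u' ∈ wOf K₂ := (mem_normalizer_iff''.1 hσW _).1 huW
    have hwe : w = u' * c₀ := by
      calc w = σ⁻¹ * (σ * w * σ⁻¹) * σ := by group
        _ = σ⁻¹ * (u * w) * σ := by rw [e4]
        _ = u' * c₀ := by rw [hu', hc₀]; group
    set d₀ := σ⁻¹ * q * σ with hd₀
    have hd₀C : d₀ ∈ CT T K₂ := (mem_normalizer_iff''.1 hσC q).1 hqC
    have hd₀1 : d₀ ∈ CT T K₁ := by
      refine hwmem d₀ hd₀C.1 ?_
      have h1 : Commute d₀ u' := (mem_centralizer_iff.1 hd₀C.2 u' hu'W).symm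
      have h2 : Commute d₀ c₀ := by
        have hqw : Commute q w := (mem_centralizer_iff.1 hqW w hw).symm
        have := hqw.map (MulAut.conj σ⁻¹)
        simpa [hd₀, hc₀, mul_assoc] using this
      rw [hwe]
      exact h1.mul_right h2
    have h1 : v' * d₀ * v' * d₀⁻¹ ∈ wOf K₂ := by
      rw [show v' * d₀ * v' * d₀⁻¹ = v' * (d₀ * v' * d₀⁻¹) by group]
      rcases hsmall d₀ hd₀1 with h | h <;> rw [h]
      · rw [hv'2]; exact one_mem _
      · rw [← mul_assoc, ← hzv'.eq, mul_assoc, hv'2, mul_one]; exact hz.1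
    set u₁ := σ * (v' * d₀ * v' * d₀⁻¹) * σ⁻¹ with hu₁
    have hu₁W : u₁ ∈ wOf K₂ := (mem_normalizer_iff.1 hσW _).1 h1
    have e5 : σ * q * σ⁻¹ = σ⁻¹ * (v' * (v' * d₀ * v' * d₀⁻¹) * v') * σ * q := by
      have h3 : (v' * σ) * q * (v' * σ)⁻¹ = u₁ * q := by
        rw [← hσv']
        calc σ * v' * σ⁻¹ * q * (σ * v' * σ⁻¹)⁻¹ = σ * (v' * d₀ * v'⁻¹) * σ⁻¹ := by rw [hd₀]; group
          _ = σ * (v' * d₀ * v') * σ⁻¹ := by rw [hv'i]
          _ = u₁ * q := by rw [hu₁, hd₀]; group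
      have h2 : v' * σ = σ⁻¹ * v' := by
        calc v' * σ = (v' * σ * v'⁻¹) * v' := by group
          _ = σ⁻¹ * v' := by rw [hσinv]
      calc σ * q * σ⁻¹ = v'⁻¹ * ((v' * σ) * q * (v' * σ)⁻¹) * v' := by group
        _ = v' * (u₁ * q) * v' := by rw [h3, hv'i]
        _ = (v' * σ) * (v' * d₀ * v' * d₀⁻¹) * (v' * σ)⁻¹ * (v' * q * v') := by rw [hu₁]; group
        _ = σ⁻¹ * (v' * (v' * d₀ * v' * d₀⁻¹) * v') * σ * q := by
          rw [h2, hvqv, mul_inv_rev σ⁻¹ v', inv_inv, hv'i]; group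
    set u₂ := σ⁻¹ * (v' * (v' * d₀ * v' * d₀⁻¹) * v') * σ with hu₂
    have hu₂W : u₂ ∈ wOf K₂ := (mem_normalizer_iff''.1 hσW _).1 (hWconj h1)
    have hd : q⁻¹ * (σ * q * σ⁻¹) ∈ wOf K₂ := by
      have hqu : u₂ * q = q * u₂ := mem_centralizer_iff.1 hqC.2 u₂ hu₂W
      rw [e5, hqu, inv_mul_cancel_left]
      exact hu₂W
    obtain ⟨u₃, hu₃, hcu⟩ := decomp s₂.comp hσ hσo hσn hqC.2 hd
    refine hσzne ?_
    have hz' : z = (u₃⁻¹ * q) * (u₃⁻¹ * q) := by
      have hc3 : Commute u₃⁻¹ q := mem_centralizer_iff.1 hqC.2 _ (inv_mem hu₃)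
      rw [← hqq]
      calc q * q = (u₃ * u₃)⁻¹ * (q * q) := by rw [← pow_two u₃, W_pow hu₃, inv_one, one_mul]
        _ = u₃⁻¹ * (u₃⁻¹ * q) * q := by group
        _ = u₃⁻¹ * (q * u₃⁻¹) * q := by rw [hc3.eq]
        _ = _ := by group
    rw [hz']
    exact hcu.mul_right hcu
  · -- the square of an involution would lie in `W₂`
    set g := σ⁻¹ * (v' * m * v') * σ with hg
    have hu₀ : v' * m * v' = q * (v' * u * v') := by
      calc v' * m * v' = (v' * q * v'⁻¹) * (v' * u * v') := by rw [hmu]; group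
        _ = q * (v' * u * v') := by rw [hv'i, hvqv]
    have hcq : Commute q (v' * u * v') := (mem_centralizer_iff.1 hqC.2 _ (hWconj hu)).symm
    have hgg : g * g = σ⁻¹ * z * σ := by
      calc g * g = σ⁻¹ * ((v' * m * v') * (v' * m * v')) * σ := by rw [hg]; group
        _ = σ⁻¹ * (q * ((v' * u * v') * q) * (v' * u * v')) * σ := by rw [hu₀]; group
        _ = σ⁻¹ * ((q * q) * ((v' * u * v') * (v' * u * v'))) * σ := by rw [← hcq.eq]; group
        _ = σ⁻¹ * z * σ := by rw [← pow_two (v' * u * v'), W_pow (hWconj hu), mul_one, hqq]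
    have hgT : g ∈ T := ((mem_normalizer_iff''.1 hσC _).1
      (show v' * m * v' ∈ CT T K₂ from hu₀ ▸ mul_mem hqC (s₂.W_le_CT (hWconj hu)))).1
    have hw2 : w * w = 1 := by rw [← pow_two]; exact W_pow hw
    have hgw : (g * w) * (g * w) = 1 := by
      rw [← e4]
      calc σ * w * σ⁻¹ * (σ * w * σ⁻¹) = σ * (w * w) * σ⁻¹ := by group
        _ = 1 := by rw [hw2]; group
    have hcm := T_comm_mem s₁.isPGroup s₁.comp s₁.norm hgT hw
    have hgz : g * w * g⁻¹ * w⁻¹ = σ⁻¹ * z * σ := by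
      rw [← hgg]
      have h3 : g * w * g = w⁻¹ := eq_inv_of_mul_eq_one_left (by rw [← hgw]; group)
      have hwi : w⁻¹ = w := inv_eq_of_mul_eq_one_right hw2
      have h4 : w * g * w = g⁻¹ := eq_inv_of_mul_eq_one_right (by rw [← hgw]; group)
      rw [← h4, hwi]
      calc g * w * (w * g * w) * w = g * (w * w) * g * (w * w) := by group
        _ = g * g := by rw [hw2, mul_one, mul_one]
    rw [hgz] at hcm
    have hzW : σ⁻¹ * z * σ ∈ wOf K₂ := (mem_normalizer_iff''.1 hσW z).1 hz.1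
    have h1 : σ⁻¹ * z * σ ≠ 1 := fun h => hz1 (by
      calc z = σ * (σ⁻¹ * z * σ) * σ⁻¹ := by group
        _ = 1 := by rw [h]; group)
    have h2 := fixed_unique s₂.isPGroup s₂.comp hz hz1 ⟨hzW, hcm.2⟩ h1
    refine hσzne (show σ * z = z * σ from ?_)
    calc σ * z = σ * (σ⁻¹ * z * σ) := by rw [h2]
      _ = z * σ := by group

end Linked

end Cfsg.Lib.Local.JComp
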