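import Cfsg.Agent.Lib.Local.JComp.Action

/-!
# An involution with two conjugates under `T` and no fusion outside `L`
-/

set_option autoImplicit false
set_option linter.style.haveILetI false

namespace Cfsg.Lib.Local.JComp

open Subgroup Cfsg Cfsg.Lib Cfsg.Lib.Local.GlaubermanZJ

universe u

variable {G : Type u} [Group G] [Finite G] {T K L : Subgroup G} {r z : G}

/-- `T` moves `r` inside `r ⟨z⟩`, and the fusion of `r` and `z` is controlled by `L`, which omits `K`. -/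
structure SplitData (T K L : Subgroup G) (r z : G) : Prop where
  hT : IsPGroup 2 T
  hK : IsJComponent T K
  hTK : T ≤ normalizer (K : Set G)
  hWT : wOf K ≤ T
  hKC : K ≤ normalizer ((T ⊓ centralizer (wOf K : Set G) : Subgroup G) : Set G)
  hr : r ∈ T
  hr2 : r * r = 1
  hzc : ∀ t ∈ T, Commute t z
  hz2 : z * z = 1
  hz1 : z ≠ 1
  hmove : ∀ t ∈ T, t * r * t⁻¹ = r ∨ t * r * t⁻¹ = r * z
  hρL : ∀ ρ ∈ K, ρ ∉ pCoreOf 2 K → ρ ∉ L
  hzL : centralizer ({z} : Set G) ≤ L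

theorem SplitData.not_commute (d : SplitData T K L r z) {ρ : G} (hρ : ρ ∈ K) (hn : ρ ∉ pCoreOf 2 K) :
    ¬ Commute ρ z := fun h => d.hρL ρ hρ hn (d.hzL (mem_centralizer_singleton_iff.2 h.eq))

/-- If `r` moves `W`, then `T ∩ C(W)` splits over `W`. -/
theorem SplitData.split (d : SplitData T K L r z) (hrW : r ∉ centralizer (wOf K : Set G)) :
    z ∈ wOf K ⊓ centralizer (thompsonSubgroupOf 2 T : Set G) ∧
      ∃ ρ ∈ K, Odd (orderOf ρ) ∧ ρ ∉ pCoreOf 2 K ∧ ∀ c ∈ T ⊓ centralizer (wOf K : Set G),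
        ∃ w ∈ wOf K, ∃ c₀ ∈ T ⊓ centralizer (wOf K : Set G), Commute ρ c₀ ∧ Commute r c₀ ∧ c = w * c₀ := by
  set C := T ⊓ centralizer (wOf K : Set G) with hC
  obtain ⟨r₀, hr₀, hr₀1⟩ := fixed_exists d.hT d.hK
  obtain ⟨ρ, hρ, ho, hρn, hρ3, hρinv⟩ := exists_inverted d.hT d.hK d.hTK d.hr d.hr2 hrW
  have hri : r⁻¹ = r := inv_eq_of_mul_eq_one_right d.hr2
  have hzi : z⁻¹ = z := inv_eq_of_mul_eq_one_right d.hz2
  -- `z` is the fixed point of `W`
  obtain ⟨y, hy, hyR⟩ : ∃ y ∈ wOf K, y ∉ wOf K ⊓ centralizer (thompsonSubgroupOf 2 T : Set G) := by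
    by_contra hc
    push Not at hc
    have := card_le_of_le (show wOf K ≤ _ from hc)
    rw [card_fixed d.hT d.hK, d.hK.2.2.2.2.1] at this
    omega
  have hry : r * y * r⁻¹ = r₀ * y := T_moves d.hT d.hK d.hTK d.hr hrW hr₀ hr₀1 hy hyR
  have hzr₀ : z = r₀ := by
    rcases d.hmove y (d.hWT hy) with h | h
    · have : r * y * r⁻¹ = y := by
        have h' := mul_inv_eq_iff_eq_mul.1 h
        rw [← h', mul_inv_cancel_right]
      exact absurd (mul_eq_right.1 (hry.symm.trans this)) hr₀1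
    · have e1 : z = r * y * r⁻¹ * y⁻¹ := by
        calc z = r⁻¹ * (y * r * y⁻¹) := by rw [h]; group
          _ = r * y * r⁻¹ * y⁻¹ := by rw [hri]; group
      rw [e1, hry, mul_inv_cancel_right]
  -- commutators with `r`
  have hrc : ∀ c ∈ T, r * c * r⁻¹ = c ∨ r * c * r⁻¹ = c * z := by
    intro c hc
    rcases d.hmove c⁻¹ (T.inv_mem hc) with h | h
    · left
      calc r * c * r⁻¹ = c * (c⁻¹ * r * c⁻¹⁻¹) * r⁻¹ := by group
        _ = c := by rw [h]; group
    · right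
      calc r * c * r⁻¹ = c * (c⁻¹ * r * c⁻¹⁻¹) * r⁻¹ := by group
        _ = c * (r * z * r⁻¹) := by rw [h]; group
        _ = c * z := by rw [(d.hzc r d.hr).eq, mul_inv_cancel_right]
  have hzW : z ∈ wOf K := hzr₀ ▸ hr₀.1
  -- `ρ` moves `C` only inside `W`
  have hρN : ρ ∈ normalizer (C : Set G) := d.hKC hρ
  have hρW : ρ ∈ normalizer (wOf K : Set G) := normalizer_le_normalizer_W (le_normalizer hρ)
  have hrN : r ∈ normalizer (wOf K : Set G) := normalizer_le_normalizer_W (d.hTK d.hr)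
  have hrρ : ρ * r * ρ⁻¹ = r * ρ := by
    calc ρ * r * ρ⁻¹ = r * (r⁻¹ * ρ * r) * ρ⁻¹ := by group
      _ = r * (r * ρ * r⁻¹) * ρ⁻¹ := by rw [hri]
      _ = r * (ρ⁻¹ * ρ⁻¹) := by rw [hρinv]; group
      _ = r * ρ := by
        congr 1
        calc ρ⁻¹ * ρ⁻¹ = ρ⁻¹ * ρ⁻¹ * (ρ * ρ * ρ) := by rw [hρ3, mul_one]
          _ = ρ := by group
  have hdec : ∀ c ∈ C, c⁻¹ * (ρ * c * ρ⁻¹) ∈ wOf K := by
    intro c hc
    have hc' : ρ⁻¹ * c * ρ ∈ C := (mem_normalizer_iff''.1 hρN c).1 hc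
    obtain ⟨w', hw', e⟩ : ∃ w' ∈ wOf K, (r * ρ) * c * (r * ρ)⁻¹ = c * w' := by
      rw [← hrρ]
      rcases hrc _ hc'.1 with h | h
      · refine ⟨1, one_mem _, ?_⟩
        calc ρ * r * ρ⁻¹ * c * (ρ * r * ρ⁻¹)⁻¹ = ρ * (r * (ρ⁻¹ * c * ρ) * r⁻¹) * ρ⁻¹ := by group
          _ = c * 1 := by rw [h]; group
      · refine ⟨ρ * z * ρ⁻¹, (mem_normalizer_iff.1 hρW z).1 hzW, ?_⟩
        calc ρ * r * ρ⁻¹ * c * (ρ * r * ρ⁻¹)⁻¹ = ρ * (r * (ρ⁻¹ * c * ρ) * r⁻¹) * ρ⁻¹ := by group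
          _ = c * (ρ * z * ρ⁻¹) := by rw [h]; group
    have e2 : ρ * c * ρ⁻¹ = (r * c * r⁻¹) * (r * w' * r⁻¹) := by
      calc ρ * c * ρ⁻¹ = r⁻¹ * ((r * ρ) * c * (r * ρ)⁻¹) * r := by group
        _ = r * (c * w') * r⁻¹ := by rw [e, hri]
        _ = (r * c * r⁻¹) * (r * w' * r⁻¹) := by group
    have hw'' : r * w' * r⁻¹ ∈ wOf K := (mem_normalizer_iff.1 hrN w').1 hw'
    rcases hrc c hc.1 with h | h <;> rw [e2, h]
    · rw [inv_mul_cancel_left]; exact hw''
    · rw [mul_assoc, inv_mul_cancel_left]; exact mul_mem hzW hw''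
  have hsplit : ∀ c ∈ C, ∃ w ∈ wOf K, ∃ c₀ ∈ C, Commute ρ c₀ ∧ Commute r c₀ ∧ c = w * c₀ := by
    intro c hc
    obtain ⟨w, hw, hwc⟩ := decomp d.hK hρ ho hρn hc.2 (hdec c hc)
    have hwC : w ∈ C := ⟨d.hWT hw, mem_centralizer_iff.2 fun v hv => (W_commute hv hw).eq⟩
    refine ⟨w, hw, w⁻¹ * c, C.mul_mem (C.inv_mem hwC) hc, hwc, ?_, (mul_inv_cancel_left w c).symm⟩
    rcases hrc _ (T.mul_mem (T.inv_mem hwC.1) hc.1) with h | h
    · exact mul_inv_eq_iff_eq_mul.1 h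
    · exfalso
      have h1 : Commute ρ⁻¹ (w⁻¹ * c * z) := by
        have := hwc.map (MulAut.conj r)
        rwa [MulAut.conj_apply, MulAut.conj_apply, hρinv, h] at this
      have h2 := hwc.inv_right.mul_right (Commute.inv_left_iff.1 h1)
      rw [inv_mul_cancel_left] at h2
      exact d.not_commute hρ hρn h2
  exact ⟨hzr₀ ▸ hr₀, ρ, hρ, ho, hρn, hsplit⟩

/-- `r` centralizes `W` when some element fixing `r` and `z` moves `T ∩ C(W)`. -/
theorem SplitData.r_fixes_W (d : SplitData T K L r z) {n : G} (hn : n ∈ normalizer (T : Set G))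
    (hnr : n * r * n⁻¹ = r) (hnz : n * z * n⁻¹ = z)
    (hnC : n ∉ normalizer ((T ⊓ centralizer (wOf K : Set G) : Subgroup G) : Set G)) :
    r ∈ centralizer (wOf K : Set G) := by
  by_contra hrW
  set C := T ⊓ centralizer (wOf K : Set G) with hC
  obtain ⟨hzR, ρ, hρ, ho, hρn, hsplit⟩ := d.split hrW
  have hz : z ∈ wOf K ⊓ centralizer (thompsonSubgroupOf 2 T : Set G) := hzR
  have hz1 : z ≠ 1 := d.hz1
  have hzW : z ∈ wOf K := hzR.1
  have hri : r⁻¹ = r := inv_eq_of_mul_eq_one_right d.hr2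
  obtain ⟨y, hy, hyR⟩ : ∃ y ∈ wOf K, y ∉ wOf K ⊓ centralizer (thompsonSubgroupOf 2 T : Set G) := by
    by_contra hc
    push Not at hc
    have := card_le_of_le (show wOf K ≤ _ from hc)
    rw [card_fixed d.hT d.hK, d.hK.2.2.2.2.1] at this
    omega
  have hry : r * y * r⁻¹ = z * y := T_moves d.hT d.hK d.hTK d.hr hrW hz hz1 hy hyR
  -- an element of the conjugate of `W` moved by `r`
  set x := n * y * n⁻¹ with hx
  have hxT : x ∈ T := (mem_normalizer_iff.1 hn y).1 (d.hWT hy)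
  have hx2 : x * x = 1 := by
    calc x * x = n * (y * y) * n⁻¹ := by rw [hx]; group
      _ = 1 := by rw [← pow_two, W_pow hy]; group
  have hrx : r * x * r⁻¹ = z * x := by
    calc r * x * r⁻¹ = (n * r * n⁻¹) * (n * y * n⁻¹) * (n * r * n⁻¹)⁻¹ := by rw [hnr]
      _ = n * (r * y * r⁻¹) * n⁻¹ := by group
      _ = (n * z * n⁻¹) * (n * y * n⁻¹) := by rw [hry]; group
      _ = z * x := by rw [hnz]
  have hrx' : ¬ Commute r x := fun h => d.hz1 (by
    rw [h.eq, mul_inv_cancel_right] at hrx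
    exact mul_eq_right.1 hrx.symm)
  have hcx : ∀ c ∈ T, c * x * c⁻¹ = x ∨ c * x * c⁻¹ = z * x := by
    intro c hc
    have ht : n⁻¹ * c * n ∈ T := (mem_normalizer_iff''.1 hn c).1 hc
    have e : c * x * c⁻¹ = n * ((n⁻¹ * c * n) * y * (n⁻¹ * c * n)⁻¹) * n⁻¹ := by rw [hx]; group
    by_cases htW : n⁻¹ * c * n ∈ centralizer (wOf K : Set G)
    · left
      rw [e, ← mem_centralizer_iff.1 htW y hy, mul_inv_cancel_right]
    · right
      rw [e, T_moves d.hT d.hK d.hTK ht htW hz hz1 hy hyR, hx]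
      calc n * (z * y) * n⁻¹ = (n * z * n⁻¹) * (n * y * n⁻¹) := by group
        _ = z * (n * y * n⁻¹) := by rw [hnz]
  have hCx : ∀ c ∈ C, Commute c x := by
    by_cases hxC : x ∈ centralizer (wOf K : Set G)
    · obtain ⟨v, hv, c₀, hc₀, hρc₀, -, hxe⟩ := hsplit x ⟨hxT, hxC⟩
      intro c hc
      obtain ⟨w, hw, c₁, hc₁, hρc₁, -, rfl⟩ := hsplit c hc
      refine Commute.mul_left (mem_centralizer_iff.1 hxC w hw) ?_
      rcases hcx c₁ hc₁.1 with h | h
      · exact mul_inv_eq_iff_eq_mul.1 h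
      · exfalso
        have hc₁v : c₁ * v * c₁⁻¹ = v := by
          rw [← mem_centralizer_iff.1 hc₁.2 v hv, mul_inv_cancel_right]
        have h2 : c₁ * c₀ * c₁⁻¹ = z * c₀ := by
          apply mul_left_cancel (a := v)
          calc v * (c₁ * c₀ * c₁⁻¹) = (c₁ * v * c₁⁻¹) * (c₁ * c₀ * c₁⁻¹) := by rw [hc₁v]
            _ = c₁ * x * c₁⁻¹ := by rw [hxe]; group
            _ = z * (v * c₀) := by rw [h, hxe]
            _ = v * (z * c₀) := by rw [← mul_assoc, (W_commute hzW hv).eq, mul_assoc]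
        have h3 : Commute ρ (z * c₀) := h2 ▸ (hρc₁.mul_right hρc₀).mul_right hρc₁.inv_right
        have h4 := h3.mul_right hρc₀.inv_right
        rw [mul_inv_cancel_right] at h4
        exact d.not_commute hρ hρn h4
    · exfalso
      have hm : r⁻¹ * x ∈ C :=
        ⟨T.mul_mem (T.inv_mem d.hr) hxT, T_mul_mem d.hT d.hK d.hTK d.hr hxT hrW hxC⟩
      obtain ⟨v, hv, c₀, hc₀, hρc₀, hrc₀, hve⟩ := hsplit _ hm
      have hxe : x = r * v * c₀ := by
        rw [mul_assoc, ← hve, mul_inv_cancel_left]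
      have hc₀v : Commute v c₀ := mem_centralizer_iff.1 hc₀.2 v hv
      have hvr : v * r = z * r * v := by
        apply mul_right_cancel (b := c₀)
        calc v * r * c₀ = v * c₀ * r := by rw [mul_assoc, hrc₀.eq, mul_assoc]
          _ = r⁻¹ * x * r := by rw [hve]
          _ = r * x * r⁻¹ := by rw [hri]
          _ = z * r * v * c₀ := by rw [hrx, hxe]; group
      have hsq : z * (c₀ * c₀) = 1 := by
        rw [← hx2, hxe]
        calc z * (c₀ * c₀) = z * (r * r) * (v * v) * (c₀ * c₀) := by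
              rw [d.hr2, ← pow_two v, W_pow hv, mul_one, mul_one]
          _ = r * (z * r * v) * v * (c₀ * c₀) := by
              rw [← mul_assoc z r r, ← (d.hzc r d.hr).eq]
              simp only [mul_assoc]
              rw [← mul_assoc z r, ← (d.hzc r d.hr).eq, mul_assoc]
          _ = r * v * r * (v * c₀) * c₀ := by rw [← hvr]; simp only [mul_assoc]
          _ = r * v * (r * c₀) * v * c₀ := by rw [hc₀v.eq]; simp only [mul_assoc]
          _ = r * v * c₀ * (r * v * c₀) := by rw [hrc₀.eq]; simp only [mul_assoc]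
      refine d.not_commute hρ hρn ?_
      have hze : z = (c₀ * c₀)⁻¹ := eq_inv_of_mul_eq_one_left hsq
      rw [hze]
      exact (hρc₀.mul_right hρc₀).inv_right
  -- hence `n` normalizes `C`
  refine hnC (mem_normalizer_fintype fun c hc => ?_)
  have hm : n * c * n⁻¹ ∈ T := (mem_normalizer_iff.1 hn c).1 hc.1
  refine ⟨hm, ?_⟩
  by_contra hmW
  have hcm : Commute (n * c * n⁻¹) x := by
    have h : Commute c y := (mem_centralizer_iff.1 hc.2 y hy).symm
    simpa [hx, MulAut.conj_apply] using h.map (MulAut.conj n)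
  have h1 : r⁻¹ * (n * c * n⁻¹) ∈ C :=
    ⟨T.mul_mem (T.inv_mem d.hr) hm, T_mul_mem d.hT d.hK d.hTK d.hr hm hrW hmW⟩
  have h2 := hcm.mul_left (hCx _ h1).inv_left
  rw [show n * c * n⁻¹ * (r⁻¹ * (n * c * n⁻¹))⁻¹ = r by group] at h2
  exact hrx' h2

omit [Finite G] in
/-- The elements of a commutative group whose commutator with `a` lies in a given subgroup. -/
def commSub (a : G) (P U : Subgroup G) (hP : ∀ x ∈ P, ∀ y ∈ P, Commute x y) (hU : U ≤ P) : Subgroup G where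
  carrier := {p | p ∈ P ∧ a * p * a⁻¹ * p⁻¹ ∈ U}
  one_mem' := ⟨one_mem _, by simp⟩
  mul_mem' := by
    rintro p q ⟨hp, hp'⟩ ⟨hq, hq'⟩
    refine ⟨mul_mem hp hq, ?_⟩
    have e : a * (p * q) * a⁻¹ * (p * q)⁻¹ = (a * p * a⁻¹ * p⁻¹) * (a * q * a⁻¹ * q⁻¹) := by
      calc a * (p * q) * a⁻¹ * (p * q)⁻¹
          = (a * p * a⁻¹ * p⁻¹) * (p * (a * q * a⁻¹ * q⁻¹) * p⁻¹) := by group
        _ = _ := by rw [(hP p hp _ (hU hq')).eq, mul_inv_cancel_right]
    rw [e]
    exact mul_mem hp' hq'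
  inv_mem' := by
    rintro p ⟨hp, hp'⟩
    refine ⟨inv_mem hp, ?_⟩
    have e : a * p⁻¹ * a⁻¹ * p⁻¹⁻¹ = (a * p * a⁻¹ * p⁻¹)⁻¹ := by
      calc a * p⁻¹ * a⁻¹ * p⁻¹⁻¹ = p⁻¹ * (a * p * a⁻¹ * p⁻¹)⁻¹ * p := by group
        _ = _ := by rw [(hP p⁻¹ (inv_mem hp) _ (inv_mem (hU hp'))).eq]; group
    rw [e]
    exact inv_mem hp'

/-- Bound for an elementary abelian subgroup centralized by a piece of a member of `𝒜(T)`. -/
theorem offender_bound {A B P : Subgroup G} (hA : IsMaxEAIn 2 T A) (hBA : B ≤ A)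
    (hP : P ≤ T) (hPe : IsElementaryAbelian 2 P) (hBP : ∀ b ∈ B, ∀ p ∈ P, Commute b p) :
    Nat.card P * Nat.card B ≤ Nat.card ↥(P ⊓ centralizer (A : Set G)) * Nat.card A := by
  have he : IsElementaryAbelian 2 (P ⊔ B) := by
    rw [← closure_eq P, ← closure_eq B, ← Subgroup.closure_union]
    refine Thompson.isEA_closure ?_ ?_
    · rintro a (ha | ha) b (hb | hb)
      · exact Thompson.isEA_commute hPe ha hb
      · exact (hBP b hb a ha).symm
      · exact hBP a ha b hb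
      · exact Thompson.isEA_commute hA.2.1 (hBA ha) (hBA hb)
    · rintro a (ha | ha)
      · exact hPe.2 a ha
      · exact hA.2.1.2 a (hBA ha)
  refine (Timmesfeld.card_mul_card_le P B).trans (Nat.mul_le_mul ?_ ?_)
  · exact card_le_of_le fun x hx => ⟨hx.1, mem_centralizer_iff.2 fun a ha =>
      (Thompson.isEA_commute hA.2.1 ha (hBA hx.2)).eq⟩
  · exact hA.2.2 _ (sup_le hP (hBA.trans hA.1)) he

variable {H : Subgroup G}

/-- The offender count: `r` and its conjugate agree modulo `W H`. -/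
theorem SplitData.mul_conj_mem (d : SplitData T K L r z) (hHT : H ≤ T ⊓ centralizer (T : Set G))
    (hHK : H ≤ centralizer (K : Set G)) (hH2 : ∀ h ∈ H, h * h = 1) (hzE : z ∈ wOf K ⊔ H)
    (hrW : r ∈ centralizer (wOf K : Set G)) {A : Subgroup G} (hA : IsMaxEAIn 2 T A) {a : G}
    (haA : a ∈ A) (haW : a ∉ centralizer (wOf K : Set G)) {ρ : G} (hρ : ρ ∈ K) (hρn : ρ ∉ pCoreOf 2 K)
    (hρ3 : ρ * ρ * ρ = 1) (hρinv : a * ρ * a⁻¹ = ρ⁻¹) : r * (ρ * r * ρ⁻¹) ∈ wOf K ⊔ H := by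
  set C := T ⊓ centralizer (wOf K : Set G) with hC
  set E₀ := wOf K ⊔ H with hE₀
  have haT : a ∈ T := hA.1 haA
  have ha2 : a * a = 1 := by rw [← pow_two]; exact hA.2.1.2 a haA
  have hai : a⁻¹ = a := inv_eq_of_mul_eq_one_right ha2
  have hri : r⁻¹ = r := inv_eq_of_mul_eq_one_right d.hr2
  have hρi : ρ⁻¹ = ρ * ρ := inv_eq_of_mul_eq_one_right (by rw [← mul_assoc]; exact hρ3)
  obtain ⟨r₀, hr₀, hr₀1⟩ := fixed_exists d.hT d.hK
  have hρC : ρ ∈ normalizer (C : Set G) := d.hKC hρ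
  have hρW : ρ ∈ normalizer (wOf K : Set G) := normalizer_le_normalizer_W (le_normalizer hρ)
  have hE₀C : E₀ ≤ C := by
    refine sup_le (fun w hw => ⟨d.hWT hw, mem_centralizer_iff.2 fun v hv => (W_commute hv hw).eq⟩)
      fun h hh => ⟨(hHT hh).1, mem_centralizer_iff.2 fun v hv => mem_centralizer_iff.1 (hHT hh).2 v (d.hWT hv)⟩
  have hE₀c : E₀ ≤ centralizer (C : Set G) := sup_le
    (fun w hw => mem_centralizer_iff.2 fun c hc => (mem_centralizer_iff.1 hc.2 w hw).symm)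
    (fun h hh => mem_centralizer_iff.2 fun c hc => mem_centralizer_iff.1 (hHT hh).2 c hc.1)
  have hcE : ∀ {c e}, c ∈ C → e ∈ E₀ → Commute c e := fun hc he => mem_centralizer_iff.1 (hE₀c he) _ hc
  have hWH : ∀ {g : G}, g ∈ normalizer (wOf K : Set G) → (∀ h ∈ H, Commute g h) →
      ∀ e ∈ E₀, g * e * g⁻¹ ∈ E₀ := by
    intro g hg hgH e he
    suffices hle : E₀ ≤ E₀.comap (MulAut.conj g).toMonoidHom from hle he
    refine sup_le (fun w hw => mem_sup_left ((mem_normalizer_iff.1 hg w).1 hw)) fun h hh => ?_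
    show g * h * g⁻¹ ∈ E₀
    rw [(hgH h hh).eq, mul_inv_cancel_right]
    exact mem_sup_right hh
  have hρH : ∀ h ∈ H, Commute ρ h := fun h hh => mem_centralizer_iff.1 (hHK hh) ρ hρ
  have hE2 : ∀ e ∈ E₀, e * e = 1 := by
    have hEe : IsElementaryAbelian 2 E₀ := by
      rw [hE₀, ← closure_eq (wOf K), ← closure_eq H, ← Subgroup.closure_union]
      refine Thompson.isEA_closure ?_ ?_
      · intro x hx y hy
        have hmem : ∀ {u}, u ∈ (wOf K : Set G) ∪ H → u ∈ E₀ := fun hu =>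
          hu.elim (fun h => mem_sup_left h) fun h => mem_sup_right h
        exact hcE (hE₀C (hmem hx)) (hmem hy)
      · rintro x (hx | hx)
        · exact W_pow hx
        · rw [pow_two]; exact hH2 x hx
    exact fun e he => by rw [← pow_two]; exact hEe.2 e he
  -- the conjugates of `r` and `z`
  set r' := ρ * r * ρ⁻¹ with hr'
  set r'' := ρ⁻¹ * r * ρ with hr''
  set z' := ρ * z * ρ⁻¹ with hz'
  set z'' := ρ⁻¹ * z * ρ with hz''
  have hrC : r ∈ C := ⟨d.hr, hrW⟩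
  have hr'C : r' ∈ C := (mem_normalizer_iff.1 hρC r).1 hrC
  have hr''C : r'' ∈ C := (mem_normalizer_iff''.1 hρC r).1 hrC
  have hz'E : z' ∈ E₀ := hWH hρW hρH z hzE
  have hz''E : z'' ∈ E₀ := by
    have := hWH (inv_mem hρW) (fun h hh => (hρH h hh).inv_left) z hzE
    rwa [inv_inv] at this
  have hzz' : z' ≠ z := fun h => d.not_commute hρ hρn (mul_inv_eq_iff_eq_mul.1 h)
  have hz'1 : z' ≠ 1 := fun h => d.hz1 (conj_eq_one_iff.1 h)
  have hconjC : ∀ c ∈ C, (c * r' * c⁻¹ = r' ∨ c * r' * c⁻¹ = r' * z') := by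
    intro c hc
    have hc' : ρ⁻¹ * c * ρ ∈ C := (mem_normalizer_iff''.1 hρC c).1 hc
    rcases d.hmove _ hc'.1 with h | h
    · left
      calc c * r' * c⁻¹ = ρ * (ρ⁻¹ * c * ρ * r * (ρ⁻¹ * c * ρ)⁻¹) * ρ⁻¹ := by rw [hr']; group
        _ = r' := by rw [h]
    · right
      calc c * r' * c⁻¹ = ρ * (ρ⁻¹ * c * ρ * r * (ρ⁻¹ * c * ρ)⁻¹) * ρ⁻¹ := by rw [hr']; group
        _ = r' * z' := by rw [h, hr', hz']; group
  have hrr' : Commute r r' := by
    rcases d.hmove r' hr'C.1 with h | h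
    · exact (show Commute r' r from mul_inv_eq_iff_eq_mul.1 h).symm
    · exfalso
      have h' : r' * r * r'⁻¹ * r⁻¹ = z := by
        rw [h, (d.hzc r d.hr).eq, mul_inv_cancel_right]
      have e : r * r' * r⁻¹ = z * r' := by
        calc r * r' * r⁻¹ = (r' * r * r'⁻¹ * r⁻¹)⁻¹ * r' := by group
          _ = z * r' := by rw [h', inv_eq_of_mul_eq_one_right d.hz2]
      rw [← (d.hzc r' hr'C.1).eq] at e
      rcases hconjC r hrC with h2 | h2 <;> rw [e] at h2
      · exact d.hz1 (mul_eq_left.1 h2)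
      · exact hzz' (mul_left_cancel h2).symm
  have hρr' : ρ * r' * ρ⁻¹ = r'' := by
    calc ρ * r' * ρ⁻¹ = (ρ * ρ) * r * (ρ * ρ)⁻¹ := by rw [hr']; group
      _ = r'' := by rw [← hρi, inv_inv]
  have hρr'' : ρ * r'' * ρ⁻¹ = r := by rw [hr'']; group
  have hr'r'' : Commute r' r'' := by
    have := hrr'.map (MulAut.conj ρ)
    rwa [MulAut.conj_apply, MulAut.conj_apply, hρr'] at this
  have hr''r : Commute r'' r := by
    have := hr'r''.map (MulAut.conj ρ)
    rwa [MulAut.conj_apply, MulAut.conj_apply, hρr', hρr''] at this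
  have har : a * r' * a⁻¹ = ρ⁻¹ * (a * r * a⁻¹) * ρ := by
    calc a * r' * a⁻¹ = (a * ρ * a⁻¹) * (a * r * a⁻¹) * (a * ρ * a⁻¹)⁻¹ := by rw [hr']; group
      _ = ρ⁻¹ * (a * r * a⁻¹) * ρ := by rw [hρinv, inv_inv]
  have haz' : a * z' * a⁻¹ = z'' := by
    calc a * z' * a⁻¹ = (a * ρ * a⁻¹) * (a * z * a⁻¹) * (a * ρ * a⁻¹)⁻¹ := by rw [hz']; group
      _ = z'' := by rw [hρinv, inv_inv, (d.hzc a haT).eq, mul_inv_cancel_right]
  have haE : ∀ e ∈ E₀, a * e * a⁻¹ ∈ E₀ := hWH (normalizer_le_normalizer_W (d.hTK haT))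
    fun h hh => mem_centralizer_iff.1 (hHT hh).2 a haT
  set A₁ := A ⊓ centralizer (wOf K : Set G) with hA₁
  have hA₁C : ∀ {b}, b ∈ A₁ → b ∈ C := fun hb => ⟨hA.1 hb.1, hb.2⟩
  have hAA₁ : Nat.card A ≤ 2 * Nat.card A₁ := by
    have hcov : (A : Set G) ⊆ (A₁ : Set G) ∪ (fun x => a * x) '' (A₁ : Set G) := by
      intro b hb
      by_cases hbW : b ∈ centralizer (wOf K : Set G)
      · exact Or.inl ⟨hb, hbW⟩
      · exact Or.inr ⟨a⁻¹ * b, ⟨A.mul_mem (A.inv_mem haA) hb,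
          T_mul_mem d.hT d.hK d.hTK haT (hA.1 hb) haW hbW⟩, mul_inv_cancel_left a b⟩
    rw [show Nat.card A = (A : Set G).ncard from Nat.card_coe_set_eq _,
      show Nat.card A₁ = (A₁ : Set G).ncard from Nat.card_coe_set_eq _]
    refine le_trans (Set.ncard_le_ncard hcov (Set.toFinite _)) (le_trans (Set.ncard_union_le _ _) ?_)
    have := Set.ncard_image_le (f := fun x => a * x) (s := (A₁ : Set G)) (Set.toFinite _)
    omega
  -- an element of `W` moved by `a`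
  obtain ⟨y, hy, hyR⟩ : ∃ y ∈ wOf K, y ∉ wOf K ⊓ centralizer (thompsonSubgroupOf 2 T : Set G) := by
    by_contra hc
    push Not at hc
    have := card_le_of_le (show wOf K ≤ _ from hc)
    rw [card_fixed d.hT d.hK, d.hK.2.2.2.2.1] at this
    omega
  have hay : ¬ Commute a y := fun h => hyR (T_fixed d.hT d.hK d.hTK haT haW hy h)
  by_contra hv
  set F := closure (insert r (insert (r' * r'') (E₀ : Set G))) with hF
  set P := closure (insert r' (F : Set G)) with hP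
  have hgenF : ∀ x ∈ insert r (insert (r' * r'') (E₀ : Set G)), x ∈ C := by
    rintro x (rfl | rfl | hx)
    exacts [hrC, mul_mem hr'C hr''C, hE₀C hx]
  have hFC : F ≤ C := (closure_le _).2 hgenF
  have hr'2 : r' * r' = 1 := by
    rw [hr']
    calc ρ * r * ρ⁻¹ * (ρ * r * ρ⁻¹) = ρ * (r * r) * ρ⁻¹ := by group
      _ = 1 := by rw [d.hr2]; group
  have hr''2 : r'' * r'' = 1 := by
    rw [hr'']
    calc ρ⁻¹ * r * ρ * (ρ⁻¹ * r * ρ) = ρ⁻¹ * (r * r) * ρ := by group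
      _ = 1 := by rw [d.hr2]; group
  have hFe : IsElementaryAbelian 2 F := by
    refine Thompson.isEA_closure ?_ ?_
    · rintro x (rfl | rfl | hx) y (rfl | rfl | hy)
      exacts [Commute.refl _, hrr'.mul_right hr''r.symm, hcE hrC hy,
        (hrr'.mul_right hr''r.symm).symm, Commute.refl _, hcE (mul_mem hr'C hr''C) hy,
        (hcE hrC hx).symm, (hcE (mul_mem hr'C hr''C) hx).symm, hcE (hE₀C hx) hy]
    · rintro x (rfl | rfl | hx)
      · rw [pow_two, d.hr2]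
      · rw [pow_two]
        calc r' * r'' * (r' * r'') = r' * r'' * (r'' * r') := by rw [hr'r''.eq]
          _ = 1 := by rw [mul_assoc, ← mul_assoc r'' r'', hr''2, one_mul, hr'2]
      · rw [pow_two]; exact hE2 x hx
  have hr'F : ∀ x ∈ F, Commute r' x := by
    have hle : F ≤ centralizer ({r'} : Set G) := by
      refine (closure_le _).2 ?_
      rintro x (rfl | rfl | hx)
      · exact mem_centralizer_singleton_iff.2 hrr'.eq
      · exact mem_centralizer_singleton_iff.2 ((Commute.refl r').mul_right hr'r'').eq.symm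
      · exact mem_centralizer_singleton_iff.2 (hcE hr'C hx).eq.symm
    exact fun x hx => (mem_centralizer_singleton_iff.1 (hle hx)).symm
  have hPC : P ≤ C := (closure_le _).2 (by rintro x (rfl | hx); exacts [hr'C, hFC hx])
  have hPe : IsElementaryAbelian 2 P := by
    refine Thompson.isEA_closure ?_ ?_
    · rintro x (rfl | hx) y (rfl | hy)
      exacts [Commute.refl _, hr'F y hy, (hr'F x hx).symm, Thompson.isEA_commute hFe hx hy]
    · rintro x (rfl | hx)
      · rw [pow_two, hr'2]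
      · exact hFe.2 x hx
  have hE₀F : E₀ ≤ F := fun x hx => subset_closure (Or.inr (Or.inr hx))
  have hrF : r ∈ F := subset_closure (Or.inl rfl)
  have hr23F : r' * r'' ∈ F := subset_closure (Or.inr (Or.inl rfl))
  have hFP : F ≤ P := fun x hx => subset_closure (Or.inr hx)
  have hr'P : r' ∈ P := subset_closure (Or.inl rfl)
  set D := commSub a P E₀ (fun _ hx _ hy => Thompson.isEA_commute hPe hx hy) (hE₀F.trans hFP) with hD
  have har'' : a * r'' * a⁻¹ = ρ * (a * r * a⁻¹) * ρ⁻¹ := by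
    calc a * r'' * a⁻¹ = (a * ρ * a⁻¹)⁻¹ * (a * r * a⁻¹) * (a * ρ * a⁻¹) := by rw [hr'']; group
      _ = ρ * (a * r * a⁻¹) * ρ⁻¹ := by rw [hρinv, inv_inv]
  have hFD : F ≤ D := by
    refine (closure_le _).2 ?_
    rintro x (rfl | rfl | hx)
    · refine ⟨hFP hrF, ?_⟩
      rcases d.hmove a haT with h | h <;> rw [h]
      · rw [mul_inv_cancel]; exact one_mem _
      · rw [(hcE hrC hzE).eq, mul_inv_cancel_right]; exact hzE
    · refine ⟨hFP hr23F, ?_⟩
      have e : a * (r' * r'') * a⁻¹ = (a * r' * a⁻¹) * (a * r'' * a⁻¹) := by group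
      rw [e, har, har'']
      rcases d.hmove a haT with h | h <;> rw [h]
      · rw [← hr', ← hr'', ← hr'r''.eq, mul_inv_cancel]; exact one_mem _
      · have e1 : ρ⁻¹ * (r * z) * ρ = r'' * z'' := by rw [hr'', hz'']; group
        have e2 : ρ * (r * z) * ρ⁻¹ = r' * z' := by rw [hr', hz']; group
        rw [e1, e2]
        have e3 : r'' * z'' * (r' * z') * (r' * r'')⁻¹ = z'' * z' := by
          calc r'' * z'' * (r' * z') * (r' * r'')⁻¹
            = r'' * (z'' * r') * z' * (r' * r'')⁻¹ := by group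
          _ = (r'' * r') * (z'' * z') * (r' * r'')⁻¹ := by
            rw [← (hcE hr'C hz''E).eq]; group
          _ = (r' * r'') * (z'' * z') * (r' * r'')⁻¹ := by rw [hr'r''.eq]
          _ = z'' * z' := by
            rw [(hcE (mul_mem hr'C hr''C) (mul_mem hz''E hz'E)).eq, mul_inv_cancel_right]
        rw [e3]
        exact mul_mem hz''E hz'E
    · exact ⟨hFP (hE₀F hx), mul_mem (haE x hx) (inv_mem hx)⟩
  have hr'D : r' ∉ D := by
    rintro ⟨-, h⟩
    refine hv ?_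
    have h1 : r'' * r' ∈ E₀ := by
      rw [har] at h
      have hr'i : r'⁻¹ = r' := inv_eq_of_mul_eq_one_right hr'2
      rcases d.hmove a haT with h' | h' <;> rw [h', hr'i] at h
      · rwa [← hr''] at h
      · have e1 : ρ⁻¹ * (r * z) * ρ = r'' * z'' := by rw [hr'', hz'']; group
        rw [e1, mul_assoc, ← (hcE hr'C hz''E).eq, ← mul_assoc] at h
        have := mul_mem h (inv_mem hz''E)
        rwa [mul_inv_cancel_right] at this
    have h2 := hWH hρW hρH _ h1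
    rw [show ρ * (r'' * r') * ρ⁻¹ = (ρ * r'' * ρ⁻¹) * (ρ * r' * ρ⁻¹) by group, hρr', hρr''] at h2
    have := mul_mem h2 h1
    rwa [mul_assoc, ← mul_assoc r'' r'', hr''2, one_mul] at this
  have hD_F : ∀ p ∈ P, p ∈ D → p ∈ F := by
    intro p hp hpD
    have hP' : P = zpowers r' ⊔ F := by
      rw [hP, Set.insert_eq, Subgroup.closure_union, ← zpowers_eq_closure, closure_eq]
    rw [hP'] at hp
    obtain ⟨b, hb, f, hf, rfl⟩ := (Core.mem_sup_of_le_normalizer (A := zpowers r') (B := F) (by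
      rw [zpowers_le]
      exact mem_normalizer_fintype fun f hf => by
        rw [(hr'F f hf).eq, mul_inv_cancel_right]; exact hf)).1 hp
    obtain ⟨i, rfl⟩ := hb
    rcases Int.even_or_odd' i with ⟨k, rfl | rfl⟩
    · show r' ^ (2 * k) * f ∈ F
      rw [zpow_mul, show r' ^ (2 : ℤ) = 1 by rw [zpow_two, hr'2], one_zpow, one_mul]
      exact hf
    · exfalso
      have : r' ^ (2 * k + 1) = r' := by
        rw [zpow_add_one, zpow_mul, show r' ^ (2 : ℤ) = 1 by rw [zpow_two, hr'2], one_zpow, one_mul]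
      change r' ^ (2 * k + 1) * f ∈ D at hpD
      rw [this] at hpD
      have := mul_mem hpD (inv_mem (hFD hf))
      rw [mul_inv_cancel_right] at this
      exact hr'D this
  set A₂ := A₁ ⊓ centralizer ({r} : Set G) with hA₂
  set A₃ := A₂ ⊓ centralizer ({r' * r''} : Set G) with hA₃
  have hpair : ∀ c ∈ A₁, (c * r' * c⁻¹ = r' ∧ c * r'' * c⁻¹ = r'') ∨
      (c * r' * c⁻¹ = r' * z' ∧ c * r'' * c⁻¹ = r'' * z'') := by
    intro c hc
    have hca : a * c * a⁻¹ = c := by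
      rw [(Thompson.isEA_commute hA.2.1 haA hc.1).eq, mul_inv_cancel_right]
    have harC : a * r' * a⁻¹ * r''⁻¹ ∈ E₀ := by
      rw [har]
      rcases d.hmove a haT with h | h <;> rw [h]
      · rw [← hr'', mul_inv_cancel]; exact one_mem _
      · rw [show ρ⁻¹ * (r * z) * ρ = r'' * z'' by rw [hr'', hz'']; group,
          (hcE hr''C hz''E).eq, mul_inv_cancel_right]
        exact hz''E
    have key : ∀ q, c * r' * c⁻¹ = r' * q → q ∈ E₀ → c * r'' * c⁻¹ = r'' * (a * q * a⁻¹) := by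
      intro q hq hqE
      have hce := hcE (hA₁C hc) harC
      set e₀ := a * r' * a⁻¹ * r''⁻¹ with he₀
      have hae : a * r' * a⁻¹ = e₀ * r'' := by rw [he₀, inv_mul_cancel_right]
      apply mul_left_cancel (a := e₀)
      calc e₀ * (c * r'' * c⁻¹) = c * (e₀ * r'') * c⁻¹ := by
            rw [show c * (e₀ * r'') * c⁻¹ = (c * e₀ * c⁻¹) * (c * r'' * c⁻¹) by group, hce.eq,
              mul_inv_cancel_right]
        _ = (a * c * a⁻¹) * (a * r' * a⁻¹) * (a * c * a⁻¹)⁻¹ := by rw [hca, hae]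
        _ = a * (c * r' * c⁻¹) * a⁻¹ := by group
        _ = (a * r' * a⁻¹) * (a * q * a⁻¹) := by rw [hq]; group
        _ = e₀ * (r'' * (a * q * a⁻¹)) := by rw [hae]; group
    rcases hconjC c (hA₁C hc) with h | h
    · refine Or.inl ⟨h, ?_⟩
      have := key 1 (by rw [h, mul_one]) (one_mem _)
      rwa [mul_one, mul_inv_cancel, mul_one] at this
    · refine Or.inr ⟨h, ?_⟩
      rw [key z' h hz'E, haz']
  have hz23 : z' * z'' ≠ 1 := by
    intro h
    refine hzz' ?_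
    have e1 : z' = z''⁻¹ := eq_inv_of_mul_eq_one_left h
    have e2 : ρ * z' * ρ⁻¹ = z'' := by
      calc ρ * z' * ρ⁻¹ = (ρ * ρ) * z * (ρ * ρ)⁻¹ := by rw [hz']; group
        _ = z'' := by rw [← hρi, inv_inv]
    have e3 : ρ * z'' * ρ⁻¹ = z := by rw [hz'']; group
    have hz''2 : z''⁻¹ = z'' := inv_eq_of_mul_eq_one_right (hE2 _ hz''E)
    rw [hz''2] at e1
    rw [e1] at e2
    rw [e1, ← e3, e2]
  have hprodc : ∀ c ∈ A₁, c * (r' * r'') * c⁻¹ = r' * r'' ∨
      c * (r' * r'') * c⁻¹ = r' * r'' * (z' * z'') := by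
    intro c hc
    rcases hpair c hc with ⟨h1, h2⟩ | ⟨h1, h2⟩
    · left
      rw [show c * (r' * r'') * c⁻¹ = (c * r' * c⁻¹) * (c * r'' * c⁻¹) by group, h1, h2]
    · right
      rw [show c * (r' * r'') * c⁻¹ = (c * r' * c⁻¹) * (c * r'' * c⁻¹) by group, h1, h2]
      calc r' * z' * (r'' * z'') = r' * (z' * r'') * z'' := by group
        _ = r' * r'' * (z' * z'') := by rw [← (hcE hr''C hz'E).eq]; group
  have hA₃P : ∀ b ∈ A₃, ∀ p ∈ P, Commute b p := by
    intro b hb p hp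
    have hb1 : b ∈ A₁ := hb.1.1
    have hbr : Commute b r := mem_centralizer_singleton_iff.1 hb.1.2
    have hb23 : Commute b (r' * r'') := mem_centralizer_singleton_iff.1 hb.2
    have hbr' : Commute b r' := by
      rcases hpair b hb1 with ⟨h1, -⟩ | ⟨h1, h2⟩
      · exact mul_inv_eq_iff_eq_mul.1 h1
      · exfalso
        rcases hprodc b hb1 with h | h
        · have : r' * z' * (r'' * z'') = r' * r'' := by
            rw [← h1, ← h2, ← h]; group
          refine hz23 (mul_left_cancel (a := r' * r'') ?_)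
          rw [mul_one]
          conv_rhs => rw [← this]
          calc r' * r'' * (z' * z'') = r' * (r'' * z') * z'' := by group
            _ = _ := by rw [(hcE hr''C hz'E).eq]; group
        · rw [hb23.eq, mul_inv_cancel_right] at h
          exact hz23 (mul_eq_left.1 h.symm)
    have hle : P ≤ centralizer ({b} : Set G) := by
      refine (closure_le _).2 ?_
      rintro x (rfl | hx)
      · exact mem_centralizer_singleton_iff.2 hbr'.eq.symm
      · refine (closure_le _).2 ?_ hx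
        rintro x (rfl | rfl | hx)
        · exact mem_centralizer_singleton_iff.2 hbr.eq.symm
        · exact mem_centralizer_singleton_iff.2 hb23.eq.symm
        · exact mem_centralizer_singleton_iff.2 (hcE (hA₁C hb1) hx).eq.symm
    exact (mem_centralizer_singleton_iff.1 (hle hp)).symm
  have hbound := offender_bound hA
    ((inf_le_left.trans inf_le_left).trans inf_le_left : A₃ ≤ A) (hPC.trans inf_le_left) hPe hA₃P
  -- the chain
  set F₁ := F ⊓ centralizer (A₁ : Set G) with hF₁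
  set F₂ := F ⊓ centralizer (A₂ : Set G) with hF₂
  have hc0 : 2 * Nat.card ↥(P ⊓ centralizer (A : Set G)) ≤ Nat.card F₁ := by
    refine two_mul_card_le (fun p hp => ⟨hD_F p hp.1 ⟨hp.1, ?_⟩, centralizer_le
      (fun x hx => hx.1 : (A₁ : Set G) ⊆ A) hp.2⟩)
      (show y ∈ F₁ from ⟨hE₀F (mem_sup_left hy), mem_centralizer_iff.2 fun c hc =>
        (mem_centralizer_iff.1 hc.2 y hy).symm⟩) fun h => hay (mem_centralizer_iff.1 h.2 a haA)
    rw [mem_centralizer_iff.1 hp.2 a haA, mul_inv_cancel_right, mul_inv_cancel]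
    exact one_mem _
  have hc1 : Nat.card A₁ * Nat.card F₁ ≤ Nat.card A₂ * Nat.card F₂ := by
    by_cases h : A₁ ≤ A₂
    · exact Nat.mul_le_mul (card_le_of_le h) (card_le_of_le (inf_le_inf_left _
        (centralizer_le (fun x hx => hx.1 : (A₂ : Set G) ⊆ A₁))))
    · obtain ⟨c, hc, hcn⟩ := SetLike.not_le_iff_exists.1 h
      have h1 := card_le_two_centralizer (A := A₁) (p := r) (q := r * z) fun x hx => d.hmove x (hA₁C hx).1
      have h2 := two_mul_card_le (inf_le_inf_left _ (centralizer_le (fun x hx => hx.1 : (A₂ : Set G) ⊆ A₁)) :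
          F₁ ≤ F₂) (show r ∈ F₂ from ⟨hrF, mem_centralizer_iff.2 fun x hx =>
            mem_centralizer_singleton_iff.1 hx.2⟩)
        (fun h => hcn ⟨hc, mem_centralizer_singleton_iff.2 (mem_centralizer_iff.1 h.2 c hc)⟩)
      calc Nat.card A₁ * Nat.card F₁ ≤ 2 * Nat.card A₂ * Nat.card F₁ := Nat.mul_le_mul_right _ h1
        _ = Nat.card A₂ * (2 * Nat.card F₁) := by ring
        _ ≤ _ := Nat.mul_le_mul_left _ h2
  have hc2 : Nat.card A₂ * Nat.card F₂ ≤ Nat.card A₃ * Nat.card F := by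
    by_cases h : A₂ ≤ A₃
    · exact Nat.mul_le_mul (card_le_of_le h) (card_le_of_le inf_le_left)
    · obtain ⟨c, hc, hcn⟩ := SetLike.not_le_iff_exists.1 h
      have h1 := card_le_two_centralizer (A := A₂) (p := r' * r'') fun x hx => hprodc x hx.1
      have h2 := two_mul_card_le (inf_le_left : F₂ ≤ F) hr23F
        (fun h => hcn ⟨hc, mem_centralizer_singleton_iff.2 (mem_centralizer_iff.1 h.2 c hc)⟩)
      calc Nat.card A₂ * Nat.card F₂ ≤ 2 * Nat.card A₃ * Nat.card F₂ := Nat.mul_le_mul_right _ h1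
        _ = Nat.card A₃ * (2 * Nat.card F₂) := by ring
        _ ≤ _ := Nat.mul_le_mul_left _ h2
  have hc3 : 2 * Nat.card F ≤ Nat.card P := two_mul_card_le hFP hr'P fun h => hr'D (hFD h)
  have hp1 := Nat.card_pos (α := ↥(P ⊓ centralizer (A : Set G)))
  have hp2 := Nat.card_pos (α := ↥A₁)
  have e1 : 4 * (Nat.card A₁ * Nat.card ↥(P ⊓ centralizer (A : Set G))) ≤ Nat.card P * Nat.card A₃ := by
    calc 4 * (Nat.card A₁ * Nat.card ↥(P ⊓ centralizer (A : Set G)))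
        = 2 * (Nat.card A₁ * (2 * Nat.card ↥(P ⊓ centralizer (A : Set G)))) := by ring
      _ ≤ 2 * (Nat.card A₁ * Nat.card F₁) := Nat.mul_le_mul_left _ (Nat.mul_le_mul_left _ hc0)
      _ ≤ 2 * (Nat.card A₃ * Nat.card F) := Nat.mul_le_mul_left _ (hc1.trans hc2)
      _ = Nat.card A₃ * (2 * Nat.card F) := by ring
      _ ≤ Nat.card A₃ * Nat.card P := Nat.mul_le_mul_left _ hc3
      _ = _ := mul_comm _ _
  have e2 := e1.trans (hbound.trans (Nat.mul_le_mul_left _ hAA₁))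
  nlinarith [Nat.mul_pos hp1 hp2]


/-- `T ∩ C(W)` centralizes `r`. -/
theorem SplitData.centralized (d : SplitData T K L r z) (hHT : H ≤ T ⊓ centralizer (T : Set G))
    (hHK : H ≤ centralizer (K : Set G)) (hH2 : ∀ h ∈ H, h * h = 1) (hzE : z ∈ wOf K ⊔ H)
    (hrW : r ∈ centralizer (wOf K : Set G)) {c : G} (hc : c ∈ T ⊓ centralizer (wOf K : Set G)) :
    Commute c r := by
  obtain ⟨A, hA, hAW⟩ := exists_moving d.hK
  obtain ⟨a, haA, haW⟩ := SetLike.not_le_iff_exists.1 hAW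
  obtain ⟨ρ, hρ, ho, hρn, hρ3, hρinv⟩ := exists_inverted d.hT d.hK d.hTK (hA.1 haA)
    (by rw [← pow_two]; exact hA.2.1.2 a haA) haW
  have hv := d.mul_conj_mem hHT hHK hH2 hzE hrW hA haA haW hρ hρn hρ3 hρinv
  set v := r * (ρ * r * ρ⁻¹) with hvdef
  have hEC : wOf K ⊔ H ≤ centralizer ((T ⊓ centralizer (wOf K : Set G) : Subgroup G) : Set G) := sup_le
    (fun w hw => mem_centralizer_iff.2 fun c hc => (mem_centralizer_iff.1 hc.2 w hw).symm)
    (fun h hh => mem_centralizer_iff.2 fun c hc => mem_centralizer_iff.1 (hHT hh).2 c hc.1)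
  have hcv : Commute c v := mem_centralizer_iff.1 (hEC hv) c hc
  have hri : r⁻¹ = r := inv_eq_of_mul_eq_one_right d.hr2
  rcases d.hmove c hc.1 with h | h
  · exact mul_inv_eq_iff_eq_mul.1 h
  exfalso
  have hc' : ρ⁻¹ * c * ρ ∈ T := ((mem_normalizer_iff''.1 (d.hKC hρ) c).1 hc).1
  have e : c * (ρ * r * ρ⁻¹) * c⁻¹ = z * (ρ * r * ρ⁻¹) := by
    calc c * (ρ * r * ρ⁻¹) * c⁻¹ = c * (r⁻¹ * v) * c⁻¹ := by rw [hvdef, inv_mul_cancel_left]
      _ = (c * r * c⁻¹)⁻¹ * (c * v * c⁻¹) := by group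
      _ = (r * z)⁻¹ * v := by rw [h, hcv.eq, mul_inv_cancel_right]
      _ = z⁻¹ * (r⁻¹ * v) := by group
      _ = z * (ρ * r * ρ⁻¹) := by rw [hvdef, inv_mul_cancel_left, inv_eq_of_mul_eq_one_right d.hz2]
  have e' : c * (ρ * r * ρ⁻¹) * c⁻¹ = ρ * ((ρ⁻¹ * c * ρ) * r * (ρ⁻¹ * c * ρ)⁻¹) * ρ⁻¹ := by group
  rcases d.hmove _ hc' with h2 | h2 <;> rw [h2, e] at e'
  · exact d.hz1 (mul_eq_right.1 e')
  · refine d.not_commute hρ hρn (mul_inv_eq_iff_eq_mul.1 ?_)
    have hzc : Commute z (ρ * r * ρ⁻¹) := (d.hzc _ ((mem_normalizer_iff.1 (d.hKC hρ) r).1 ⟨d.hr, hrW⟩).1).symm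
    have h3 : (ρ * r * ρ⁻¹) * z = (ρ * r * ρ⁻¹) * (ρ * z * ρ⁻¹) := by
      rw [← hzc.eq, e']; group
    exact (mul_left_cancel h3).symm

/-- No `r` centralizing `W` is moved. -/
theorem SplitData.false_of_fixes_W (d : SplitData T K L r z) (hHT : H ≤ T ⊓ centralizer (T : Set G))
    (hHK : H ≤ centralizer (K : Set G)) (hH2 : ∀ h ∈ H, h * h = 1) (hzE : z ∈ wOf K ⊔ H)
    (hrL : ∀ g : G, g * r * g⁻¹ = r * z → g ∈ L)
    (he : ∃ e ∈ T, e * r * e⁻¹ = r * z) (hrW : r ∈ centralizer (wOf K : Set G)) : False := by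
  set C := T ⊓ centralizer (wOf K : Set G) with hC
  set E₀ := wOf K ⊔ H with hE₀
  obtain ⟨A, hA, hAW⟩ := exists_moving d.hK
  obtain ⟨a, haA, haW⟩ := SetLike.not_le_iff_exists.1 hAW
  have haT : a ∈ T := hA.1 haA
  have ha2 : a * a = 1 := by rw [← pow_two]; exact hA.2.1.2 a haA
  have hai : a⁻¹ = a := inv_eq_of_mul_eq_one_right ha2
  obtain ⟨ρ, hρ, ho, hρn, hρ3, hρinv⟩ := exists_inverted d.hT d.hK d.hTK haT ha2 haW
  have hri : r⁻¹ = r := inv_eq_of_mul_eq_one_right d.hr2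
  have hρi : ρ⁻¹ = ρ * ρ := inv_eq_of_mul_eq_one_right (by rw [← mul_assoc]; exact hρ3)
  obtain ⟨r₀, hr₀, hr₀1⟩ := fixed_exists d.hT d.hK
  have hρC : ρ ∈ normalizer (C : Set G) := d.hKC hρ
  have hρW : ρ ∈ normalizer (wOf K : Set G) := normalizer_le_normalizer_W (le_normalizer hρ)
  have hE₀C : E₀ ≤ C := by
    refine sup_le (fun w hw => ⟨d.hWT hw, mem_centralizer_iff.2 fun v hv => (W_commute hv hw).eq⟩)
      fun h hh => ⟨(hHT hh).1, mem_centralizer_iff.2 fun v hv => mem_centralizer_iff.1 (hHT hh).2 v (d.hWT hv)⟩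
  have hE₀c : E₀ ≤ centralizer (C : Set G) := sup_le
    (fun w hw => mem_centralizer_iff.2 fun c hc => (mem_centralizer_iff.1 hc.2 w hw).symm)
    (fun h hh => mem_centralizer_iff.2 fun c hc => mem_centralizer_iff.1 (hHT hh).2 c hc.1)
  have hcE : ∀ {c e}, c ∈ C → e ∈ E₀ → Commute c e := fun hc he => mem_centralizer_iff.1 (hE₀c he) _ hc
  have hWH : ∀ {g : G}, g ∈ normalizer (wOf K : Set G) → (∀ h ∈ H, Commute g h) →
      ∀ e ∈ E₀, g * e * g⁻¹ ∈ E₀ := by
    intro g hg hgH e he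
    suffices hle : E₀ ≤ E₀.comap (MulAut.conj g).toMonoidHom from hle he
    refine sup_le (fun w hw => mem_sup_left ((mem_normalizer_iff.1 hg w).1 hw)) fun h hh => ?_
    show g * h * g⁻¹ ∈ E₀
    rw [(hgH h hh).eq, mul_inv_cancel_right]
    exact mem_sup_right hh
  have hρH : ∀ h ∈ H, Commute ρ h := fun h hh => mem_centralizer_iff.1 (hHK hh) ρ hρ
  have hE2 : ∀ e ∈ E₀, e * e = 1 := by
    have hEe : IsElementaryAbelian 2 E₀ := by
      rw [hE₀, ← closure_eq (wOf K), ← closure_eq H, ← Subgroup.closure_union]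
      refine Thompson.isEA_closure ?_ ?_
      · intro x hx y hy
        have hmem : ∀ {u}, u ∈ (wOf K : Set G) ∪ H → u ∈ E₀ := fun hu =>
          hu.elim (fun h => mem_sup_left h) fun h => mem_sup_right h
        exact hcE (hE₀C (hmem hx)) (hmem hy)
      · rintro x (hx | hx)
        · exact W_pow hx
        · rw [pow_two]; exact hH2 x hx
    exact fun e he => by rw [← pow_two]; exact hEe.2 e he
  -- the conjugates of `r` and `z`
  set r' := ρ * r * ρ⁻¹ with hr'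
  set r'' := ρ⁻¹ * r * ρ with hr''
  set z' := ρ * z * ρ⁻¹ with hz'
  set z'' := ρ⁻¹ * z * ρ with hz''
  have hrC : r ∈ C := ⟨d.hr, hrW⟩
  have hr'C : r' ∈ C := (mem_normalizer_iff.1 hρC r).1 hrC
  have hr''C : r'' ∈ C := (mem_normalizer_iff''.1 hρC r).1 hrC
  have hz'E : z' ∈ E₀ := hWH hρW hρH z hzE
  have hz''E : z'' ∈ E₀ := by
    have := hWH (inv_mem hρW) (fun h hh => (hρH h hh).inv_left) z hzE
    rwa [inv_inv] at this
  have hzz' : z' ≠ z := fun h => d.not_commute hρ hρn (mul_inv_eq_iff_eq_mul.1 h)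
  have hz'1 : z' ≠ 1 := fun h => d.hz1 (conj_eq_one_iff.1 h)
  have hconjC : ∀ c ∈ C, (c * r' * c⁻¹ = r' ∨ c * r' * c⁻¹ = r' * z') := by
    intro c hc
    have hc' : ρ⁻¹ * c * ρ ∈ C := (mem_normalizer_iff''.1 hρC c).1 hc
    rcases d.hmove _ hc'.1 with h | h
    · left
      calc c * r' * c⁻¹ = ρ * (ρ⁻¹ * c * ρ * r * (ρ⁻¹ * c * ρ)⁻¹) * ρ⁻¹ := by rw [hr']; group
        _ = r' := by rw [h]
    · right
      calc c * r' * c⁻¹ = ρ * (ρ⁻¹ * c * ρ * r * (ρ⁻¹ * c * ρ)⁻¹) * ρ⁻¹ := by rw [hr']; group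
        _ = r' * z' := by rw [h, hr', hz']; group
  have hrr' : Commute r r' := by
    rcases d.hmove r' hr'C.1 with h | h
    · exact (show Commute r' r from mul_inv_eq_iff_eq_mul.1 h).symm
    · exfalso
      have h' : r' * r * r'⁻¹ * r⁻¹ = z := by
        rw [h, (d.hzc r d.hr).eq, mul_inv_cancel_right]
      have e : r * r' * r⁻¹ = z * r' := by
        calc r * r' * r⁻¹ = (r' * r * r'⁻¹ * r⁻¹)⁻¹ * r' := by group
          _ = z * r' := by rw [h', inv_eq_of_mul_eq_one_right d.hz2]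
      rw [← (d.hzc r' hr'C.1).eq] at e
      rcases hconjC r hrC with h2 | h2 <;> rw [e] at h2
      · exact d.hz1 (mul_eq_left.1 h2)
      · exact hzz' (mul_left_cancel h2).symm
  have hρr' : ρ * r' * ρ⁻¹ = r'' := by
    calc ρ * r' * ρ⁻¹ = (ρ * ρ) * r * (ρ * ρ)⁻¹ := by rw [hr']; group
      _ = r'' := by rw [← hρi, inv_inv]
  have hρr'' : ρ * r'' * ρ⁻¹ = r := by rw [hr'']; group
  have hr'r'' : Commute r' r'' := by
    have := hrr'.map (MulAut.conj ρ)
    rwa [MulAut.conj_apply, MulAut.conj_apply, hρr'] at this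
  have hr''r : Commute r'' r := by
    have := hr'r''.map (MulAut.conj ρ)
    rwa [MulAut.conj_apply, MulAut.conj_apply, hρr', hρr''] at this
  have har : a * r' * a⁻¹ = ρ⁻¹ * (a * r * a⁻¹) * ρ := by
    calc a * r' * a⁻¹ = (a * ρ * a⁻¹) * (a * r * a⁻¹) * (a * ρ * a⁻¹)⁻¹ := by rw [hr']; group
      _ = ρ⁻¹ * (a * r * a⁻¹) * ρ := by rw [hρinv, inv_inv]
  have haz' : a * z' * a⁻¹ = z'' := by
    calc a * z' * a⁻¹ = (a * ρ * a⁻¹) * (a * z * a⁻¹) * (a * ρ * a⁻¹)⁻¹ := by rw [hz']; group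
      _ = z'' := by rw [hρinv, inv_inv, (d.hzc a haT).eq, mul_inv_cancel_right]
  have haE : ∀ e ∈ E₀, a * e * a⁻¹ ∈ E₀ := hWH (normalizer_le_normalizer_W (d.hTK haT))
    fun h hh => mem_centralizer_iff.1 (hHT hh).2 a haT
  set A₁ := A ⊓ centralizer (wOf K : Set G) with hA₁
  have hA₁C : ∀ {b}, b ∈ A₁ → b ∈ C := fun hb => ⟨hA.1 hb.1, hb.2⟩
  have hAA₁ : Nat.card A ≤ 2 * Nat.card A₁ := by
    have hcov : (A : Set G) ⊆ (A₁ : Set G) ∪ (fun x => a * x) '' (A₁ : Set G) := by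
      intro b hb
      by_cases hbW : b ∈ centralizer (wOf K : Set G)
      · exact Or.inl ⟨hb, hbW⟩
      · exact Or.inr ⟨a⁻¹ * b, ⟨A.mul_mem (A.inv_mem haA) hb,
          T_mul_mem d.hT d.hK d.hTK haT (hA.1 hb) haW hbW⟩, mul_inv_cancel_left a b⟩
    rw [show Nat.card A = (A : Set G).ncard from Nat.card_coe_set_eq _,
      show Nat.card A₁ = (A₁ : Set G).ncard from Nat.card_coe_set_eq _]
    refine le_trans (Set.ncard_le_ncard hcov (Set.toFinite _)) (le_trans (Set.ncard_union_le _ _) ?_)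
    have := Set.ncard_image_le (f := fun x => a * x) (s := (A₁ : Set G)) (Set.toFinite _)
    omega
  -- an element of `W` moved by `a`
  obtain ⟨y, hy, hyR⟩ : ∃ y ∈ wOf K, y ∉ wOf K ⊓ centralizer (thompsonSubgroupOf 2 T : Set G) := by
    by_contra hc
    push Not at hc
    have := card_le_of_le (show wOf K ≤ _ from hc)
    rw [card_fixed d.hT d.hK, d.hK.2.2.2.2.1] at this
    omega
  have hay : ¬ Commute a y := fun h => hyR (T_fixed d.hT d.hK d.hTK haT haW hy h)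
  have hv : r * r' ∈ E₀ := d.mul_conj_mem hHT hHK hH2 hzE hrW hA haA haW hρ hρn hρ3 hρinv
  -- `C` centralizes `r`
  set v := r * r' with hvdef
  have hr'v : r' = r * v := by rw [hvdef, ← mul_assoc, d.hr2, one_mul]
  have hCr : ∀ c ∈ C, Commute c r := by
    intro c hc
    rcases d.hmove c hc.1 with h | h
    · exact mul_inv_eq_iff_eq_mul.1 h
    · exfalso
      have e : c * r' * c⁻¹ = r' * z := by
        rw [hr'v]
        calc c * (r * v) * c⁻¹ = (c * r * c⁻¹) * (c * v * c⁻¹) := by group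
          _ = r * z * v := by rw [h, (hcE hc hv).eq, mul_inv_cancel_right]
          _ = r * v * z := by
            rw [mul_assoc, mul_assoc, (hcE (hE₀C hv) hzE).eq]
      rcases hconjC c hc with h2 | h2 <;> rw [e] at h2
      · exact d.hz1 (mul_eq_left.1 h2)
      · exact hzz' (mul_left_cancel h2).symm
  have harz : a * r * a⁻¹ = r * z := by
    obtain ⟨e, heT, her⟩ := he
    have heW : e ∉ centralizer (wOf K : Set G) := fun h => d.hz1 (by
      rw [(hCr e ⟨heT, h⟩).eq, mul_inv_cancel_right] at her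
      exact mul_eq_left.1 her.symm)
    have hae : a⁻¹ * e ∈ C := ⟨T.mul_mem (T.inv_mem haT) heT, T_mul_mem d.hT d.hK d.hTK haT heT haW heW⟩
    rw [← her]
    calc a * r * a⁻¹ = a * ((a⁻¹ * e) * r * (a⁻¹ * e)⁻¹) * a⁻¹ := by
          rw [(hCr _ hae).eq, mul_inv_cancel_right]
      _ = e * r * e⁻¹ := by group
  have hvW : v ∈ wOf K := by
    have hρwW : ∀ w ∈ wOf K, ρ * w * ρ⁻¹ ∈ wOf K := fun w hw => (mem_normalizer_iff.1 hρW w).1 hw
    obtain ⟨w, hw, h, hh, hwh⟩ := (Core.mem_sup_of_le_normalizer (show wOf K ≤ normalizer (H : Set G) from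
      fun w hw => mem_normalizer_fintype fun h hh => by
        rw [mem_centralizer_iff.1 (hHT hh).2 w (d.hWT hw), mul_inv_cancel_right]; exact hh)).1 hv
    have hprod : v * (ρ * v * ρ⁻¹) * (ρ * (ρ * v * ρ⁻¹) * ρ⁻¹) = 1 := by
      have e1 : ρ * v * ρ⁻¹ = r' * r'' := by
        rw [hvdef, ← hρr', hr']; group
      have e2 : ρ * (ρ * v * ρ⁻¹) * ρ⁻¹ = r'' * r := by
        rw [e1, ← hρr', ← hρr'', ← hρr']; group
      have hr'2 : r' * r' = 1 := by
        rw [hr']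
        calc ρ * r * ρ⁻¹ * (ρ * r * ρ⁻¹) = ρ * (r * r) * ρ⁻¹ := by group
          _ = 1 := by rw [d.hr2]; group
      have hr''2 : r'' * r'' = 1 := by
        rw [hr'']
        calc ρ⁻¹ * r * ρ * (ρ⁻¹ * r * ρ) = ρ⁻¹ * (r * r) * ρ := by group
          _ = 1 := by rw [d.hr2]; group
      rw [e2, e1, hvdef]
      calc r * r' * (r' * r'') * (r'' * r) = r * (r' * r') * (r'' * r'') * r := by group
        _ = 1 := by rw [hr'2, hr''2, mul_one, mul_one, d.hr2]
    have hρh : ρ * h * ρ⁻¹ = h := by rw [(hρH h hh).eq, mul_inv_cancel_right]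
    have hc1 : Commute h (ρ * w * ρ⁻¹) :=
      (mem_centralizer_iff.1 (hHT hh).2 _ (d.hWT (hρwW w hw))).symm
    have hc2 : Commute h (ρ * (ρ * w * ρ⁻¹) * ρ⁻¹) :=
      (mem_centralizer_iff.1 (hHT hh).2 _ (d.hWT (hρwW _ (hρwW w hw)))).symm
    have e3 : ρ * v * ρ⁻¹ = (ρ * w * ρ⁻¹) * h := by
      rw [← hwh]
      calc ρ * (w * h) * ρ⁻¹ = (ρ * w * ρ⁻¹) * (ρ * h * ρ⁻¹) := by group
        _ = _ := by rw [hρh]
    have e4 : ρ * (ρ * v * ρ⁻¹) * ρ⁻¹ = (ρ * (ρ * w * ρ⁻¹) * ρ⁻¹) * h := by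
      rw [e3]
      calc ρ * (ρ * w * ρ⁻¹ * h) * ρ⁻¹ = (ρ * (ρ * w * ρ⁻¹) * ρ⁻¹) * (ρ * h * ρ⁻¹) := by group
        _ = _ := by rw [hρh]
    rw [e4, e3, ← hwh] at hprod
    have hprod' : w * (ρ * w * ρ⁻¹) * (ρ * (ρ * w * ρ⁻¹) * ρ⁻¹) * h = 1 := by
      rw [← hprod]
      calc w * (ρ * w * ρ⁻¹) * (ρ * (ρ * w * ρ⁻¹) * ρ⁻¹) * h
          = w * (ρ * w * ρ⁻¹) * (h * h) * (ρ * (ρ * w * ρ⁻¹) * ρ⁻¹) * h := by rw [hH2 h hh, mul_one]
        _ = w * ((ρ * w * ρ⁻¹) * h) * (h * (ρ * (ρ * w * ρ⁻¹) * ρ⁻¹)) * h := by group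
        _ = w * (h * (ρ * w * ρ⁻¹)) * (h * (ρ * (ρ * w * ρ⁻¹) * ρ⁻¹)) * h := by rw [hc1.eq]
        _ = w * h * ((ρ * w * ρ⁻¹) * h) * ((ρ * (ρ * w * ρ⁻¹) * ρ⁻¹) * h) := by group
    have hhW : h ∈ wOf K := by
      rw [eq_inv_of_mul_eq_one_right hprod']
      exact inv_mem (mul_mem (mul_mem hw (hρwW w hw)) (hρwW _ (hρwW w hw)))
    rw [← hwh]
    exact mul_mem hw hhW
  obtain ⟨u, hu, huc⟩ := decomp d.hK hρ ho hρn hrW
    (show r⁻¹ * (ρ * r * ρ⁻¹) ∈ wOf K by rw [hri]; exact hvW)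
  set y₀ := u⁻¹ * r with hy₀
  set b := a * u * a⁻¹ * u⁻¹ with hb
  have hbR := T_comm_mem d.hT d.hK d.hTK haT hu
  have hay₀ : a * y₀ * a⁻¹ = (b⁻¹ * z) * y₀ := by
    have hau : a * u * a⁻¹ ∈ wOf K := (mem_normalizer_iff.1 (normalizer_le_normalizer_W (d.hTK haT)) u).1 hu
    calc a * y₀ * a⁻¹ = (a * u * a⁻¹)⁻¹ * (a * r * a⁻¹) := by rw [hy₀]; group
      _ = (b * u)⁻¹ * (z * r) := by rw [harz, (d.hzc r d.hr).eq, hb, inv_mul_cancel_right]
      _ = (u * b)⁻¹ * (z * r) := by rw [(W_commute (hbR.1) hu).eq]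
      _ = b⁻¹ * (u⁻¹ * z) * r := by group
      _ = b⁻¹ * (z * u⁻¹) * r := by rw [(d.hzc u⁻¹ (T.inv_mem (d.hWT hu))).eq]
      _ = _ := by rw [hy₀]; group
  have hρq : Commute ρ (b⁻¹ * z) := by
    have h1 := huc.map (MulAut.conj a)
    rw [MulAut.conj_apply, MulAut.conj_apply, hρinv, hay₀] at h1
    have h2 := (Commute.inv_left_iff.1 h1).mul_right huc.inv_right
    rwa [mul_inv_cancel_right] at h2
  by_cases hb1 : b = 1
  · rw [hb1, inv_one, one_mul] at hρq
    exact d.not_commute hρ hρn hρq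
  have hbe : b = r₀ := fixed_unique d.hT d.hK hr₀ hr₀1 hbR hb1
  have huR : u ∉ wOf K ⊓ centralizer (thompsonSubgroupOf 2 T : Set G) := fun h => hb1 (by
    rw [hb, (T_commute_fixed d.hT d.hK d.hTK haT h).eq, mul_inv_cancel_right, mul_inv_cancel])
  by_cases hzr₀ : z = r₀
  · -- the fusion of `r` and `r z` is realised in `K`
    have hr₀u : r₀ ≠ u := fun h => huR (h ▸ hr₀)
    have hu1 : u ≠ 1 := fun h => huR (h ▸ one_mem _)
    have hrz : r * z = (u * r₀) * y₀ := by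
      rw [← hzr₀]
      calc r * z = z * r := ((d.hzc r d.hr).eq)
        _ = z * (u * y₀) := by rw [hy₀, mul_inv_cancel_left]
        _ = (u * z) * y₀ := by rw [← mul_assoc, ← (d.hzc u (d.hWT hu)).eq]
    have hy₀c : ∀ g, Commute g y₀ → g * r * g⁻¹ = (g * u * g⁻¹) * y₀ := fun g hg => by
      calc g * r * g⁻¹ = (g * u * g⁻¹) * (g * y₀ * g⁻¹) := by rw [hy₀]; group
        _ = _ := by rw [hg.eq, mul_inv_cancel_right]
    have hρ' : ρ⁻¹ ∉ pCoreOf 2 K := fun h => hρn (inv_mem_iff.1 h)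
    have hfin : u * r₀ = ρ * u * ρ⁻¹ ∨ u * r₀ = ρ⁻¹ * u * ρ := by
      rcases four_list d.hK hρ ho hρn hu hu1 (mul_mem hu hr₀.1) with h | h | h | h
      · exact absurd (eq_inv_of_mul_eq_one_right h) (fun e => hr₀u (by
          rw [e, inv_eq_of_mul_eq_one_right (by rw [← pow_two]; exact W_pow hu)]))
      · exact absurd (mul_eq_left.1 h) hr₀1
      · exact Or.inl h
      · exact Or.inr h
    rcases hfin with h | h
    · refine d.hρL ρ hρ hρn (hrL ρ ?_)
      rw [hy₀c ρ huc, hrz, h]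
    · refine d.hρL ρ⁻¹ (inv_mem hρ) hρ' (hrL ρ⁻¹ ?_)
      rw [hy₀c _ huc.inv_left, hrz, h, inv_inv]
  · -- `a` moves too much
    set P := closure (insert r (E₀ : Set G)) with hP
    have hgen : ∀ x ∈ insert r (E₀ : Set G), x ∈ C := by
      rintro x (rfl | hx)
      exacts [hrC, hE₀C hx]
    have hPC : P ≤ C := (closure_le _).2 hgen
    have hPe : IsElementaryAbelian 2 P := by
      refine Thompson.isEA_closure ?_ ?_
      · rintro x (rfl | hx) y (rfl | hy)
        exacts [Commute.refl _, hcE hrC hy, (hcE hrC hx).symm, hcE (hE₀C hx) hy]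
      · rintro x (rfl | hx)
        · rw [pow_two, d.hr2]
        · rw [pow_two]; exact hE2 x hx
    have hb' : ∀ b ∈ A₁, ∀ p ∈ P, Commute b p := by
      intro b hb p hp
      have hle : P ≤ centralizer ({b} : Set G) := by
        refine (closure_le _).2 ?_
        rintro x (rfl | hx)
        · exact mem_centralizer_singleton_iff.2 (hCr b (hA₁C hb)).eq.symm
        · exact mem_centralizer_singleton_iff.2 (hcE (hA₁C hb) hx).eq.symm
      exact (mem_centralizer_singleton_iff.1 (hle hp)).symm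
    have hbound := offender_bound hA (inf_le_left : A₁ ≤ A) (hPC.trans inf_le_left) hPe hb'
    have hRP : (wOf K ⊓ centralizer (thompsonSubgroupOf 2 T : Set G)) ≤ P := fun x hx =>
      subset_closure (Or.inr (mem_sup_left hx.1))
    set U := commSub a P _ (fun _ hx _ hy => Thompson.isEA_commute hPe hx hy) hRP with hU
    have hPAU : P ⊓ centralizer (A : Set G) ≤ U := fun p hp => ⟨hp.1, by
      rw [mem_centralizer_iff.1 hp.2 a haA, mul_inv_cancel_right, mul_inv_cancel]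
      exact one_mem _⟩
    have h1 := two_mul_card_le hPAU
      (show y ∈ U from ⟨subset_closure (Or.inr (mem_sup_left hy)),
        T_comm_mem d.hT d.hK d.hTK haT hy⟩)
      (fun h => hay (mem_centralizer_iff.1 h.2 a haA))
    have hy₀P : y₀ ∈ P := mul_mem (inv_mem (subset_closure (Or.inr (mem_sup_left hu))))
      (subset_closure (Or.inl rfl))
    have h2 := two_mul_card_le (show U ≤ P from fun p hp => hp.1) hy₀P (by
      rintro ⟨-, h⟩
      rw [hay₀, mul_inv_cancel_right] at h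
      have hzR : z ∈ wOf K ⊓ centralizer (thompsonSubgroupOf 2 T : Set G) := by
        have := mul_mem hr₀ h
        rwa [hbe, mul_inv_cancel_left] at this
      exact hzr₀ (fixed_unique d.hT d.hK hr₀ hr₀1 hzR d.hz1))
    have hp1 := Nat.card_pos (α := ↥(P ⊓ centralizer (A : Set G)))
    have hp2 := Nat.card_pos (α := ↥A₁)
    nlinarith [Nat.mul_le_mul_left (Nat.card ↥(P ⊓ centralizer (A : Set G))) hAA₁]

end Cfsg.Lib.Local.JComp
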