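import Cfsg.Agent.Lib.Local.JComp.Build
import Cfsg.Agent.Lib.Local.FF.Model

/-!
# A component outside a given subgroup
-/

set_option autoImplicit false
set_option linter.style.haveILetI false

namespace Cfsg.Lib.Local.JComp

open Subgroup Cfsg Cfsg.Lib Cfsg.Lib.Local.GlaubermanZJ
open scoped commutatorElement

universe u

variable {G : Type u} [Group G] [Finite G] {T L M : Subgroup G}

local notation "J" => thompsonSubgroupOf 2 T
local notation "Q" => pCoreOf 2 L

theorem Ctx.exists_component_outside (c : Ctx T L) (hTL : IsSylowTwoIn T L) (hJQ : ¬ J ≤ Q)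
    (hTM : T ≤ M) (hNJ : L ⊓ normalizer (J : Set G) ≤ M) (hLM : ¬ L ≤ M) :
    ∃ K, IsJComponent T K ∧ K ≤ L ∧ ¬ K ≤ M := by
  haveI : Fact (Nat.Prime 2) := ⟨Nat.prime_two⟩
  haveI : Fact (Nat.Prime 3) := ⟨Nat.prime_three⟩
  haveI : Group.IsSolvable L := c.solv
  by_contra hcon
  push Not at hcon
  have hJL : J ≤ L := (map_subtype_le _).trans hTL.1
  have hJM : J ≤ M := (map_subtype_le _).trans hTM
  have hDM : Dk L ≤ M := fun d hd => hNJ ⟨hd.1,
    Thompson.normalizer_le_normalizer_thompsonSubgroupOf T (Dk_le_normalizer c hTL hd)⟩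
  -- the model
  set V' := (Vc L).subgroupOf L with hV'
  haveI : V'.Normal := (normal_subgroupOf_iff_le_normalizer (Vc_le_N c)).2 Vc_normalized
  have hVea : IsElementaryAbelian 2 V' := Thompson.isEA_subgroupOf (Vc_ea c) L
  have hker : ∀ x : L, FF.toModel V' x = 1 ↔ (x : G) ∈ Dk L := fun x => by
    rw [← MonoidHom.mem_ker, FF.toModel_ker]
    refine ⟨fun hx => ⟨x.2, mem_centralizer_iff.2 fun v hv => ?_⟩, fun hx => ?_⟩
    · exact congrArg Subtype.val (mem_centralizer_iff.1 hx ⟨v, Vc_le_N c hv⟩ hv)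
    · exact mem_centralizer_iff.2 fun v hv => Subtype.ext (mem_centralizer_iff.1 hx.2 _ hv)
  set K' := normalClosure (((J).subgroupOf L : Subgroup L) : Set L) with hK'
  set H := K'.map (FF.toModel V') with hH
  have hs : FF.Setup 2 (FF.modV V') H :=
    FF.setup_model V' Core.isPSolvable_of_isSolvable hVea (pCore_quotient_eq_bot c) K'
  have hbest : ∀ A, IsMaxEAIn 2 T A → ∀ n : L,
      IsBestOffenderOn 2 (FF.modV V') (((A.subgroupOf L).map (MulAut.conj n).toMonoidHom).map (FF.toModel V')) := by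
    intro A hA n
    refine FF.best_of_maxEA' V' hVea ⟨Thompson.isEA_map _ (Thompson.isEA_subgroupOf hA.2.1 L), fun B hB hBe => ?_⟩
    have hAL : A ≤ L := hA.1.trans hTL.1
    rw [BaumannBlock.card_map_mulEquiv, Nat.card_congr (subgroupOfEquivOfLe hAL).toEquiv,
      ← BaumannBlock.card_map_mulEquiv (MulAut.conj n⁻¹) B, ← card_map_of_injective L.subtype_injective]
    refine hA.2.2 _ ?_ (Thompson.isEA_map _ (Thompson.isEA_map _ hBe))
    refine (map_mono (map_mono hB)).trans ?_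
    rw [Subgroup.map_sup, Subgroup.map_sup,
      Core.map_conj_eq_of_mem_normalizer (show n⁻¹ ∈ normalizer (V' : Set L) by rw [normalizer_eq_top]; exact mem_top _),
      map_subgroupOf_eq_of_le (Vc_le_N c)]
    refine sup_le ?_ ((Vc_le c).trans (core_le_sylow hTL))
    rintro _ ⟨_, ⟨_, ⟨a, ha, rfl⟩, rfl⟩, rfl⟩
    have : ((MulAut.conj n⁻¹).toMonoidHom ((MulAut.conj n).toMonoidHom a) : L) = a := by
      simp [mul_assoc]
    rw [this]
    exact hA.1 ha
  have hAH : ∀ A, IsMaxEAIn 2 T A → ∀ n : L,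
      ((A.subgroupOf L).map (MulAut.conj n).toMonoidHom).map (FF.toModel V') ≤ H := by
    intro A hA n
    refine map_mono ?_
    rintro _ ⟨u, hu, rfl⟩
    exact (normalClosure_normal).conj_mem u (subset_normalClosure (le_J hA hu)) n
  have hgen : H = ⨆ B : {B : Subgroup (FF.Model V') // B ≤ H ∧ IsBestOffenderOn 2 (FF.modV V') B},
      (B : Subgroup (FF.Model V')) := by
    refine le_antisymm ?_ (iSup_le fun A => A.2.1)
    rw [hH, map_le_iff_le_comap, hK', ← SetLike.coe_subset_coe]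
    show ((normalClosure _ : Subgroup L) : Set L) ⊆ _
    rw [normalClosure, SetLike.coe_subset_coe, closure_le]
    intro y hy
    obtain ⟨x, hx, hxy⟩ := Group.mem_conjugatesOfSet_iff.1 hy
    obtain ⟨n, rfl⟩ := isConj_iff.1 hxy
    suffices hsub : (J).subgroupOf L ≤ ((⨆ B : {B : Subgroup (FF.Model V') //
        B ≤ H ∧ IsBestOffenderOn 2 (FF.modV V') B}, (B : Subgroup (FF.Model V'))).comap
          (FF.toModel V')).comap (MulAut.conj n).toMonoidHom from hsub hx
    rw [← map_le_map_iff_of_injective L.subtype_injective, map_subgroupOf_eq_of_le hJL]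
    conv_lhs => rw [thompsonSubgroupOf_eq_sSup]
    rw [sSup_le_iff]
    intro A hA a ha
    refine ⟨⟨a, hJL (le_J hA ha)⟩, ?_, rfl⟩
    exact le_iSup (fun B : {B : Subgroup (FF.Model V') // B ≤ H ∧ IsBestOffenderOn 2 (FF.modV V') B} =>
      (B : Subgroup (FF.Model V'))) ⟨_, hAH A hA n, hbest A hA n⟩ ⟨_, ⟨⟨a, hJL (le_J hA ha)⟩, ha, rfl⟩, rfl⟩
  set target := (M.subgroupOf L).map (FF.toModel V') with htarget
  -- the components cover the blocks
  have hblock : ∀ A, IsMaxEAIn 2 T A → ∀ B : Subgroup (FF.Model V'),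
      FF.IsOne 2 (FF.modV V') H B → B ≤ (A.subgroupOf L).map (FF.toModel V') →
      FF.block 2 H B ≤ target ∧ H ≤ normalizer (FF.block 2 H B : Set (FF.Model V')) := by
    intro A hA B hB hBA
    have hHblock := (FF.split hs hB hgen).2.2.2
    refine ⟨sup_le ?_ (hBA.trans (map_mono fun x hx => hJM (le_J hA hx))), hHblock⟩
    set C3 := ⁅FF.core 2 H, B⁆ with hC3
    have hHC3 : H ≤ normalizer (C3 : Set (FF.Model V')) := by
      rw [hC3, ← FF.block_inf_core hB]
      exact (le_inf hHblock FF.le_normalizer_core).trans inf_normalizer_le_normalizer_inf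
    have hC3H : C3 ≤ H := (FF.commutator_core_le hB).trans FF.core_le
    have hcard : Nat.card C3 = 3 := FF.card_commutator_core hs hB
    obtain ⟨⟨β, hβ⟩, hβ1⟩ := ne_bot_iff_exists_ne_one.1
      (fun h => by have := hB.2; rw [h, card_bot] at this; omega : B ≠ ⊥)
    have hβ' : β ≠ 1 := fun h => hβ1 (Subtype.ext h)
    obtain ⟨b, hbA, rfl⟩ := hBA hβ
    have hβ2 : FF.toModel V' b ^ 2 = 1 := hB.1.ea.2 _ hβ
    have hBz : zpowers (FF.toModel V' b) = B := by
      refine eq_of_le_of_card_ge (zpowers_le.2 hβ) ?_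
      rw [hB.2, Nat.card_zpowers, orderOf_eq_prime hβ2 hβ']
    obtain ⟨⟨m', hm'⟩, hm1⟩ := ne_bot_iff_exists_ne_one.1
      (fun h => by rw [h, card_bot] at hcard; omega : C3 ≠ ⊥)
    have hm'' : m' ≠ 1 := fun h => hm1 (Subtype.ext h)
    obtain ⟨m, hm, hmeq⟩ := hC3H hm'
    have hBN : B ≤ normalizer (C3 : Set (FF.Model V')) := normalizer_commutator_ge_right _ _
    have hz3 : ∀ z ∈ C3, z ≠ 1 → zpowers z = C3 := fun z hz hz1 => by
      refine eq_of_le_of_card_ge (zpowers_le.2 hz) ?_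
      rw [hcard, Nat.card_zpowers, orderOf_eq_prime (p := 3) ?_ hz1]
      exact orderOf_dvd_iff_pow_eq_one.1 (hcard ▸ Subgroup.orderOf_dvd_natCard _ hz)
    set y : L := ⁅m, b⁆ with hy
    have hψy : FF.toModel V' y = ⁅m', FF.toModel V' b⁆ := by rw [hy, map_commutatorElement, hmeq]
    have hyC3 : FF.toModel V' y ∈ C3 := by
      rw [hψy, commutatorElement_def, show m' * FF.toModel V' b * m'⁻¹ * (FF.toModel V' b)⁻¹ =
        m' * (FF.toModel V' b * m'⁻¹ * (FF.toModel V' b)⁻¹) by group]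
      exact C3.mul_mem hm' ((mem_normalizer_iff.1 (hBN hβ) _).1 (C3.inv_mem hm'))
    have hy1 : FF.toModel V' y ≠ 1 := by
      rw [hψy]
      intro h
      have hc : C3 ≤ centralizer ({FF.toModel V' b} : Set (FF.Model V')) := by
        rw [← hz3 m' hm' hm'', zpowers_le]
        exact mem_centralizer_singleton_iff.2 (commutatorElement_eq_one_iff_mul_comm.1 h)
      have h2 : FF.core 2 H ≤ centralizer (B : Set (FF.Model V')) := by
        intro x hx
        rw [← hBz]
        refine mem_centralizer_iff.2 ?_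
        rintro _ ⟨i, rfl⟩
        refine ((?_ : Commute (FF.toModel V' b) x).zpow_left i).eq
        set β := FF.toModel V' b
        set z := ⁅x, β⁆ with hz
        have hzC : z ∈ C3 := commutator_mem_commutator hx hβ
        have hzβ : Commute z β := mem_centralizer_singleton_iff.1 (hc hzC)
        have hz2 : z ^ 2 = 1 := by
          have h1 : x * β * x⁻¹ = z * β := by rw [hz, commutatorElement_def]; group
          have h3 : (x * β * x⁻¹) ^ 2 = (z * β) ^ 2 := by rw [h1]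
          rw [conj_pow, hβ2, mul_one, mul_inv_cancel, hzβ.mul_pow, hβ2, mul_one] at h3
          exact h3.symm
        have hz3' : z ^ 3 = 1 := orderOf_dvd_iff_pow_eq_one.1 (hcard ▸ Subgroup.orderOf_dvd_natCard _ hzC)
        have hz1 : z = 1 := by rw [pow_succ, hz2, one_mul] at hz3'; exact hz3'
        exact (commutatorElement_eq_one_iff_mul_comm.1 (hz ▸ hz1)).symm
      exact hB.not_core_le hs h2
    have hy3 : FF.toModel V' y ^ 3 = 1 :=
      orderOf_dvd_iff_pow_eq_one.1 (hcard ▸ Subgroup.orderOf_dvd_natCard _ hyC3)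
    have hbG : (b : G) ∈ A := hbA
    have hbinv : (b : G) * (y : G) * (b : G)⁻¹ = (y : G)⁻¹ := by
      have hb2 : (b : G)⁻¹ = (b : G) :=
        inv_eq_of_mul_eq_one_right (by rw [← pow_two]; exact hA.2.1.2 _ hbG)
      show (b : G) * ((⁅m, b⁆ : L) : G) * (b : G)⁻¹ = (((⁅m, b⁆ : L) : G))⁻¹
      rw [commutatorElement_def]
      push_cast
      calc (b : G) * ((m : G) * b * (m : G)⁻¹ * (b : G)⁻¹) * (b : G)⁻¹
          = (b : G) * (m : G) * b * (m : G)⁻¹ * ((b : G)⁻¹ * (b : G)⁻¹) := by group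
        _ = (b : G) * (m : G) * (b : G)⁻¹ * (m : G)⁻¹ := by
          rw [show (b : G)⁻¹ * (b : G)⁻¹ = 1 by rw [hb2, ← pow_two]; exact hA.2.1.2 _ hbG, mul_one, hb2]
        _ = _ := by group
    have hbS : (b : G) ∈ T := hA.1 hbG
    have hycen : (y : G) ∈ cenD L := by
      show ((⁅m, b⁆ : L) : G) ∈ cenD L
      rw [commutatorElement_def]
      push_cast
      exact mul_mem (c.sylow_le_cenD (sylow_conj m.2 hTL) ⟨b, hbS, rfl⟩)
        (inv_mem (c.sylow_le_cenD hTL hbS))
    obtain ⟨e, k, hk, hek⟩ := Nat.exists_eq_two_pow_mul_odd (n := orderOf (y : G)) (orderOf_pos _).ne'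
    set ρ : L := y ^ 2 ^ e with hρ
    have hρG : (ρ : G) = (y : G) ^ 2 ^ e := by rw [hρ, coe_pow]
    have hρo : Odd (orderOf (ρ : G)) := hk.of_dvd_nat (orderOf_dvd_of_pow_eq_one (by
      rw [hρG, ← pow_mul, ← hek, pow_orderOf_eq_one]))
    have hρC3 : FF.toModel V' ρ ∈ C3 := by rw [hρ, map_pow]; exact C3.pow_mem hyC3 _
    have hρ1 : FF.toModel V' ρ ≠ 1 := by
      rw [hρ, map_pow]
      intro h
      exact hy1 (orderOf_eq_one_iff.1 (Nat.eq_one_of_dvd_coprimes
        ((by decide : Nat.Coprime 3 2).pow_right e) (orderOf_dvd_of_pow_eq_one hy3) (orderOf_dvd_of_pow_eq_one h)))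
    have hJρ : ∀ j ∈ J, j * (ρ : G) * j⁻¹ * (ρ : G)⁻¹ ∈ Dk L ∨ j * (ρ : G) * j⁻¹ * (ρ : G) ∈ Dk L := by
      intro j hj
      set j' : L := ⟨j, hJL hj⟩
      have hjH : FF.toModel V' j' ∈ H := ⟨j', subset_normalClosure hj, rfl⟩
      have hmem : FF.toModel V' (j' * ρ * j'⁻¹) ∈ zpowers (FF.toModel V' ρ) := by
        rw [hz3 _ hρC3 hρ1, map_mul, map_mul, map_inv]
        exact (mem_normalizer_iff.1 (hHC3 hjH) _).1 hρC3
      obtain ⟨i, hi⟩ := hmem
      have hρ3 : FF.toModel V' ρ ^ 3 = 1 := by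
        rw [hρ, map_pow, ← pow_mul, mul_comm, pow_mul, hy3, one_pow]
      change FF.toModel V' ρ ^ i = FF.toModel V' (j' * ρ * j'⁻¹) at hi
      rcases zpow_of_cube hρ3 i with h | h | h
      · exfalso
        rw [h, map_mul, map_mul, map_inv] at hi
        exact hρ1 (conj_eq_one_iff.1 hi.symm)
      · refine Or.inl ((hker (j' * ρ * j'⁻¹ * ρ⁻¹)).1 ?_)
        rw [map_mul, ← hi, h, map_inv, mul_inv_cancel]
      · refine Or.inr ((hker (j' * ρ * j'⁻¹ * ρ)).1 ?_)
        rw [map_mul, ← hi, h, inv_mul_cancel]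
    obtain ⟨K, hK, hKL, hρK⟩ := c.exists_component hTL hA hbG ρ.2 hρo (fun h => hρ1 ((hker ρ).2 h))
      ((hker (ρ ^ 3)).1 (by rw [hρ, map_pow, map_pow, ← pow_mul, mul_comm, pow_mul, hy3, one_pow]))
      (by rw [hρG, ← conj_pow, hbinv, inv_pow]) (hρG ▸ pow_mem hycen _) hJρ
    show C3 ≤ target
    rw [← hz3 _ hρC3 hρ1, zpowers_le]
    exact ⟨ρ, hcon K hK hKL hρK, rfl⟩
  -- Frattini
  set L0 := K'.map L.subtype with hL0
  have hL0L : L0 ≤ L := map_subtype_le _
  have hfrat : ∀ n : L, ∃ l ∈ K', ((l⁻¹ * n : L) : G) ∈ M ∧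
      (J).map (MulAut.conj (l : G)).toMonoidHom = (J).map (MulAut.conj (n : G)).toMonoidHom := by
    intro n
    have hJL0 : J ≤ L0 := fun j hj => ⟨⟨j, hJL hj⟩, subset_normalClosure hj, rfl⟩
    have hJnL0 : (J).map (MulAut.conj (n : G)).toMonoidHom ≤ L0 := by
      rintro _ ⟨j, hj, rfl⟩
      exact ⟨n * ⟨j, hJL hj⟩ * n⁻¹, (normalClosure_normal).conj_mem _ (show (⟨j, hJL hj⟩ : L) ∈ K' from subset_normalClosure hj) n, rfl⟩
    obtain ⟨S1, hS1, hJS1⟩ := exists_sylow (isPGroup_J c.hT) hJL0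
    obtain ⟨S2, hS2, hJS2⟩ := exists_sylow ((isPGroup_J c.hT).map _) hJnL0
    obtain ⟨l, hl, hlS⟩ := exists_conj_sylow hS1 hS2
    obtain ⟨l', hl', rfl⟩ := hl
    have e1 := thompson_eq_of_two hTL hS1.2.1 (hS1.1.trans hL0L) hJS1
    have hback : (S2.map (MulAut.conj (n : G)⁻¹).toMonoidHom).map (MulAut.conj (n : G)).toMonoidHom = S2 := by
      rw [Subgroup.map_map]
      ext x; simp [mul_assoc]
    have e2 : thompsonSubgroupOf 2 (S2.map (MulAut.conj (n : G)⁻¹).toMonoidHom) = J := by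
      refine thompson_eq_of_two hTL (hS2.2.1.map _) ?_ ?_
      · rintro _ ⟨x, hx, rfl⟩
        exact L.mul_mem (L.mul_mem (L.inv_mem n.2) (hL0L (hS2.1 hx))) (L.inv_mem (L.inv_mem n.2))
      · intro j hj
        exact ⟨_, hJS2 ⟨j, hj, rfl⟩, by simp [mul_assoc]⟩
    have e3 : (J).map (MulAut.conj (l' : G)).toMonoidHom = (J).map (MulAut.conj (n : G)).toMonoidHom := by
      have k1 : (thompsonSubgroupOf 2 S1).map (MulAut.conj (l' : G)).toMonoidHom = thompsonSubgroupOf 2 S2 := by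
        rw [Thompson.map_thompsonSubgroupOf _ _ (MulAut.conj (l' : G)).injective.injOn, ← hlS]
        rfl
      have k2 : (thompsonSubgroupOf 2 (S2.map (MulAut.conj (n : G)⁻¹).toMonoidHom)).map
          (MulAut.conj (n : G)).toMonoidHom = thompsonSubgroupOf 2 S2 := by
        rw [Thompson.map_thompsonSubgroupOf _ _ (MulAut.conj (n : G)).injective.injOn, hback]
      rw [e1] at k1
      rw [e2] at k2
      exact k1.trans k2.symm
    refine ⟨l', hl', hNJ ⟨(l'⁻¹ * n : L).2, ?_⟩, e3⟩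
    show ((l'⁻¹ * n : L) : G) ∈ normalizer (J : Set G)
    rw [Core.mem_normalizer_iff_map_conj]
    calc (J).map (MulAut.conj ((l'⁻¹ * n : L) : G)).toMonoidHom
        = ((J).map (MulAut.conj (n : G)).toMonoidHom).map (MulAut.conj (l' : G)⁻¹).toMonoidHom := by
          rw [Subgroup.map_map]; congr 1; ext x; simp [mul_assoc]
      _ = ((J).map (MulAut.conj (l' : G)).toMonoidHom).map (MulAut.conj (l' : G)⁻¹).toMonoidHom := by rw [e3]
      _ = J := by rw [Subgroup.map_map]; ext x; simp [mul_assoc]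
  have hHt : H ≤ target := by
    rw [hH, map_le_iff_le_comap, hK', ← SetLike.coe_subset_coe]
    show ((normalClosure _ : Subgroup L) : Set L) ⊆ _
    rw [normalClosure, SetLike.coe_subset_coe, closure_le]
    intro y hy
    obtain ⟨x, hx, hxy⟩ := Group.mem_conjugatesOfSet_iff.1 hy
    obtain ⟨n, rfl⟩ := isConj_iff.1 hxy
    obtain ⟨l, hl, -, hJl⟩ := hfrat n
    obtain ⟨j, hj, hjx⟩ := hJl.ge ⟨(x : G), hx, rfl⟩
    have he : n * x * n⁻¹ = l * ⟨j, hJL hj⟩ * l⁻¹ := Subtype.ext hjx.symm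
    rw [he]
    suffices hsub : (J).subgroupOf L ≤
        (target.comap (FF.toModel V')).comap (MulAut.conj l).toMonoidHom from hsub (show (⟨j, hJL hj⟩ : L) ∈ (J).subgroupOf L from hj)
    rw [← map_le_map_iff_of_injective L.subtype_injective, map_subgroupOf_eq_of_le hJL]
    conv_lhs => rw [thompsonSubgroupOf_eq_sSup]
    rw [sSup_le_iff]
    intro A hA a ha
    refine ⟨⟨a, hJL (le_J hA ha)⟩, ?_, rfl⟩
    show FF.toModel V' (l * ⟨a, hJL (le_J hA ha)⟩ * l⁻¹) ∈ target
    have hA1 : (A.subgroupOf L).map (FF.toModel V') ≤ H := by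
      refine map_mono fun u hu => subset_normalClosure (le_J hA hu)
    have hA2 : IsBestOffenderOn 2 (FF.modV V') ((A.subgroupOf L).map (FF.toModel V')) := by
      have := hbest A hA 1
      rwa [show (A.subgroupOf L).map (MulAut.conj (1 : L)).toMonoidHom = A.subgroupOf L by ext z; simp] at this
    obtain ⟨k, B, hB, -, hsup⟩ := (hs.isOff_of_best hA1 hA2).decomp hs
    have hle : (A.subgroupOf L).map (FF.toModel V') ≤
        target.comap (MulAut.conj (FF.toModel V' l)).toMonoidHom := by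
      rw [← hsup]
      refine iSup_le fun i z hz => ?_
      obtain ⟨h1, h2⟩ := hblock A hA (B i) (hB i).2 (hB i).1
      exact h1 ((mem_normalizer_iff.1 (h2 ⟨l, hl, rfl⟩) z).1 (mem_sup_right hz))
    have := hle ⟨⟨a, hJL (le_J hA ha)⟩, ha, rfl⟩
    rw [map_mul, map_mul, map_inv]
    exact this
  apply hLM
  intro x hx
  obtain ⟨l, hl, hlM, -⟩ := hfrat ⟨x, hx⟩
  obtain ⟨m, hm, hme⟩ := hHt ⟨l, hl, rfl⟩
  have hlm : ((l * m⁻¹ : L) : G) ∈ M := hDM ((hker _).1 (by rw [map_mul, map_inv, hme, mul_inv_cancel]))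
  have h1 := mul_mem (mul_mem hlm (show (m : G) ∈ M from hm)) hlM
  simpa [mul_assoc] using h1

end Cfsg.Lib.Local.JComp
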