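import Cfsg.Agent.Lib.Local.JComp.Center

/-!
# `Ω₁Z(J(T))` is small
-/

set_option autoImplicit false
set_option linter.style.haveILetI false

namespace Cfsg.Lib.Local.JComp

open Subgroup Cfsg Cfsg.Lib Cfsg.Lib.Local.GlaubermanZJ

universe u

variable {G : Type u} [Group G] [Finite G] {T K L M X : Subgroup G}

theorem card_Z0_le_four {H₁ H₂ : Subgroup G} (h1 : H₁ ≤ Z0 T) (h2 : H₂ ≤ Z0 T)
    (e1 : Nat.card ↥(Z0 T) = 2 * Nat.card H₁) (e2 : Nat.card ↥(Z0 T) = 2 * Nat.card H₂)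
    (hi : H₁ ⊓ H₂ = ⊥) : Nat.card ↥(Z0 T) ≤ 4 := by
  have h := Timmesfeld.card_mul_card_le H₁ H₂
  rw [hi, card_bot, one_mul] at h
  have h3 := h.trans (card_le_of_le (sup_le h1 h2))
  have h4 : Nat.card ↥(Z0 T) * Nat.card ↥(Z0 T) ≤ 4 * Nat.card ↥(Z0 T) := by
    calc Nat.card ↥(Z0 T) * Nat.card ↥(Z0 T) = 4 * (Nat.card H₁ * Nat.card H₂) := by
          nth_rewrite 1 [e1]; rw [e2]; ring
      _ ≤ _ := Nat.mul_le_mul_left _ h3
  exact Nat.le_of_mul_le_mul_right h4 Nat.card_pos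

theorem centralizes_of_card_le_two (hT : IsPGroup 2 T) (hX : X ≤ T) (hTX : T ≤ normalizer (X : Set G))
    (hX2 : Nat.card X ≤ 2) : X ≤ centralizer (T : Set G) := fun x hx => by
  refine mem_centralizer_iff.2 fun t ht => mul_inv_eq_iff_eq_mul.1 ?_
  by_cases h1 : x = 1
  · rw [h1]; group
  have h := (mem_normalizer_iff.1 (hTX ht) x).1 hx
  by_contra hne
  have h3 : ({1, x, t * x * t⁻¹} : Set G).ncard ≤ Nat.card X := by
    rw [show Nat.card X = (X : Set G).ncard from Nat.card_coe_set_eq _]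
    refine Set.ncard_le_ncard ?_ (Set.toFinite _)
    rintro e (rfl | rfl | rfl)
    exacts [one_mem X, hx, h]
  have h4 : t * x * t⁻¹ ≠ 1 := fun e => h1 (conj_eq_one_iff.1 e)
  rw [Set.ncard_insert_of_notMem (by simp [Ne.symm h1, Ne.symm h4]) (Set.toFinite _),
    Set.ncard_pair (Ne.symm hne)] at h3
  omega

theorem max_ea_map {A : Subgroup G} (hA : IsMaxEAIn 2 T A) (e : G ≃* G) :
    IsMaxEAIn 2 (T.map e.toMonoidHom) (A.map e.toMonoidHom) := by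
  refine ⟨map_mono hA.1, Thompson.isEA_map _ hA.2.1, fun C hC hCe => ?_⟩
  rw [BaumannBlock.card_map_mulEquiv, ← BaumannBlock.card_map_mulEquiv e.symm C]
  refine hA.2.2 _ ?_ (Thompson.isEA_map _ hCe)
  rintro _ ⟨x, hx, rfl⟩
  obtain ⟨y, hy, rfl⟩ := hC hx
  show e.symm (e y) ∈ T
  rw [MulEquiv.symm_apply_apply]
  exact hy

theorem maxElemAbelianOrder_map (X : Subgroup G) (e : G ≃* G) :
    maxElemAbelianOrder (X.map e.toMonoidHom) = maxElemAbelianOrder X := by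
  obtain ⟨A, hA⟩ := exists_isMaxEAIn (p := 2) X
  rw [maxElemAbelianOrder_eq hA, maxElemAbelianOrder_eq (max_ea_map hA e), BaumannBlock.card_map_mulEquiv]

/-- A Sylow subgroup of `L` dominates all 2-subgroups of `L` in the lexicographic order. -/
theorem lex_le (hTL : IsSylowTwoIn T L) (hX : IsPGroup 2 X) (hXL : X ≤ L) :
    maxElemAbelianOrder X ≤ maxElemAbelianOrder T ∧
      (maxElemAbelianOrder X = maxElemAbelianOrder T →
        Nat.card ↥(thompsonSubgroupOf 2 X) ≤ Nat.card ↥(thompsonSubgroupOf 2 T) ∧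
        Nat.card X ≤ Nat.card T) := by
  obtain ⟨T', hT', hXT'⟩ := exists_sylow hX hXL
  obtain ⟨n, -, hn⟩ := exists_conj_sylow hTL hT'
  obtain ⟨A, hA⟩ := exists_isMaxEAIn (p := 2) T
  obtain ⟨B, hB⟩ := exists_isMaxEAIn (p := 2) X
  have hA' : IsMaxEAIn 2 T' (A.map (MulAut.conj n).toMonoidHom) := hn ▸ max_ea_map hA (MulAut.conj n)
  have hc : maxElemAbelianOrder T = Nat.card ↥(A.map (MulAut.conj n).toMonoidHom) := by
    rw [BaumannBlock.card_map_mulEquiv, maxElemAbelianOrder_eq hA]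
  refine ⟨?_, fun he => ⟨?_, ?_⟩⟩
  · rw [hc, maxElemAbelianOrder_eq hB]
    exact hA'.2.2 B (hB.1.trans hXT') hB.2.1
  · rw [← BaumannBlock.card_map_mulEquiv (MulAut.conj n) (thompsonSubgroupOf 2 T), thompson_map, hn]
    refine card_le_of_le ?_
    conv_lhs => rw [thompsonSubgroupOf_eq_sSup]
    rw [thompsonSubgroupOf_eq_sSup]
    refine sSup_le_sSup fun C hC => ⟨hC.1.trans hXT', hC.2.1, fun D hD hDe => ?_⟩
    calc Nat.card D ≤ Nat.card ↥(A.map (MulAut.conj n).toMonoidHom) := hA'.2.2 D hD hDe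
      _ = maxElemAbelianOrder X := by rw [← hc, he]
      _ = Nat.card C := maxElemAbelianOrder_eq hC
      _ ≤ Nat.card C := le_rfl
  · rw [← BaumannBlock.card_map_mulEquiv (MulAut.conj n) T, hn]
    exact card_le_of_le hXT'

variable {S : Sylow 2 G} (b : Base S T M) (hLmax : IsMaximalTwoLocal L)
include b hLmax

/-- Components of `L` and of a proper conjugate of `L` share no central element. -/
theorem Base.inf_conj_eq_bot (hJL : thompsonSubgroupOf 2 T ≤ L) {K₁ K₂ : Subgroup G}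
    (h₁ : IsJComponent T K₁) (hM₁ : ¬ K₁ ≤ M) (hL₁ : K₁ ≤ L) (h₂ : IsJComponent T K₂) (hM₂ : ¬ K₂ ≤ M)
    (hL₂ : K₂ ≤ L) {n : G} (hn : n ∉ L) :
    Hof T K₁ ⊓ (Hof T K₂).map (MulAut.conj n).toMonoidHom = ⊥ := by
  refine (eq_bot_iff_forall _).2 fun x hx => ?_
  by_contra hx1
  obtain ⟨y, hy, rfl⟩ := hx.2
  refine hn (b.fusion_mem hLmax hJL h₁ hM₁ hL₁ h₂ hM₂ hL₂ hy ?_ hx.1)
  rintro rfl
  exact hx1 (map_one _)

/-- If `N(J(T))` leaves `L`, then `Ω₁Z(J(T))` has order at most 4 and `T` normalizes `K`. -/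
theorem Base.small_of_moved (hTL : T ≤ L) (hK : IsJComponent T K) (hKM : ¬ K ≤ M) (hKL : K ≤ L) {n : G}
    (hnJ : n ∈ normalizer (thompsonSubgroupOf 2 T : Set G)) (hn : n ∉ L) :
    Nat.card ↥(Z0 T) ≤ 4 ∧ T ≤ normalizer (K : Set G) ∧
      Hof T K ⊓ (Hof T K).map (MulAut.conj n).toMonoidHom = ⊥ := by
  have hJL : thompsonSubgroupOf 2 T ≤ L := (map_subtype_le _).trans hTL
  have hnZ : (Z0 T).map (MulAut.conj n).toMonoidHom = Z0 T :=
    Core.map_conj_eq_of_mem_normalizer (normalizer_J_le_Z0 hnJ)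
  have hmapZ : ∀ K', (Hof T K').map (MulAut.conj n).toMonoidHom ≤ Z0 T := fun K' =>
    (map_mono inf_le_left).trans hnZ.le
  have hi := b.inf_conj_eq_bot hLmax hJL hK hKM hKL hK hKM hKL hn
  obtain ⟨-, hc⟩ := b.center_split hK
  have hcm : Nat.card ↥(Z0 T) = 2 * Nat.card ↥((Hof T K).map (MulAut.conj n).toMonoidHom) := by
    rw [BaumannBlock.card_map_mulEquiv]; exact hc
  have h4 := card_Z0_le_four inf_le_left (hmapZ K) hc hcm hi
  refine ⟨h4, ?_, hi⟩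
  by_contra hTK
  obtain ⟨t, ht, htK⟩ := SetLike.not_le_iff_exists.1 hTK
  have htJ := T_le_normalizer_J T ht
  set K' := K.map (MulAut.conj t).toMonoidHom with hK'
  obtain ⟨hK'c, hK'M⟩ : IsJComponent T K' ∧ ¬ K' ≤ M := b.conj_component hK hKM htJ
  have hK'L : K' ≤ L := by
    rintro _ ⟨k, hk, rfl⟩
    exact L.mul_mem (L.mul_mem (hTL ht) (hKL hk)) (L.inv_mem (hTL ht))
  have hne := b.wOf_conj_ne hK hKM htK
  have h12 := b.fixed_le_Hof hLmax hJL hK hKM hKL hK'c hK'L hne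
  have h21 := b.fixed_le_Hof hLmax hJL hK'c hK'M hK'L hK hKL hne.symm
  obtain ⟨-, hc'⟩ := b.center_split hK'c
  have hH2 : Nat.card ↥(Hof T K) ≤ 2 := by omega
  have hH'2 : Nat.card ↥(Hof T K') ≤ 2 := by omega
  obtain ⟨r₁, hr₁, hr₁1⟩ := fixed_exists b.isPGroup hK
  obtain ⟨r₂, hr₂, hr₂1⟩ := fixed_exists b.isPGroup hK'c
  have hr₂H := h12 hr₂
  have hr₁H := h21 hr₁
  have h12' : r₁ ≠ r₂ := fun h => hr₁1
    (mem_bot.1 ((Hof_inf_fixed hK).le ⟨h ▸ hr₂H, hr₁⟩))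
  have hmem : ∀ {H : Subgroup G} {x y : G}, Nat.card H ≤ 2 → x ∈ H → y ∈ H → x ≠ 1 → y ≠ 1 → x = y := by
    intro H x y hH hx hy hx1 hy1
    by_contra hxy
    have h3 : ({1, x, y} : Set G).ncard ≤ Nat.card H := by
      rw [show Nat.card H = (H : Set G).ncard from Nat.card_coe_set_eq _]
      refine Set.ncard_le_ncard ?_ (Set.toFinite _)
      rintro e (rfl | rfl | rfl)
      exacts [one_mem H, hx, hy]
    rw [Set.ncard_insert_of_notMem (by simp [Ne.symm hx1, Ne.symm hy1]) (Set.toFinite _),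
      Set.ncard_pair hxy] at h3
    omega
  set a₁ := n * r₁ * n⁻¹ with ha₁
  set a₂ := n * r₂ * n⁻¹ with ha₂
  have ha₁m : a₁ ∈ (Hof T K').map (MulAut.conj n).toMonoidHom := ⟨r₁, hr₁H, rfl⟩
  have ha₂m : a₂ ∈ (Hof T K).map (MulAut.conj n).toMonoidHom := ⟨r₂, hr₂H, rfl⟩
  have ha₁1 : a₁ ≠ 1 := fun h => hr₁1 (conj_eq_one_iff.1 h)
  have ha₂1 : a₂ ≠ 1 := fun h => hr₂1 (conj_eq_one_iff.1 h)
  have hd : ∀ {H H' : Subgroup G} {x y : G}, H ⊓ H' = ⊥ → x ∈ H → y ∈ H' → x ≠ 1 → x ≠ y :=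
    fun hb hx hy hx1 e => hx1 (mem_bot.1 (hb.le ⟨hx, e ▸ hy⟩))
  have d1 := hd hi hr₂H ha₂m hr₂1
  have d2 := hd (b.inf_conj_eq_bot hLmax hJL hK hKM hKL hK'c hK'M hK'L hn) hr₂H ha₁m hr₂1
  have d3 := hd (b.inf_conj_eq_bot hLmax hJL hK'c hK'M hK'L hK hKM hKL hn) hr₁H ha₂m hr₁1
  have d4 := hd (b.inf_conj_eq_bot hLmax hJL hK'c hK'M hK'L hK'c hK'M hK'L hn) hr₁H ha₁m hr₁1
  have d5 : a₁ ≠ a₂ := fun h => h12' (mul_left_cancel (mul_right_cancel h))
  have h5 : ({1, r₁, r₂, a₁, a₂} : Set G).ncard ≤ Nat.card ↥(Z0 T) := by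
    rw [show Nat.card ↥(Z0 T) = ((Z0 T) : Set G).ncard from Nat.card_coe_set_eq _]
    refine Set.ncard_le_ncard ?_ (Set.toFinite _)
    rintro e (rfl | rfl | rfl | rfl | rfl)
    exacts [one_mem _, hr₁H.1, hr₂H.1, hmapZ _ ha₁m, hmapZ _ ha₂m]
  rw [Set.ncard_insert_of_notMem (by simp [Ne.symm hr₁1, Ne.symm hr₂1, Ne.symm ha₁1, Ne.symm ha₂1])
      (Set.toFinite _),
    Set.ncard_insert_of_notMem (by simp [h12', d3, d4]) (Set.toFinite _),
    Set.ncard_insert_of_notMem (by simp [d1, d2]) (Set.toFinite _),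
    Set.ncard_pair d5] at h5
  omega

omit hLmax in
/-- A Sylow subgroup of `L` that is not one of `G` is normalized outside `L`. -/
theorem Base.exists_moved (hTL : IsSylowTwoIn T L) {P : Subgroup G} (hP : IsPGroup 2 P) (hTP : T < P) :
    ∃ n ∈ P, n ∈ normalizer (T : Set G) ∧ n ∉ T ∧ n ∉ L ∧
      n ∈ normalizer (thompsonSubgroupOf 2 T : Set G) := by
  haveI : Fact (Nat.Prime 2) := ⟨Nat.prime_two⟩
  obtain ⟨n, ⟨hnP, hnT⟩, hn⟩ := SetLike.exists_of_lt (Cfsg.Lib.Fusion.lt_inf_normalizer hP hTP)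
  refine ⟨n, hnP, hnT, hn, fun hnL => hn ?_, Thompson.normalizer_le_normalizer_thompsonSubgroupOf T hnT⟩
  exact (eq_of_two hTL (hP.to_le (sup_le hTP.le (zpowers_le.2 hnP))) le_sup_left
    (sup_le hTL.1 (zpowers_le.2 hnL))).le (mem_sup_right (mem_zpowers n))

/-- A 2-local subgroup over `T` outside `L`, when `T` is Sylow in `G` and `N(J(T)) ≤ L`. -/
theorem Base.small_of_other_local (hTL : IsSylowTwoIn T L) (hK : IsJComponent T K) (hKM : ¬ K ≤ M)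
    (hKL : K ≤ L) (P : Sylow 2 G) (hTP : T = (P : Subgroup G))
    (hNJ : normalizer (thompsonSubgroupOf 2 T : Set G) ≤ L) {N : Subgroup G} (hN : IsTwoLocal N)
    (hTN : T ≤ N) (hNL : ¬ N ≤ L) :
    Nat.card ↥(Z0 T) ≤ 4 ∧ T ≤ normalizer (K : Set G) := by
  have hJL : thompsonSubgroupOf 2 T ≤ L := (map_subtype_le _).trans hTL.1
  have hT' : T ∈ maxStraddlingTwoSubgroups L := by
    refine ⟨⟨b.isPGroup, b.T_ne_bot, hTL.1, N, hN, hTN, hNL⟩, fun X hX => ?_⟩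
    obtain ⟨h1, h2⟩ := lex_le hTL hX.1 hX.2.2.1
    exact ⟨h1, fun he => ⟨(h2 he).1, fun _ => (h2 he).2⟩⟩
  have b' : Base P T L := ⟨b.char2, b.solv, b.hZ, hTP ▸ hNJ, hT'⟩
  obtain ⟨-, -, K', hK', hK'N, hK'L⟩ :=
    straddle_component b.char2 b.solv b.hZ P (hTP ▸ hNJ) hT' hN hNL hTN
  -- no central element is shared
  have hno : ∀ {K₁}, IsJComponent T K₁ → ¬ K₁ ≤ M → K₁ ≤ L → ∀ x ∈ Hof T K₁, x ∈ Hof T K' → x = 1 := by
    intro K₁ h₁ hM₁ hL₁ x hx hx'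
    by_contra hx1
    exact hK'L fun k hk => b.centralizer_le hLmax hJL h₁ hM₁ hL₁ hx hx1
      (mem_centralizer_singleton_iff.2 (mem_centralizer_iff.1 hx'.2 k hk))
  obtain ⟨-, hc⟩ := b.center_split hK
  obtain ⟨-, hc'⟩ := b'.center_split hK'
  have h4 := card_Z0_le_four inf_le_left inf_le_left hc hc'
    ((eq_bot_iff_forall _).2 fun x hx => hno hK hKM hKL x hx.1 hx.2)
  refine ⟨h4, ?_⟩
  by_contra hTK
  obtain ⟨t, ht, htK⟩ := SetLike.not_le_iff_exists.1 hTK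
  have htJ := T_le_normalizer_J T ht
  set K₂ := K.map (MulAut.conj t).toMonoidHom with hK₂
  obtain ⟨hK₂c, hK₂M⟩ : IsJComponent T K₂ ∧ ¬ K₂ ≤ M := b.conj_component hK hKM htJ
  have hK₂L : K₂ ≤ L := by
    rintro _ ⟨k, hk, rfl⟩
    exact L.mul_mem (L.mul_mem (hTL.1 ht) (hKL hk)) (L.inv_mem (hTL.1 ht))
  have hne := b.wOf_conj_ne hK hKM htK
  have h12 := b.fixed_le_Hof hLmax hJL hK hKM hKL hK₂c hK₂L hne
  have h21 := b.fixed_le_Hof hLmax hJL hK₂c hK₂M hK₂L hK hKL hne.symm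
  obtain ⟨r₁, hr₁, hr₁1⟩ := fixed_exists b.isPGroup hK
  set r₂ := t * r₁ * t⁻¹ with hr₂def
  have hr₂ := b.fixed_conj htJ hr₁ hK
  have hr₂1 : r₂ ≠ 1 := fun h => hr₁1 (conj_eq_one_iff.1 h)
  have hr12 : r₁ ≠ r₂ := fun h => hr₁1 (mem_bot.1 ((Hof_inf_fixed hK).le ⟨h ▸ h12 hr₂, hr₁⟩))
  have hr₁Z : r₁ ∈ Z0 T := (h21 hr₁).1
  have hr₂Z : r₂ ∈ Z0 T := (h12 hr₂).1
  -- the elements of `Z0`
  have hall : ∀ x ∈ Z0 T, x = 1 ∨ x = r₁ ∨ x = r₂ ∨ x = r₁ * r₂ := by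
    intro x hx
    by_contra hne'
    push Not at hne'
    have hp1 : r₁ * r₂ ≠ 1 := fun h => hr12 (by
      rw [eq_inv_of_mul_eq_one_left h, inv_eq_of_mul_eq_one_right (Z0_sq hr₂Z)])
    have h5 : ({1, r₁, r₂, r₁ * r₂, x} : Set G).ncard ≤ Nat.card ↥(Z0 T) := by
      rw [show Nat.card ↥(Z0 T) = ((Z0 T) : Set G).ncard from Nat.card_coe_set_eq _]
      refine Set.ncard_le_ncard ?_ (Set.toFinite _)
      rintro e (rfl | rfl | rfl | rfl | rfl)
      exacts [one_mem _, hr₁Z, hr₂Z, mul_mem hr₁Z hr₂Z, hx]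
    rw [Set.ncard_insert_of_notMem (by simp [Ne.symm hr₁1, Ne.symm hr₂1, Ne.symm hp1, Ne.symm hne'.1])
        (Set.toFinite _),
      Set.ncard_insert_of_notMem (by simp [hr12, hr₂1, Ne.symm hne'.2.1]) (Set.toFinite _),
      Set.ncard_insert_of_notMem (by simp [hr₁1, Ne.symm hne'.2.2.1]) (Set.toFinite _),
      Set.ncard_pair hne'.2.2.2.symm] at h5
    omega
  -- the central part of `T`
  have hΩ : ∀ z ∈ omegaCenterOf T, z = 1 ∨ z = r₁ * r₂ := by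
    intro z hz
    have hzt : t * z * t⁻¹ = z := by
      have hzT : Commute z t := BaumannBlock.omegaOneCenter_commute (p := 2) hz ht
      rw [← hzT.eq, mul_inv_cancel_right]
    rcases hall z (omega_le_Z0 hz) with h | h | h | h
    · exact Or.inl h
    · exact absurd (h ▸ hzt : t * r₁ * t⁻¹ = r₁).symm hr12
    · rw [h] at hzt
      exact absurd (mul_left_cancel (mul_right_cancel hzt)).symm hr12
    · exact Or.inr h
  have hK'2 : 1 < Nat.card ↥(Hof T K') := by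
    have h3 : 2 < Nat.card ↥(Z0 T) := by
      have : ({1, r₁, r₂} : Set G).ncard ≤ Nat.card ↥(Z0 T) := by
        rw [show Nat.card ↥(Z0 T) = ((Z0 T) : Set G).ncard from Nat.card_coe_set_eq _]
        refine Set.ncard_le_ncard ?_ (Set.toFinite _)
        rintro e (rfl | rfl | rfl)
        exacts [one_mem _, hr₁Z, hr₂Z]
      rw [Set.ncard_insert_of_notMem (by simp [Ne.symm hr₁1, Ne.symm hr₂1]) (Set.toFinite _),
        Set.ncard_pair hr12] at this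
      omega
    omega
  haveI := Finite.one_lt_card_iff_nontrivial.1 hK'2
  obtain ⟨⟨x, hx⟩, hx1⟩ := exists_ne (1 : ↥(Hof T K'))
  have hx1' : x ≠ 1 := fun h => hx1 (Subtype.ext h)
  have hxe : x = r₁ * r₂ := by
    rcases hall x hx.1 with h | h | h | h
    · exact absurd h hx1'
    · exact absurd (hno hK₂c hK₂M hK₂L x (h ▸ h21 hr₁) hx) hx1'
    · exact absurd (hno hK hKM hKL x (h ▸ h12 hr₂) hx) hx1'
    · exact h
  refine hK'L fun k hk => hNJ (Thompson.normalizer_le_normalizer_thompsonSubgroupOf T ?_)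
  rw [hTP]
  refine b.hZ P ?_
  rw [← hTP]
  refine mem_centralizer_iff.2 fun z hz => ?_
  rcases hΩ z hz with h | h
  · rw [h, one_mul, mul_one]
  · rw [h, ← hxe]
    exact (mem_centralizer_iff.1 hx.2 k hk).symm

end Cfsg.Lib.Local.JComp
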