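import Cfsg.Agent.S2947
import Cfsg.Agent.Lib.Local.JComp.Moved
import Cfsg.Agent.Lib.Local.JComp.Endgame

/-!
# All 2-local subgroups over the Sylow subgroup lie in `L`
-/

set_option autoImplicit false
set_option linter.style.haveILetI false

namespace Cfsg.Lib.Local.JComp

open Subgroup Cfsg Cfsg.Lib Cfsg.Lib.Local.GlaubermanZJ

universe u

variable {G : Type u} [Group G] [Finite G] {T K L M X : Subgroup G}

theorem straddling_map {e : G ≃* G} (he : L.map e.toMonoidHom = L) (hX : X ∈ straddlingTwoSubgroups L) :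
    X.map e.toMonoidHom ∈ straddlingTwoSubgroups L := by
  obtain ⟨hp, hX1, hXL, N, ⟨U, hU, hU1, rfl⟩, hXN, hNL⟩ := hX
  refine ⟨hp.map _, fun h => hX1 ((map_eq_bot_iff_of_injective X e.injective).1 h),
    (map_mono hXL).trans he.le, (normalizer (U : Set G)).map e.toMonoidHom,
    ⟨U.map e.toMonoidHom, hU.map _, fun h => hU1 ((map_eq_bot_iff_of_injective U e.injective).1 h),
      map_equiv_normalizer_eq U e⟩, map_mono hXN, fun h => hNL ?_⟩
  rw [← he] at h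
  exact (map_le_map_iff_of_injective e.injective).1 h

theorem maxStraddling_map {e : G ≃* G} (he : L.map e.toMonoidHom = L)
    (hX : X ∈ maxStraddlingTwoSubgroups L) : X.map e.toMonoidHom ∈ maxStraddlingTwoSubgroups L := by
  refine ⟨straddling_map he hX.1, fun Y hY => ?_⟩
  rw [maxElemAbelianOrder_map, ← thompson_map, BaumannBlock.card_map_mulEquiv,
    BaumannBlock.card_map_mulEquiv]
  exact hX.2 Y hY

theorem exists_maxStraddling (h : straddlingTwoSubgroups L ≠ ∅) :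
    ∃ X, X ∈ maxStraddlingTwoSubgroups L := by
  classical
  set s := straddlingTwoSubgroups L
  obtain ⟨X₁, h1, h1'⟩ := s.exists_max_image (fun X => maxElemAbelianOrder X) (Set.toFinite _)
    (Set.nonempty_iff_ne_empty.2 h)
  set s₂ := {X ∈ s | maxElemAbelianOrder X = maxElemAbelianOrder X₁}
  obtain ⟨X₂, h2, h2'⟩ := s₂.exists_max_image (fun X => Nat.card ↥(thompsonSubgroupOf 2 X)) (Set.toFinite _)
    ⟨X₁, h1, rfl⟩
  set s₃ := {X ∈ s₂ | Nat.card ↥(thompsonSubgroupOf 2 X) = Nat.card ↥(thompsonSubgroupOf 2 X₂)}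
  obtain ⟨X₃, h3, h3'⟩ := s₃.exists_max_image (fun X => Nat.card X) (Set.toFinite _) ⟨X₂, h2, rfl⟩
  refine ⟨X₃, h3.1.1, fun Y hY => ⟨h3.1.2 ▸ h1' Y hY, fun he => ⟨h3.2 ▸ h2' Y ⟨hY, he.trans h3.1.2⟩,
    fun hj => h3' Y ⟨⟨hY, he.trans h3.1.2⟩, hj.trans h3.2⟩⟩⟩⟩

theorem card_le_of_sq {Z H Y : Subgroup G} (hZ : Z ≤ Y) (hH : H ≤ Y) (hZH : Z ⊓ H = ⊥)
    (hY : Nat.card Y = 2 * Nat.card H) : Nat.card Z ≤ 2 := by
  have h := Timmesfeld.card_mul_card_le Z H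
  rw [hZH, card_bot, one_mul] at h
  have h' := h.trans (card_le_of_le (sup_le hZ hH))
  rw [hY] at h'
  exact Nat.le_of_mul_le_mul_right h' Nat.card_pos

variable {S : Sylow 2 G} (b : Base S T M) (hLmax : IsMaximalTwoLocal L) (hTL : IsSylowTwoIn T L)
  (hK : IsJComponent T K) (hKM : ¬ K ≤ M) (hKL : K ≤ L)
  (P : Sylow 2 G) (hTP : T = (P : Subgroup G))
  (hNJ : normalizer (thompsonSubgroupOf 2 T : Set G) ≤ L)
include b hLmax hTL hK hKM hKL hTP hNJ

omit P hTP hNJ in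
/-- When `L` is strongly embedded, nothing in `Ω₁Z(J(T))` centralizes `K`. -/
theorem Base.Hof_eq_bot_of_se (hSE : IsStronglyEmbedded L) : Hof T K = ⊥ := by
  haveI : Fact (Nat.Prime 2) := ⟨Nat.prime_two⟩
  refine (eq_bot_iff_forall _).2 fun x hx => ?_
  by_contra hx1
  have hJL : thompsonSubgroupOf 2 T ≤ L := (map_subtype_le _).trans hTL.1
  obtain ⟨r₀, hr₀, hr₀1⟩ := fixed_exists b.isPGroup hK
  have hr₀Z := fixed_le_Z0 b.isPGroup hK hr₀
  set y := x * r₀ with hy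
  have hyZ : y ∈ Z0 T := mul_mem hx.1 hr₀Z
  have hy1 : y ≠ 1 := fun h => hx1 (mem_bot.1 ((Hof_inf_fixed hK).le ⟨hx, by
    rw [eq_inv_of_mul_eq_one_left h]; exact Subgroup.inv_mem _ hr₀⟩))
  -- some component has `y` as its fixed point
  obtain ⟨n, hnL, hnJ, hny⟩ : ∃ n ∈ L, n ∈ normalizer (thompsonSubgroupOf 2 T : Set G) ∧
      n * y * n⁻¹ = r₀ := by
    have ho : ∀ {z}, z ∈ Z0 T → z ≠ 1 → orderOf z = 2 := fun hz hz1 =>
      orderOf_eq_prime (by rw [pow_two]; exact Z0_sq hz) hz1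
    obtain ⟨g, hg⟩ := isConj_iff.1 (Cfsg.Lib.Invol.se_isConj hSE (ho hyZ hy1) (ho hr₀Z hr₀1))
    have hgL : g ∈ L := Cfsg.Lib.Invol.se_mem hSE (hJL (Z0_le_J hyZ)) (ho hyZ hy1)
      (hg ▸ hJL (Z0_le_J hr₀Z))
    set Y := L ⊓ Subgroup.centralizer ({r₀} : Set G) with hY
    set J' := (thompsonSubgroupOf 2 T).map (MulAut.conj g).toMonoidHom with hJ'
    have h1 : thompsonSubgroupOf 2 T ≤ Y := le_inf hJL fun j hj =>
      mem_centralizer_singleton_iff.2 (Z0_commute hr₀Z hj).eq.symm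
    have h2 : J' ≤ Y := by
      rintro _ ⟨j, hj, rfl⟩
      refine ⟨L.mul_mem (L.mul_mem hgL (hJL hj)) (L.inv_mem hgL), mem_centralizer_singleton_iff.2 ?_⟩
      rw [← hg]
      exact ((Z0_commute hyZ hj).symm.map (MulAut.conj g)).eq
    obtain ⟨S₁, hS₁, hJS₁⟩ := JComp.exists_sylow (isPGroup_J b.isPGroup) h1
    obtain ⟨S₂, hS₂, hJS₂⟩ := JComp.exists_sylow ((isPGroup_J b.isPGroup).map _) h2
    have e1 := thompson_eq_of_two hTL hS₁.2.1 (hS₁.1.trans inf_le_left) hJS₁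
    have e2 : thompsonSubgroupOf 2 S₂ = J' := by
      rw [hJ', thompson_map]
      exact thompson_eq_of_two (sylow_conj hgL hTL) hS₂.2.1 (hS₂.1.trans inf_le_left)
        (by rw [← thompson_map]; exact hJS₂)
    obtain ⟨h, hh, hhS⟩ := exists_conj_sylow hS₂ hS₁
    refine ⟨h * g, L.mul_mem hh.1 hgL, Core.mem_normalizer_iff_map_conj.2 ?_, ?_⟩
    · conv_rhs => rw [← e1, ← hhS, ← thompson_map, e2, hJ']
      rw [Subgroup.map_map]
      congr 1
      ext v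
      simp [mul_assoc]
    · calc h * g * y * (h * g)⁻¹ = h * (g * y * g⁻¹) * h⁻¹ := by group
        _ = r₀ := by rw [hg, mem_centralizer_singleton_iff.1 hh.2, mul_inv_cancel_right]
  set K' := K.map (MulAut.conj n⁻¹).toMonoidHom with hK'
  obtain ⟨hK'c, hK'M⟩ : IsJComponent T K' ∧ ¬ K' ≤ M := b.conj_component hK hKM (inv_mem hnJ)
  have hK'L : K' ≤ L := by
    rintro _ ⟨k, hk, rfl⟩
    exact L.mul_mem (L.mul_mem (L.inv_mem hnL) (hKL hk)) (L.inv_mem (L.inv_mem hnL))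
  have hyR : y ∈ wOf K' ⊓ Subgroup.centralizer (thompsonSubgroupOf 2 T : Set G) := by
    have h : n⁻¹ * r₀ * n⁻¹⁻¹ = y := by rw [← hny]; group
    rw [← h]
    exact b.fixed_conj (inv_mem hnJ) hr₀ hK
  by_cases hW : wOf K = wOf K'
  · rw [← hW] at hyR
    have e := fixed_unique b.isPGroup hK hr₀ hr₀1 hyR hy1
    exact hx1 (mul_eq_right.1 e)
  · have := mul_mem (inv_mem hx) (b.fixed_le_Hof hLmax hJL hK hKM hKL hK'c hK'L hW hyR)
    rw [hy, inv_mul_cancel_left] at this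
    exact hr₀1 (mem_bot.1 ((Hof_inf_fixed hK).le ⟨this, hr₀⟩))

/-- A maximal straddling subgroup below the Sylow subgroup `T` of `L`, with its component. -/
structure Below (T L : Subgroup G) (P : Sylow 2 G) (T₁ K₁ L₁ : Subgroup G) : Prop where
  base : Base P T₁ L
  le : T₁ ≤ T
  comp : IsJComponent T₁ K₁
  out : ¬ K₁ ≤ L
  max : IsMaximalTwoLocal L₁
  sylow : IsSylowTwoIn T₁ L₁
  compLe : K₁ ≤ L₁
  norm : T₁ ≤ normalizer (K₁ : Set G)
  card : Nat.card ↥(Z0 T₁) ≤ 4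
  normHof : T₁ ≤ normalizer (Hof T₁ K₁ : Set G)
  centHof : Hof T₁ K₁ ≤ T₁ ⊓ Subgroup.centralizer (T₁ : Set G)
  omega : omegaCenterOf T ≤ omegaCenterOf T₁
  omegaHof : omegaCenterOf T ⊓ Hof T₁ K₁ = ⊥
  omegaTwo : Nat.card ↥(omegaCenterOf T) ≤ 2
  moved : ∃ n ∈ T, n ∈ normalizer (T₁ : Set G) ∧ n ∉ T₁

omit hK hKM hKL in
/-- Below the Sylow subgroup there is a component outside `L`. -/
theorem Base.exists_below (hall : ∀ N, IsTwoLocal N → T ≤ N → N ≤ L)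
    (hst : straddlingTwoSubgroups L ≠ ∅) : ∃ T₁ K₁ L₁, Below T L P T₁ K₁ L₁ := by
  haveI : Fact (Nat.Prime 2) := ⟨Nat.prime_two⟩
  -- a largest straddling subgroup below `T`
  obtain ⟨T₁, hT₁, hT₁T⟩ : ∃ T₁ ∈ maxStraddlingTwoSubgroups L, T₁ ≤ T := by
    obtain ⟨X, hX⟩ := exists_maxStraddling hst
    obtain ⟨T', hT', hXT'⟩ := JComp.exists_sylow hX.1.1 hX.1.2.2.1
    obtain ⟨n, hn, hnT⟩ := exists_conj_sylow hT' hTL
    exact ⟨_, maxStraddling_map (Core.map_conj_eq_of_mem_normalizer (le_normalizer hn)) hX,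
      (map_mono hXT').trans hnT.le⟩
  have b₁ : Base P T₁ L := ⟨b.char2, b.solv, b.hZ, hTP ▸ hNJ, hT₁⟩
  obtain ⟨hT₁p, hT₁1, hT₁L, N, hN, hT₁N, hNL⟩ := hT₁.1
  obtain ⟨-, -, K₁, hK₁, hK₁N, hK₁L⟩ :=
    straddle_component b.char2 b.solv b.hZ P (hTP ▸ hNJ) hT₁ hN hNL hT₁N
  have hlt : T₁ < T := lt_of_le_of_ne hT₁T fun h => hNL (hall N hN (h ▸ hT₁N))
  set L₁ := normalizer (pCoreOf 2 (classJoin T₁ K₁) : Set G) with hL₁
  obtain ⟨hL₁max, -⟩ := b₁.attached_maximal hK₁ hK₁L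
  obtain ⟨hL₁2, hK₁L₁, hJ₁L₁⟩ := b₁.attached_facts hK₁ hK₁L
  have hL₁L : ¬ L₁ ≤ L := fun h => hK₁L (hK₁L₁.trans h)
  have hNL₁ : N ≤ L₁ := b₁.le_attached hK₁ hK₁L hN hK₁N ((map_subtype_le _).trans hT₁N)
  have hT₁L₁ : IsSylowTwoIn T₁ L₁ :=
    (straddle_component b.char2 b.solv b.hZ P (hTP ▸ hNJ) hT₁ hL₁2 hL₁L (hT₁N.trans hNL₁)).1
  obtain ⟨n₀, hn₀T, hn₀N, hn₀T₁, hn₀L₁, hn₀J⟩ := b₁.exists_moved hT₁L₁ b.isPGroup hlt
  obtain ⟨h4₁, hTK₁, -⟩ := b₁.small_of_moved hL₁max hT₁L₁.1 hK₁ hK₁L hK₁L₁ hn₀J hn₀L₁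
  obtain ⟨hsplit₁, hc₁⟩ := b₁.center_split hK₁
  have hH₁T : T₁ ≤ normalizer (Hof T₁ K₁ : Set G) := by
    refine le_trans (le_inf ((T_le_normalizer_J T₁).trans normalizer_J_le_Z0) ?_) inf_normalizer_le_normalizer_inf
    intro t ht
    refine mem_normalizer_fintype fun c hc => mem_centralizer_iff.2 fun k hk => ?_
    have h1 := mem_centralizer_iff.1 hc _ ((mem_normalizer_iff''.1 (hTK₁ ht) k).1 hk)
    calc k * (t * c * t⁻¹) = t * ((t⁻¹ * k * t) * c) * t⁻¹ := by group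
      _ = t * (c * (t⁻¹ * k * t)) * t⁻¹ := by rw [h1]
      _ = t * c * t⁻¹ * k := by group
  have hH₁c : Hof T₁ K₁ ≤ T₁ ⊓ Subgroup.centralizer (T₁ : Set G) := le_inf (inf_le_left.trans Z0_le)
    (centralizes_of_card_le_two hT₁p (inf_le_left.trans Z0_le) hH₁T (by omega))
  -- `Ω₁Z(T)` has order 2
  have hΩ₁ : omegaCenterOf T ≤ omegaCenterOf T₁ :=
    omega_le_of_sylow (twoLocal_facts b.char2 hL₁2) hT₁L₁ hT₁T
  have hΩH : omegaCenterOf T ⊓ Hof T₁ K₁ = ⊥ := by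
    refine (eq_bot_iff_forall _).2 fun x hx => ?_
    by_contra hx1
    refine hK₁L fun k hk => hall _ (centralizer_twoLocal (Z0_sq hx.2.1) hx1) (fun t ht => ?_)
      (mem_centralizer_singleton_iff.2 (mem_centralizer_iff.1 hx.2.2 k hk))
    exact mem_centralizer_singleton_iff.2
      (BaumannBlock.omegaOneCenter_commute (p := 2) hx.1 ht).eq.symm
  have hΩ2 : Nat.card ↥(omegaCenterOf T) ≤ 2 :=
    card_le_of_sq (hΩ₁.trans omega_le_Z0) inf_le_left hΩH hc₁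
  exact ⟨T₁, K₁, L₁, b₁, hT₁T, hK₁, hK₁L, hL₁max, hT₁L₁, hK₁L₁, hTK₁, h4₁, hH₁T, hH₁c, hΩ₁, hΩH,
    hΩ2, n₀, hn₀T, hn₀N, hn₀T₁⟩

omit hK hKM hKL in
/-- `T` cannot move an involution `r` only inside `r ⟨z⟩` when `L` controls the fusion of `r` and `z`. -/
theorem Base.fusion_trap (hall : ∀ N, IsTwoLocal N → T ≤ N → N ≤ L)
    (hst : straddlingTwoSubgroups L ≠ ∅) {r z : G} (hz : z ∈ omegaCenterOf T) (hz1 : z ≠ 1) (hrT : r ∈ T)
    (hr2 : r * r = 1) (hr1 : r ≠ 1) (hrz : r ≠ z)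
    (hrmove : ∀ t ∈ T, t * r * t⁻¹ = r ∨ t * r * t⁻¹ = r * z)
    (hzL : Subgroup.centralizer ({z} : Set G) ≤ L) (hrC : Subgroup.centralizer ({r} : Set G) ≤ L)
    (hrzC : Subgroup.centralizer ({r * z} : Set G) ≤ L)
    (hrL : ∀ g : G, g * r * g⁻¹ = r * z → g ∈ L) : False := by
  haveI : Fact (Nat.Prime 2) := ⟨Nat.prime_two⟩
  obtain ⟨T₁, K₁, L₁, hb⟩ := b.exists_below hLmax hTL P hTP hNJ hall hst
  obtain ⟨b₁, hT₁T, hK₁, hK₁L, hL₁max, hT₁L₁, hK₁L₁, hTK₁, h4₁, hH₁T, hH₁c, hΩ₁, hΩH, -, -⟩ := id hb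
  have hT₁ := b₁.hT
  have hT₁p := b₁.isPGroup
  have hT₁1 := b₁.T_ne_bot
  obtain ⟨hsplit₁, hc₁⟩ := b₁.center_split hK₁
  have hzc : ∀ t ∈ T, Commute t z := fun t ht =>
    (BaumannBlock.omegaOneCenter_commute (p := 2) hz ht).symm
  have hz2 : z * z = 1 := by rw [← pow_two]; exact BaumannBlock.omegaOneCenter_pow (p := 2) hz
  have hrz1 : r * z ≠ 1 := fun h => hrz (by
    rw [eq_inv_of_mul_eq_one_left h, inv_eq_of_mul_eq_one_right hz2])
  have hzT₁ : z ∈ T₁ := BaumannBlock.omegaOneCenter_le 2 _ (hΩ₁ hz)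
  have hzZ₁ : z ∈ Z0 T₁ := omega_le_Z0 (hΩ₁ hz)
  -- `r` lies in `T₁`
  set E₁ := wOf K₁ ⊔ Hof T₁ K₁ with hE₁
  have hR₂T₁ : pCoreOf 2 K₁ ≤ T₁ := by
    have hle : T₁ ≤ normalizer (pCoreOf 2 K₁ : Set G) := hTK₁.trans (normalizer_le_normalizer_pCoreOf K₁)
    exact le_sup_left.trans (eq_of_two hT₁L₁
      (IsPGroup.to_sup_of_normal_left' isPGroup_core hT₁p hle) le_sup_right
      (sup_le (core_le.trans hK₁L₁) hT₁L₁.1)).le
  have hWT₁ : wOf K₁ ≤ T₁ := W_le_core.trans hR₂T₁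
  have hE₁T₁ : E₁ ≤ T₁ := sup_le hWT₁ (hH₁c.trans inf_le_left)
  have hzE₁ : z ∈ E₁ := by
    have h : z ∈ Hof T₁ K₁ ⊔ (wOf K₁ ⊓ Subgroup.centralizer (thompsonSubgroupOf 2 T₁ : Set G)) :=
      hsplit₁.symm ▸ hzZ₁
    exact sup_le (le_sup_right : Hof T₁ K₁ ≤ E₁) (inf_le_left.trans le_sup_left) h
  have hrT₁ : r ∈ T₁ := by
    have hrN : r ∈ normalizer (T₁ : Set G) := mem_normalizer_fintype fun t ht => by
      rcases hrmove t⁻¹ (T.inv_mem (hT₁T ht)) with h | h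
      · have : r * t * r⁻¹ = t := by
          calc r * t * r⁻¹ = t * (t⁻¹ * r * t⁻¹⁻¹) * r⁻¹ := by group
            _ = t := by rw [h]; group
        rw [this]; exact ht
      · have : r * t * r⁻¹ = t * z := by
          calc r * t * r⁻¹ = t * (t⁻¹ * r * t⁻¹⁻¹) * r⁻¹ := by group
            _ = t * (r * z * r⁻¹) := by rw [h]; group
            _ = t * z := by rw [(hzc r (hrT)).eq, mul_inv_cancel_right]
        rw [this]; exact T₁.mul_mem ht hzT₁
    have hrE : r ∈ normalizer (E₁ : Set G) := mem_normalizer_fintype fun e he => by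
      rcases hrmove e⁻¹ (T.inv_mem (hT₁T (hE₁T₁ he))) with h | h
      · have : r * e * r⁻¹ = e := by
          calc r * e * r⁻¹ = e * (e⁻¹ * r * e⁻¹⁻¹) * r⁻¹ := by group
            _ = e := by rw [h]; group
        rw [this]; exact he
      · have : r * e * r⁻¹ = e * z := by
          calc r * e * r⁻¹ = e * (e⁻¹ * r * e⁻¹⁻¹) * r⁻¹ := by group
            _ = e * (r * z * r⁻¹) := by rw [h]; group
            _ = e * z := by rw [(hzc r (hrT)).eq, mul_inv_cancel_right]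
        rw [this]; exact E₁.mul_mem he hzE₁
    have hgen : ∀ g, g ∈ normalizer (wOf K₁ : Set G) → g ∈ normalizer (Hof T₁ K₁ : Set G) →
        g ∈ normalizer (E₁ : Set G) := fun g hg hg' => mem_normalizer_fintype fun e he => by
      suffices hle : E₁ ≤ E₁.comap (MulAut.conj g).toMonoidHom from hle he
      exact sup_le (fun w hw => mem_sup_left ((mem_normalizer_iff.1 hg w).1 hw))
        fun h hh => mem_sup_right ((mem_normalizer_iff.1 hg' h).1 hh)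
    have hTE : T₁ ≤ normalizer (E₁ : Set G) := fun t ht =>
      hgen t (normalizer_le_normalizer_W (hTK₁ ht)) (hH₁T ht)
    have hKE : K₁ ≤ normalizer (E₁ : Set G) := fun k hk =>
      hgen k (normalizer_le_normalizer_W (le_normalizer hk)) (mem_normalizer_fintype fun h hh => by
        rw [mem_centralizer_iff.1 hh.2 k hk, mul_inv_cancel_right]; exact hh)
    set X := T₁ ⊔ zpowers r
    have hXT : X ≤ T := sup_le hT₁T (zpowers_le.2 (hrT))
    have hXs : X ∈ straddlingTwoSubgroups L :=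
      ⟨b.isPGroup.to_le hXT, fun h => hT₁1 (le_bot_iff.1 (le_sup_left.trans h.le)), hXT.trans hTL.1,
        normalizer (E₁ : Set G), ⟨E₁, hT₁p.to_le hE₁T₁,
          fun h => W_ne_bot hK₁ (le_bot_iff.1 (le_sup_left.trans h.le)), rfl⟩,
        sup_le hTE (zpowers_le.2 hrE), fun h => hK₁L (hKE.trans h)⟩
    have hcard := (thompson_eq_of_straddling hT₁ hXs ((map_subtype_le _).trans le_sup_left)).2
    exact (eq_of_le_of_card_ge (le_sup_left : T₁ ≤ X) hcard).ge (mem_sup_right (mem_zpowers r))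
  -- some element of `T₁` moves `r`
  have he : ∃ e ∈ T₁, e * r * e⁻¹ = r * z := by
    by_contra hc
    push Not at hc
    have hcen : ∀ e ∈ T₁, Commute e r := fun e he =>
      mul_inv_eq_iff_eq_mul.1 ((hrmove e (hT₁T he)).resolve_right (hc e he))
    have hrZ₁ : r ∈ Z0 T₁ := omega_le_Z0 (subset_closure
      ⟨⟨hrT₁, mem_centralizer_iff.2 fun e he => (hcen e he).eq⟩, by rw [pow_two]; exact hr2⟩)
    have hzn : z ∉ Hof T₁ K₁ := fun h => hz1 (mem_bot.1 (hΩH.le ⟨hz, h⟩))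
    have hH1 : Hof T₁ K₁ ≠ ⊥ := by
      intro h
      rw [h, card_bot] at hc₁
      have h3 : ({1, z, r} : Set G).ncard ≤ Nat.card ↥(Z0 T₁) := by
        rw [show Nat.card ↥(Z0 T₁) = ((Z0 T₁) : Set G).ncard from Nat.card_coe_set_eq _]
        refine Set.ncard_le_ncard ?_ (Set.toFinite _)
        rintro e (rfl | rfl | rfl)
        exacts [one_mem _, hzZ₁, hrZ₁]
      rw [Set.ncard_insert_of_notMem (by simp [Ne.symm hz1, Ne.symm hr1]) (Set.toFinite _),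
        Set.ncard_pair (Ne.symm hrz)] at h3
      omega
    obtain ⟨⟨h, hh⟩, hh1'⟩ := ne_bot_iff_exists_ne_one.1 hH1
    have hh1 : h ≠ 1 := fun e => hh1' (Subtype.ext e)
    have hhz : h ≠ z := fun e => hzn (e ▸ hh)
    have h5 : h = r ∨ h = r * z := by
      by_contra hne
      push Not at hne
      have h5 : ({1, z, r, r * z, h} : Set G).ncard ≤ Nat.card ↥(Z0 T₁) := by
        rw [show Nat.card ↥(Z0 T₁) = ((Z0 T₁) : Set G).ncard from Nat.card_coe_set_eq _]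
        refine Set.ncard_le_ncard ?_ (Set.toFinite _)
        rintro e (rfl | rfl | rfl | rfl | rfl)
        exacts [one_mem _, hzZ₁, hrZ₁, mul_mem hrZ₁ hzZ₁, hh.1]
      rw [Set.ncard_insert_of_notMem (by simp [Ne.symm hz1, Ne.symm hr1, Ne.symm hrz1, Ne.symm hh1])
          (Set.toFinite _),
        Set.ncard_insert_of_notMem (by simp [Ne.symm hrz, hr1, Ne.symm hhz]) (Set.toFinite _),
        Set.ncard_insert_of_notMem (by simp [hz1, Ne.symm hne.1]) (Set.toFinite _),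
        Set.ncard_pair hne.2.symm] at h5
      omega
    refine hK₁L fun k hk => ?_
    have hk' : k ∈ Subgroup.centralizer ({h} : Set G) :=
      mem_centralizer_singleton_iff.2 (mem_centralizer_iff.1 hh.2 k hk)
    rcases h5 with rfl | rfl
    exacts [hrC hk', hrzC hk']
  -- an element normalizing `T₁` outside `L₁` fixing `r`
  obtain ⟨n₀, hn₀T, hn₀N, hn₀T₁⟩ := hb.moved
  obtain ⟨n, hnT, hnN, hnT₁, hnr⟩ : ∃ n ∈ T, n ∈ normalizer (T₁ : Set G) ∧ n ∉ T₁ ∧ n * r * n⁻¹ = r := by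
    rcases hrmove n₀ hn₀T with h | h
    · exact ⟨n₀, hn₀T, hn₀N, hn₀T₁, h⟩
    · obtain ⟨e, he, her⟩ := he
      refine ⟨n₀ * e, T.mul_mem hn₀T (hT₁T he), mul_mem hn₀N (le_normalizer he),
        fun hm => hn₀T₁ (by simpa using T₁.mul_mem hm (T₁.inv_mem he)), ?_⟩
      calc n₀ * e * r * (n₀ * e)⁻¹ = n₀ * (e * r * e⁻¹) * n₀⁻¹ := by group
        _ = (n₀ * r * n₀⁻¹) * (n₀ * z * n₀⁻¹) := by rw [her]; group
        _ = r := by rw [h, (hzc n₀ hn₀T).eq, mul_inv_cancel_right, mul_assoc, hz2, mul_one]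
  set C₁ := T₁ ⊓ Subgroup.centralizer (wOf K₁ : Set G) with hC₁
  have hKC : K₁ ≤ normalizer (C₁ : Set G) := by
    intro k hk
    refine mem_normalizer_fintype fun c hc => ?_
    set X := K₁ ⊔ T₁ with hX
    have hd : k * c * k⁻¹ ∈ X :=
      X.mul_mem (X.mul_mem (mem_sup_left hk) (mem_sup_right hc.1)) (X.inv_mem (mem_sup_left hk))
    have hdW : k * c * k⁻¹ ∈ Subgroup.centralizer (wOf K₁ : Set G) := mem_centralizer_iff.2 fun w hw => by
      have h1 := mem_centralizer_iff.1 hc.2 _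
        ((mem_normalizer_iff''.1 (normalizer_le_normalizer_W (le_normalizer hk)) w).1 hw)
      calc w * (k * c * k⁻¹) = k * ((k⁻¹ * w * k) * c) * k⁻¹ := by group
        _ = k * (c * (k⁻¹ * w * k)) * k⁻¹ := by rw [h1]
        _ = k * c * k⁻¹ * w := by group
    refine ⟨?_, hdW⟩
    rw [hX, sup_comm] at hd
    obtain ⟨t, ht, k', hk', e⟩ := (Core.mem_sup_of_le_normalizer hTK₁).1 hd
    rw [← e] at hdW ⊢
    refine T₁.mul_mem ht (hR₂T₁ ?_)
    by_cases htW : t ∈ Subgroup.centralizer (wOf K₁ : Set G)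
    · refine (inf_centralizer_eq hK₁).le ⟨hk', ?_⟩
      simpa using (Subgroup.centralizer (wOf K₁ : Set G)).mul_mem
        ((Subgroup.centralizer (wOf K₁ : Set G)).inv_mem htW) hdW
    · obtain ⟨r₀, hr₀, hr₀1⟩ := fixed_exists hT₁p hK₁
      refine fix_le_core hK₁ hk' hr₀.1 hr₀1 (mul_inv_eq_iff_eq_mul.2 ?_)
      have h1 : Commute (t * k') r₀ := (mem_centralizer_iff.1 hdW r₀ hr₀.1).symm
      have h2 := T_commute_fixed hT₁p hK₁ hTK₁ ht hr₀
      simpa using (h2.inv_left.mul_left h1).eq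
  have hnC : n ∉ normalizer (C₁ : Set G) := by
    intro hn
    have hC1 : C₁ ≠ ⊥ := fun h => W_ne_bot hK₁ (le_bot_iff.1 ((le_inf hWT₁ fun w hw =>
      mem_centralizer_iff.2 fun v hv => (W_commute hv hw).eq).trans h.le))
    have hTC : T₁ ≤ normalizer (C₁ : Set G) := fun t ht => mem_normalizer_fintype fun c hc => by
      refine ⟨T₁.mul_mem (T₁.mul_mem ht hc.1) (T₁.inv_mem ht), mem_centralizer_iff.2 fun w hw => ?_⟩
      have h1 := mem_centralizer_iff.1 hc.2 _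
        ((mem_normalizer_iff''.1 (normalizer_le_normalizer_W (hTK₁ ht)) w).1 hw)
      calc w * (t * c * t⁻¹) = t * ((t⁻¹ * w * t) * c) * t⁻¹ := by group
        _ = t * (c * (t⁻¹ * w * t)) * t⁻¹ := by rw [h1]
        _ = t * c * t⁻¹ * w := by group
    have hnL₁ : n ∈ L₁ := b₁.eq_max hL₁max hK₁L₁ hK₁ hK₁L ((map_subtype_le _).trans hT₁L₁.1)
      ⟨C₁, hT₁p.to_le inf_le_left, hC1, rfl⟩ hKC ((map_subtype_le _).trans hTC) hn
    exact hnT₁ ((eq_of_two hT₁L₁ (b.isPGroup.to_le (sup_le hT₁T (zpowers_le.2 hnT))) le_sup_left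
      (sup_le hT₁L₁.1 (zpowers_le.2 hnL₁))).le (mem_sup_right (mem_zpowers n)))
  have hρL : ∀ ρ ∈ K₁, ρ ∉ pCoreOf 2 K₁ → ρ ∉ L := fun ρ hρ hn hρL =>
    hK₁L ((eq_of_core_lt hK₁ le_sup_left (sup_le core_le (zpowers_le.2 hρ))
      (fun h => hn (h (mem_sup_right (mem_zpowers ρ))))).ge.trans
      (sup_le ((hR₂T₁.trans hT₁T).trans hTL.1) (zpowers_le.2 hρL)))
  have d : SplitData T₁ K₁ L r z := ⟨hT₁p, hK₁, hTK₁, hWT₁, hKC, hrT₁, hr2,
    fun t ht => hzc t (hT₁T ht), hz2, hz1, fun t ht => hrmove t (hT₁T ht), hρL, hzL⟩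
  exact d.false_of_fixes_W hH₁c inf_le_right (fun h hh => Z0_sq hh.1) hzE₁ hrL he
    (d.r_fixes_W hnN hnr (by rw [(hzc n hnT).eq, mul_inv_cancel_right]) hnC)


/-- The part centralizing `K` is trivial. -/
theorem Base.Hof_eq_bot (hO : pCore 2 G = ⊥) (hall : ∀ N, IsTwoLocal N → T ≤ N → N ≤ L) :
    Hof T K = ⊥ := by
  haveI : Fact (Nat.Prime 2) := ⟨Nat.prime_two⟩
  by_cases hst : straddlingTwoSubgroups L = ∅
  · exact b.Hof_eq_bot_of_se hLmax hTL hK hKM hKL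
      ((Cfsg.Agent.S2947.result b.char2 b.solv b.hZ hO P L hLmax.1 (hTP ▸ hNJ)).2 hst)
  have hJL : thompsonSubgroupOf 2 T ≤ L := (map_subtype_le _).trans hTL.1
  obtain ⟨T₁, K₁, L₁, hb⟩ := b.exists_below hLmax hTL P hTP hNJ hall hst
  have hΩ2 := hb.omegaTwo
  obtain ⟨⟨z, hz⟩, hz1'⟩ := ne_bot_iff_exists_ne_one.1 (omega_ne_bot b.isPGroup b.T_ne_bot)
  have hz1 : z ≠ 1 := fun h => hz1' (Subtype.ext h)
  have hzc : ∀ t ∈ T, Commute t z := fun t ht =>
    (BaumannBlock.omegaOneCenter_commute (p := 2) hz ht).symm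
  have hz2 : z * z = 1 := by rw [← pow_two]; exact BaumannBlock.omegaOneCenter_pow (p := 2) hz
  have hzΩ : ∀ w ∈ omegaCenterOf T, w ≠ 1 → w = z := by
    intro w hw hw1
    by_contra hne
    have h3 : ({1, z, w} : Set G).ncard ≤ Nat.card ↥(omegaCenterOf T) := by
      rw [show Nat.card ↥(omegaCenterOf T) = ((omegaCenterOf T) : Set G).ncard from Nat.card_coe_set_eq _]
      refine Set.ncard_le_ncard ?_ (Set.toFinite _)
      rintro e (rfl | rfl | rfl)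
      exacts [one_mem _, hz, hw]
    rw [Set.ncard_insert_of_notMem (by simp [Ne.symm hz1, Ne.symm hw1]) (Set.toFinite _),
      Set.ncard_pair (Ne.symm hne)] at h3
    omega
  have hzN : Subgroup.centralizer ({z} : Set G) ≤ normalizer (T : Set G) := by
    intro g hg
    rw [hTP]
    refine b.hZ P ?_
    rw [← hTP]
    refine mem_centralizer_iff.2 fun w hw => ?_
    by_cases hw1 : w = 1
    · rw [hw1, one_mul, mul_one]
    · rw [hzΩ w hw hw1]; exact (mem_centralizer_singleton_iff.1 hg).symm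
  have hzL : Subgroup.centralizer ({z} : Set G) ≤ L := fun g hg =>
    hNJ (Thompson.normalizer_le_normalizer_thompsonSubgroupOf T (hzN hg))
  -- the conjugates of `K` and their central parts
  have hconj : ∀ t ∈ T, IsJComponent T (K.map (MulAut.conj t).toMonoidHom) ∧
      ¬ K.map (MulAut.conj t).toMonoidHom ≤ M ∧ K.map (MulAut.conj t).toMonoidHom ≤ L := fun t ht =>
    ⟨(b.conj_component hK hKM (T_le_normalizer_J T ht)).1,
      (b.conj_component hK hKM (T_le_normalizer_J T ht)).2, by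
        rintro _ ⟨k, hk, rfl⟩
        exact L.mul_mem (L.mul_mem (hTL.1 ht) (hKL hk)) (L.inv_mem (hTL.1 ht))⟩
  have hzH : ∀ t ∈ T, z ∉ Hof T (K.map (MulAut.conj t).toMonoidHom) := by
    intro t ht h
    refine not_le_normalizer (hconj t ht).1 b.isPGroup (map_subtype_le _) fun k hk => hzN ?_
    exact mem_centralizer_singleton_iff.2 (mem_centralizer_iff.1 h.2 k hk)
  have hZT : T ≤ normalizer (Z0 T : Set G) := (T_le_normalizer_J T).trans normalizer_J_le_Z0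
  have hmove : ∀ (t : G), t ∈ T → ∀ x ∈ Hof T K, t * x * t⁻¹ ∈ Hof T (K.map (MulAut.conj t).toMonoidHom) := by
    intro t ht x hx
    refine ⟨(mem_normalizer_iff.1 (hZT ht) x).1 hx.1, mem_centralizer_iff.2 ?_⟩
    rintro _ ⟨k, hk, rfl⟩
    show t * k * t⁻¹ * (t * x * t⁻¹) = t * x * t⁻¹ * (t * k * t⁻¹)
    calc t * k * t⁻¹ * (t * x * t⁻¹) = t * (k * x) * t⁻¹ := by group
      _ = t * (x * k) * t⁻¹ := by rw [mem_centralizer_iff.1 hx.2 k hk]
      _ = _ := by group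
  have hcover : ∀ x ∈ Z0 T, x ≠ z → ∃ t ∈ T, x ∈ Hof T (K.map (MulAut.conj t).toMonoidHom) := by
    intro x hx hxz
    by_contra hcon
    push Not at hcon
    let D : Subgroup G :=
      { carrier := {v | v ∈ Z0 T ∧ ∀ t ∈ T, v ∈ Hof T (K.map (MulAut.conj t).toMonoidHom)}
        one_mem' := ⟨one_mem _, fun _ _ => one_mem _⟩
        mul_mem' := fun ha hb => ⟨mul_mem ha.1 hb.1, fun t ht => mul_mem (ha.2 t ht) (hb.2 t ht)⟩
        inv_mem' := fun ha => ⟨inv_mem ha.1, fun t ht => inv_mem (ha.2 t ht)⟩ }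
    have hDT : T ≤ normalizer (D : Set G) := by
      intro s hs
      refine mem_normalizer_fintype fun v hv => ⟨(mem_normalizer_iff.1 (hZT hs) v).1 hv.1, fun t ht => ?_⟩
      have h' := hv.2 (s⁻¹ * t) (T.mul_mem (T.inv_mem hs) ht)
      refine ⟨(mem_normalizer_iff.1 (hZT hs) v).1 hv.1, mem_centralizer_iff.2 ?_⟩
      rintro _ ⟨k, hk, rfl⟩
      have hk' := mem_centralizer_iff.1 h'.2 _ ⟨k, hk, rfl⟩
      change s⁻¹ * t * k * (s⁻¹ * t)⁻¹ * v = v * (s⁻¹ * t * k * (s⁻¹ * t)⁻¹) at hk'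
      show t * k * t⁻¹ * (s * v * s⁻¹) = s * v * s⁻¹ * (t * k * t⁻¹)
      calc t * k * t⁻¹ * (s * v * s⁻¹) = s * (s⁻¹ * t * k * (s⁻¹ * t)⁻¹ * v) * s⁻¹ := by group
        _ = s * (v * (s⁻¹ * t * k * (s⁻¹ * t)⁻¹)) * s⁻¹ := by rw [hk']
        _ = _ := by group
    have hzZ : z ∈ Z0 T := omega_le_Z0 hz
    have hxz' : x * z ∈ D := by
      refine ⟨mul_mem hx hzZ, fun t ht => ?_⟩
      obtain ⟨he, hc⟩ := b.center_split (hconj t ht).1
      have hn : wOf (K.map (MulAut.conj t).toMonoidHom) ⊓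
          Subgroup.centralizer (thompsonSubgroupOf 2 T : Set G) ≤
          normalizer (Hof T (K.map (MulAut.conj t).toMonoidHom) : Set G) :=
        fun r hr => mem_normalizer_fintype fun v hv => by
          rw [(Z0_comm (fixed_le_Z0 b.isPGroup (hconj t ht).1 hr) hv.1).eq, mul_inv_cancel_right]
          exact hv
      have hmem : ∀ v ∈ Z0 T, v ∉ Hof T (K.map (MulAut.conj t).toMonoidHom) → ∃ h ∈
          Hof T (K.map (MulAut.conj t).toMonoidHom), ∃ r ∈ wOf (K.map (MulAut.conj t).toMonoidHom) ⊓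
            Subgroup.centralizer (thompsonSubgroupOf 2 T : Set G), r ≠ 1 ∧ v = r * h := by
        intro v hv hvn
        rw [← he, sup_comm] at hv
        obtain ⟨r, hr, h, hh, e⟩ := (Core.mem_sup_of_le_normalizer hn).1 hv
        exact ⟨h, hh, r, hr, fun h1 => hvn (by rw [← e, h1, one_mul]; exact hh), e.symm⟩
      obtain ⟨h₁, hh₁, r₁, hr₁, hr₁1, hxe⟩ := hmem x hx (hcon t ht)
      obtain ⟨h₂, hh₂, r₂, hr₂, hr₂1, hze⟩ := hmem z hzZ (hzH t ht)
      have e12 := fixed_unique b.isPGroup (hconj t ht).1 hr₁ hr₁1 hr₂ hr₂1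
      rw [e12] at hze
      have e : x * z = h₁ * h₂ := by
        rw [hxe, hze]
        have h1Z := fixed_le_Z0 b.isPGroup (hconj t ht).1 hr₁
        calc r₁ * h₁ * (r₁ * h₂) = r₁ * (h₁ * r₁) * h₂ := by group
          _ = (r₁ * r₁) * h₁ * h₂ := by rw [(Z0_comm hh₁.1 h1Z).eq]; group
          _ = h₁ * h₂ := by rw [Z0_sq h1Z, one_mul]
      rw [e]
      exact mul_mem hh₁ hh₂
    have hxz1 : x * z ≠ 1 := fun h => hxz (by
      rw [eq_inv_of_mul_eq_one_left h, inv_eq_of_mul_eq_one_right hz2])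
    obtain ⟨w, hw, hw1, hwΩ⟩ := exists_fixed_mem b.isPGroup (fun v hv => Z0_le hv.1 : D ≤ T) hDT
      (fun h => hxz1 (by rw [h] at hxz'; exact mem_bot.1 hxz')) (fun v hv => Z0_sq hv.1)
    obtain rfl := hzΩ w hwΩ hw1
    exact hzH 1 (one_mem T) (hw.2 1 (one_mem T))
  -- suppose something is left
  refine by_contra fun hH => ?_
  obtain ⟨⟨x₀, hx₀⟩, hx₀1'⟩ := ne_bot_iff_exists_ne_one.1 hH
  have hx₀1 : x₀ ≠ 1 := fun h => hx₀1' (Subtype.ext h)
  -- an element `r` moved by `T` only inside `r ⟨z⟩`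
  obtain ⟨r, hrZ, hr1, hrz, hrmove⟩ : ∃ r ∈ Z0 T, r ≠ 1 ∧ r ≠ z ∧
      ∀ t ∈ T, t * r * t⁻¹ = r ∨ t * r * t⁻¹ = r * z := by
    set ζ := (zpowers z).subgroupOf T with hζ
    haveI : ζ.Normal := (normal_subgroupOf_iff_le_normalizer (zpowers_le.2
      (BaumannBlock.omegaOneCenter_le 2 _ hz))).2 fun t ht => mem_normalizer_fintype fun w hw => by
        obtain ⟨i, rfl⟩ := hw
        show t * z ^ i * t⁻¹ ∈ zpowers z
        rw [((hzc t ht).zpow_right i).eq, mul_inv_cancel_right]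
        exact zpow_mem (mem_zpowers z) i
    haveI : ((Z0 T).subgroupOf T).Normal := (normal_subgroupOf_iff_le_normalizer Z0_le).2 hZT
    set π := QuotientGroup.mk' ζ
    haveI : (((Z0 T).subgroupOf T).map π).Normal := Subgroup.Normal.map inferInstance π
      (QuotientGroup.mk'_surjective ζ)
    have hx₀z : x₀ ≠ z := fun h => hzH 1 (one_mem T) ⟨h ▸ hx₀.1, mem_centralizer_iff.2 (by
      rintro _ ⟨k, hk, rfl⟩
      show 1 * k * 1⁻¹ * z = z * (1 * k * 1⁻¹)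
      rw [one_mul, inv_one, mul_one, ← h]
      exact mem_centralizer_iff.1 hx₀.2 k hk)⟩
    have hzpow : ∀ w ∈ zpowers z, w = 1 ∨ w = z := by
      rintro w ⟨i, rfl⟩
      rcases Int.even_or_odd' i with ⟨k, rfl | rfl⟩
      · left; show z ^ (2 * k) = 1; rw [zpow_mul, zpow_two, hz2, one_zpow]
      · right; show z ^ (2 * k + 1) = z; rw [zpow_add_one, zpow_mul, zpow_two, hz2, one_zpow, one_mul]
    have hne : ((Z0 T).subgroupOf T).map π ≠ ⊥ := by
      intro h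
      have h1 : π ⟨x₀, Z0_le hx₀.1⟩ ∈ ((Z0 T).subgroupOf T).map π := mem_map_of_mem _ hx₀.1
      rw [h, mem_bot] at h1
      rcases hzpow x₀ (mem_subgroupOf.1 ((QuotientGroup.eq_one_iff _).1 h1)) with e | e
      exacts [hx₀1 e, hx₀z e]
    obtain ⟨⟨q, hq⟩, hq1⟩ := ne_bot_iff_exists_ne_one.1
      (PGroup.inf_center_ne_bot (b.isPGroup.to_quotient ζ) hne)
    obtain ⟨⟨r, hrT⟩, hr, rfl⟩ := hq.1
    have hq1' : π ⟨r, hrT⟩ ≠ 1 := fun h => hq1 (Subtype.ext h)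
    refine ⟨r, mem_subgroupOf.1 hr, fun h => hq1' ((QuotientGroup.eq_one_iff _).2 (mem_subgroupOf.2 ?_)),
      fun h => hq1' ((QuotientGroup.eq_one_iff _).2 (mem_subgroupOf.2 ?_)), fun t ht => ?_⟩
    · show r ∈ zpowers z
      rw [h]; exact one_mem _
    · show r ∈ zpowers z
      rw [h]; exact mem_zpowers z
    · have hc := mem_center_iff.1 hq.2 (π ⟨t, ht⟩)
      have hm : ((⟨r, hrT⟩ : T)⁻¹ * (⟨t, ht⟩ * ⟨r, hrT⟩ * (⟨t, ht⟩ : T)⁻¹)) ∈ ζ := by
        rw [← QuotientGroup.eq_one_iff]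
        show π ((⟨r, hrT⟩ : T)⁻¹ * (⟨t, ht⟩ * ⟨r, hrT⟩ * (⟨t, ht⟩ : T)⁻¹)) = 1
        rw [map_mul, map_mul, map_mul, map_inv, map_inv, hc, mul_inv_cancel_right, inv_mul_cancel]
      rcases hzpow _ (mem_subgroupOf.1 hm) with e | e
      · left
        exact (inv_mul_eq_one.1 e).symm
      · right
        exact inv_mul_eq_iff_eq_mul.1 e
  have hr2 : r * r = 1 := Z0_sq hrZ
  have hri : r⁻¹ = r := inv_eq_of_mul_eq_one_right hr2
  have hrzZ : r * z ∈ Z0 T := mul_mem hrZ (omega_le_Z0 hz)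
  have hrz1 : r * z ≠ 1 := fun h => hrz (by
    rw [eq_inv_of_mul_eq_one_left h, inv_eq_of_mul_eq_one_right hz2])
  obtain ⟨t₁, ht₁, hrH₁⟩ := hcover r hrZ hrz
  obtain ⟨t₂, ht₂, hrzH₂⟩ := hcover (r * z) hrzZ fun h => hr1 (mul_eq_right.1 h)
  have hrL : ∀ g : G, g * r * g⁻¹ = r * z → g ∈ L := fun g hg =>
    b.fusion_mem hLmax hJL (hconj t₂ ht₂).1 (hconj t₂ ht₂).2.1 (hconj t₂ ht₂).2.2
      (hconj t₁ ht₁).1 (hconj t₁ ht₁).2.1 (hconj t₁ ht₁).2.2 hrH₁ hr1 (hg.symm ▸ hrzH₂)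
  have hrC : Subgroup.centralizer ({r} : Set G) ≤ L :=
    b.centralizer_le hLmax hJL (hconj t₁ ht₁).1 (hconj t₁ ht₁).2.1 (hconj t₁ ht₁).2.2 hrH₁ hr1
  have hrzC : Subgroup.centralizer ({r * z} : Set G) ≤ L :=
    b.centralizer_le hLmax hJL (hconj t₂ ht₂).1 (hconj t₂ ht₂).2.1 (hconj t₂ ht₂).2.2 hrzH₂ hrz1
  exact b.fusion_trap hLmax hTL P hTP hNJ hall hst hz hz1 (Z0_le hrZ) hr2 hr1 hrz hrmove hzL hrC hrzC hrL

/-- Some 2-local subgroup over `T` is not inside `L`. -/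
theorem Base.false_of_all_local (hO : pCore 2 G = ⊥) (hTK : T ≤ normalizer (K : Set G))
    (hall : ∀ N, IsTwoLocal N → T ≤ N → N ≤ L) : False := by
  haveI : Fact (Nat.Prime 2) := ⟨Nat.prime_two⟩
  have hJL : thompsonSubgroupOf 2 T ≤ L := (map_subtype_le _).trans hTL.1
  have hH := b.Hof_eq_bot hLmax hTL hK hKM hKL P hTP hNJ hO hall
  obtain ⟨r₀, hr₀, hr₀1⟩ := fixed_exists b.isPGroup hK
  have hr₀Z := fixed_le_Z0 b.isPGroup hK hr₀
  have hZ2 : Nat.card ↥(Z0 T) = 2 := by rw [(b.center_split hK).2, hH, card_bot]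
  have hall' : ∀ w ∈ Z0 T, w = 1 ∨ w = r₀ := fun w hw => by
    by_contra hne
    push Not at hne
    have h3 : ({1, r₀, w} : Set G).ncard ≤ Nat.card ↥(Z0 T) := by
      rw [show Nat.card ↥(Z0 T) = ((Z0 T) : Set G).ncard from Nat.card_coe_set_eq _]
      refine Set.ncard_le_ncard ?_ (Set.toFinite _)
      rintro e (rfl | rfl | rfl)
      exacts [one_mem _, hr₀Z, hw]
    rw [Set.ncard_insert_of_notMem (by simp [Ne.symm hr₀1, Ne.symm hne.1]) (Set.toFinite _),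
      Set.ncard_pair hne.2.symm] at h3
    omega
  -- `L` normalizes `W`
  have hLW : L ≤ normalizer (wOf K : Set G) := by
    by_contra hc
    have hLM : ¬ L ≤ M := fun h => hKM (hKL.trans h)
    have hsame : ∀ {K'}, IsJComponent T K' → K' ≤ L → wOf K = wOf K' := fun h' hL' => by
      by_contra hne
      obtain ⟨r, hr, hr1⟩ := fixed_exists b.isPGroup h'
      have := b.fixed_le_Hof hLmax hJL hK hKM hKL h' hL' hne hr
      rw [hH] at this
      exact hr1 (mem_bot.1 this)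
    have hJQ : ¬ thompsonSubgroupOf 2 T ≤ pCoreOf 2 L :=
      (straddle_sylow S b.hMJ b.hT hLmax.1 hLM hTL (map_subtype_le _)).2.2.2
    obtain ⟨K', hK', hK'L, hK'W⟩ := (b.ctx hLmax.1 hLM hJL).exists_component_outside hTL hJQ
      (hTK.trans normalizer_le_normalizer_W) (fun n hn => by
        have hn' := hsame (b.conj_component hK hKM hn.2).1 (by
          rintro _ ⟨k, hk, rfl⟩
          exact L.mul_mem (L.mul_mem hn.1 (hKL hk)) (L.inv_mem hn.1))
        rw [wOf_map] at hn'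
        exact Core.mem_normalizer_iff_map_conj.2 hn'.symm) hc
    exact hK'W (by rw [hsame hK' hK'L]; exact le_normalizer.trans normalizer_le_normalizer_W)
  by_cases hst : straddlingTwoSubgroups L = ∅
  · have hSE := (Cfsg.Agent.S2947.result b.char2 b.solv b.hZ hO P L hLmax.1 (hTP ▸ hNJ)).2 hst
    obtain ⟨A, hA, hAW⟩ := exists_moving hK
    obtain ⟨a, haA, haW⟩ := SetLike.not_le_iff_exists.1 hAW
    have ha1 : a ≠ 1 := fun h => haW (h ▸ one_mem _)
    have hao : orderOf a = 2 := orderOf_eq_prime (hA.2.1.2 a haA) ha1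
    have hro : orderOf r₀ = 2 := orderOf_eq_prime (W_pow hr₀.1) hr₀1
    obtain ⟨g, hg⟩ := isConj_iff.1 (Cfsg.Lib.Invol.se_isConj hSE hro hao)
    have hgL : g ∈ L := Cfsg.Lib.Invol.se_mem hSE (hJL (Z0_le_J hr₀Z)) hro (hg ▸ hJL (le_J hA haA))
    have haW' : a ∈ wOf K := hg ▸ (mem_normalizer_iff.1 (hLW hgL) r₀).1 hr₀.1
    exact haW (mem_centralizer_iff.2 fun w hw => (W_commute hw haW').eq)
  have hr₀Ω : r₀ ∈ omegaCenterOf T := subset_closure ⟨⟨Z0_le hr₀Z, mem_centralizer_iff.2 fun t ht =>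
    (T_commute_fixed b.isPGroup hK hTK ht hr₀).eq⟩, W_pow hr₀.1⟩
  have hzL : Subgroup.centralizer ({r₀} : Set G) ≤ L := fun g hg => by
    refine hNJ (Thompson.normalizer_le_normalizer_thompsonSubgroupOf T ?_)
    rw [hTP]
    refine b.hZ P ?_
    rw [← hTP]
    refine mem_centralizer_iff.2 fun w hw => ?_
    rcases hall' w (omega_le_Z0 hw) with rfl | rfl
    · rw [one_mul, mul_one]
    · exact (mem_centralizer_singleton_iff.1 hg).symm
  obtain ⟨ρ, hρ, ho, hn, -⟩ := exists_rho hK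
  set y := ρ * r₀ * ρ⁻¹ with hy
  have hyW : y ∈ wOf K :=
    (mem_normalizer_iff.1 (normalizer_le_normalizer_W (le_normalizer hρ)) r₀).1 hr₀.1
  have hyr : y ≠ r₀ := fun h => hr₀1 (rho_fpf hK hρ ho hn hr₀.1 h)
  have hy1 : y ≠ 1 := fun h => hr₀1 (conj_eq_one_iff.1 h)
  have hyR : y ∉ wOf K ⊓ Subgroup.centralizer (thompsonSubgroupOf 2 T : Set G) := fun h =>
    hyr (fixed_unique b.isPGroup hK hr₀ hr₀1 h hy1)
  have hyr₀ : y * r₀ = ρ⁻¹ * r₀ * ρ := by
    rcases four_list hK hρ ho hn hr₀.1 hr₀1 (mul_mem hyW hr₀.1) with h | h | h | h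
    · exact absurd (by rw [eq_inv_of_mul_eq_one_left h,
        inv_eq_of_mul_eq_one_right (by rw [← pow_two]; exact W_pow hr₀.1)]) hyr
    · exact absurd (mul_eq_right.1 h) hy1
    · exact absurd (mul_eq_left.1 h) hr₀1
    · exact h
  have hyT : y ∈ T := by
    have hle : pCoreOf 2 K ≤ T := by
      have hn' : T ≤ normalizer (pCoreOf 2 K : Set G) := hTK.trans (normalizer_le_normalizer_pCoreOf K)
      exact le_sup_left.trans (eq_of_two hTL (IsPGroup.to_sup_of_normal_left' isPGroup_core b.isPGroup hn')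
        le_sup_right (sup_le (core_le.trans hKL) hTL.1)).le
    exact hle (W_le_core hyW)
  have hmove : ∀ t ∈ T, t * y * t⁻¹ = y ∨ t * y * t⁻¹ = y * r₀ := fun t ht => by
    by_cases htW : t ∈ Subgroup.centralizer (wOf K : Set G)
    · left; rw [← mem_centralizer_iff.1 htW y hyW, mul_inv_cancel_right]
    · right; rw [T_moves b.isPGroup hK hTK ht htW hr₀ hr₀1 hyW hyR, (W_commute hr₀.1 hyW).eq]
  have hconj : ∀ {k}, k ∈ L → Subgroup.centralizer ({k * r₀ * k⁻¹} : Set G) ≤ L := by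
    intro k hk g hg
    have h0 : Commute g (k * r₀ * k⁻¹) := mem_centralizer_singleton_iff.1 hg
    have h : k⁻¹ * g * k ∈ L := hzL (mem_centralizer_singleton_iff.2 (by
      calc k⁻¹ * g * k * r₀ = k⁻¹ * (g * (k * r₀ * k⁻¹)) * k := by group
        _ = k⁻¹ * ((k * r₀ * k⁻¹) * g) * k := by rw [h0.eq]
        _ = r₀ * (k⁻¹ * g * k) := by group))
    simpa [mul_assoc] using L.mul_mem (L.mul_mem hk h) (L.inv_mem hk)
  refine b.fusion_trap hLmax hTL P hTP hNJ hall hst hr₀Ω hr₀1 hyT (by rw [← pow_two]; exact W_pow hyW) hy1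
    hyr hmove hzL (hconj (hKL hρ)) ?_ ?_
  · rw [hyr₀]
    simpa using hconj (L.inv_mem (hKL hρ))
  · intro g hg
    rw [hyr₀] at hg
    have h : ρ * g * ρ ∈ L := hzL (mem_centralizer_singleton_iff.2 (by
      calc ρ * g * ρ * r₀ = ρ * (g * y * g⁻¹) * g * ρ := by rw [hy]; group
        _ = ρ * (ρ⁻¹ * r₀ * ρ) * g * ρ := by rw [hg]
        _ = r₀ * (ρ * g * ρ) := by group))
    simpa [mul_assoc] using L.mul_mem (L.mul_mem (L.inv_mem (hKL hρ)) h) (L.inv_mem (hKL hρ))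

end Cfsg.Lib.Local.JComp
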