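import Cfsg.Agent.Lib.Local.JComp.Basic
import Cfsg.Agent.Lib.Local.AmalgamMethod
import Cfsg.Agent.Lib.Thompson.Transport

/-!
# Transport of components along automorphisms
-/

set_option autoImplicit false
set_option linter.style.haveILetI false

namespace Cfsg.Lib.Local.JComp

open Subgroup Cfsg Cfsg.Lib
open scoped commutatorElement

universe u

variable {G : Type u} [Group G] [Finite G]

theorem wOf_map (K : Subgroup G) (e : G ≃* G) : wOf (K.map e.toMonoidHom) = (wOf K).map e.toMonoidHom := by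
  haveI : Fact (Nat.Prime 2) := ⟨Nat.prime_two⟩
  rw [wOf, wOf, map_commutator, Cfsg.Lib.Local.pCoreOf_map (p := 2) K e]
  rw [omegaCenterOf, omegaCenterOf, Cfsg.Lib.Local.omegaCenter_map]

theorem thompson_map (S : Subgroup G) (e : G ≃* G) :
    (thompsonSubgroupOf 2 S).map e.toMonoidHom = thompsonSubgroupOf 2 (S.map e.toMonoidHom) :=
  Thompson.map_thompsonSubgroupOf _ _ e.injective.injOn

omit [Finite G] in
theorem map_map_symm (S : Subgroup G) (e : G ≃* G) : (S.map e.symm.toMonoidHom).map e.toMonoidHom = S := by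
  rw [Subgroup.map_map]
  ext x
  simp

omit [Finite G] in
theorem isSylowTwoIn_map_equiv {S L : Subgroup G} (e : G ≃* G) (h : IsSylowTwoIn S L) :
    IsSylowTwoIn (S.map e.toMonoidHom) (L.map e.toMonoidHom) :=
  ⟨map_mono h.1, h.2.1.map _, by
    rw [relIndex_map_map_of_injective S L (f := e.toMonoidHom) e.injective]; exact h.2.2⟩

/-- Components are transported by automorphisms. -/
theorem isJComponent_map {T K : Subgroup G} (hK : IsJComponent T K) (e : G ≃* G) :
    IsJComponent (T.map e.toMonoidHom) (K.map e.toMonoidHom) := by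
  obtain ⟨h1, h2, h3, h4, h5, h6⟩ := hK
  refine ⟨?_, ?_, ?_, ?_, ?_, ?_⟩
  · conv_rhs => rw [← h1]
    rw [MonoidHom.map_closure]
    congr 1
    ext x
    constructor
    · rintro ⟨⟨y, hy, rfl⟩, ho⟩
      exact ⟨y, ⟨hy, by simpa using ho⟩, rfl⟩
    · rintro ⟨y, ⟨hy, ho⟩, rfl⟩
      exact ⟨⟨y, hy, rfl⟩, by simpa using ho⟩
  · rw [← thompson_map, ← map_commutator, h2]
  · haveI : Fact (Nat.Prime 2) := ⟨Nat.prime_two⟩
    rw [Cfsg.Lib.Local.pCoreOf_map (p := 2) K e, relIndex_map_map_of_injective _ _ (f := e.toMonoidHom) e.injective, h3]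
  · intro S hS hJS
    rw [← thompson_map] at hJS ⊢
    have hS' : IsSylowTwoIn (S.map e.symm.toMonoidHom) (K ⊔ thompsonSubgroupOf 2 T) := by
      rw [← thompson_map, ← Subgroup.map_sup] at hS
      have h := isSylowTwoIn_map_equiv e.symm hS
      have hc : ((K ⊔ thompsonSubgroupOf 2 T).map e.toMonoidHom).map e.symm.toMonoidHom =
          K ⊔ thompsonSubgroupOf 2 T := by
        have := map_map_symm (K ⊔ thompsonSubgroupOf 2 T) e.symm
        rwa [MulEquiv.symm_symm] at this
      rwa [hc] at h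
    have hle : thompsonSubgroupOf 2 T ≤ S.map e.symm.toMonoidHom := by
      intro x hx
      exact ⟨e x, hJS ⟨x, hx, rfl⟩, e.symm_apply_apply x⟩
    rw [← h4 _ hS' hle, thompson_map, map_map_symm]
  · rw [wOf_map, BaumannBlock.card_map_mulEquiv]; exact h5
  · rw [wOf_map]
    rintro _ ⟨w, hw, rfl⟩
    show e w * e w = 1
    rw [← map_mul, h6 w hw, map_one]

theorem jComponentsZero_map {T K : Subgroup G} (hK : K ∈ jComponentsZero T) (e : G ≃* G) :
    K.map e.toMonoidHom ∈ jComponentsZero (T.map e.toMonoidHom) := by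
  refine ⟨isJComponent_map hK.1 e, fun S hJS hS => ?_⟩
  rw [← thompson_map] at hJS ⊢
  have hS' : IsSylowTwoIn (S.map e.symm.toMonoidHom) (normalizer (wOf K : Set G)) := by
    have h := isSylowTwoIn_map_equiv e.symm hS
    have hc : (normalizer (wOf (K.map e.toMonoidHom) : Set G)).map e.symm.toMonoidHom =
        normalizer (wOf K : Set G) := by
      rw [wOf_map, ← map_equiv_normalizer_eq]
      have := map_map_symm (normalizer (wOf K : Set G)) e.symm
      rwa [MulEquiv.symm_symm] at this
    rwa [hc] at h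
  have hle : thompsonSubgroupOf 2 T ≤ S.map e.symm.toMonoidHom := by
    intro x hx
    exact ⟨e x, hJS ⟨x, hx, rfl⟩, e.symm_apply_apply x⟩
  rw [← hK.2 _ hle hS', thompson_map, map_map_symm]

end Cfsg.Lib.Local.JComp
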