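import Cfsg.Agent.Lib.Local.JComp.Unique
import Cfsg.Agent.Lib.Local.JComp.Transport

/-!
# The normalizer of the four-group of a component
-/

set_option autoImplicit false
set_option linter.style.haveILetI false

namespace Cfsg.Lib.Local.JComp

open Subgroup Cfsg Cfsg.Lib Cfsg.Lib.Local.GlaubermanZJ
open scoped commutatorElement

universe u

variable {G : Type u} [Group G] [Finite G] {T K N : Subgroup G}

local notation "J" => thompsonSubgroupOf 2 T
local notation "R2" => pCoreOf 2 K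
local notation "W" => wOf K
local notation "Q" => pCoreOf 2 N

theorem fix_le_core (hK : IsJComponent T K) {k w : G} (hk : k ∈ K) (hw : w ∈ W) (hw1 : w ≠ 1)
    (h : k * w * k⁻¹ = w) : k ∈ R2 := by
  obtain ⟨ρ, hρ, ho, hn, -⟩ := exists_rho hK
  set P := K ⊓ centralizer ({w} : Set G)
  have hR : R2 ≤ P := le_inf core_le
    (core_le_centralizer_W.trans (centralizer_le (Set.singleton_subset_iff.2 hw)))
  have hkP : k ∈ P := ⟨hk, mem_centralizer_singleton_iff.2 (mul_inv_eq_iff_eq_mul.1 h)⟩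
  by_contra hc
  have hP := eq_of_core_lt hK hR inf_le_left (fun h => hc (h hkP))
  refine hw1 (rho_fpf hK hρ ho hn hw ?_)
  rw [mem_centralizer_singleton_iff.1 (hP.ge hρ).2, mul_inv_cancel_right]

/-- The four elements of `W`. -/
theorem four_list (hK : IsJComponent T K) {ρ : G} (hρ : ρ ∈ K) (ho : Odd (orderOf ρ)) (hn : ρ ∉ R2)
    {w : G} (hw : w ∈ W) (hw1 : w ≠ 1) {z : G} (hz : z ∈ W) :
    z = 1 ∨ z = w ∨ z = ρ * w * ρ⁻¹ ∨ z = ρ⁻¹ * w * ρ := by
  classical
  have hρW : ρ ∈ normalizer (W : Set G) := normalizer_le_normalizer_W (le_normalizer hρ)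
  set a := ρ * w * ρ⁻¹ with ha
  set b := ρ⁻¹ * w * ρ with hb
  have haW : a ∈ W := (mem_normalizer_iff.1 hρW w).1 hw
  have hbW : b ∈ W := (mem_normalizer_iff''.1 hρW w).1 hw
  have ha1 : a ≠ 1 := fun h => hw1 (conj_eq_one_iff.1 h)
  have hb1 : b ≠ 1 := fun h => hw1 (by
    have h' := congrArg (fun z => ρ * z * ρ⁻¹) h
    simpa [hb, mul_assoc] using h')
  have haw : a ≠ w := fun h => hw1 (rho_fpf hK hρ ho hn hw h)
  have hbw : b ≠ w := fun h => hw1 (rho_fpf hK hρ ho hn hw (by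
    conv_lhs => rw [← h]
    rw [hb]; group))
  have hab : a ≠ b := fun h => by
    refine hw1 (rho_fpf hK (ρ := ρ * ρ) (K.mul_mem hρ hρ) ?_ ?_ hw ?_)
    · exact ho.of_dvd_nat (by rw [← pow_two]; exact orderOf_pow_dvd 2)
    · intro h2
      obtain ⟨m, hm⟩ := exists_pow_eq_self_of_coprime
        (show Nat.Coprime 2 (orderOf ρ) from Nat.coprime_two_left.2 ho)
      exact hn (hm ▸ pow_mem (by rw [pow_two]; exact h2) m)
    · calc ρ * ρ * w * (ρ * ρ)⁻¹ = ρ * a * ρ⁻¹ := by rw [ha]; group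
        _ = w := by rw [h, hb]; group
  by_contra hc
  push Not at hc
  have h5 : ({1, w, a, b, z} : Set G).ncard ≤ Nat.card W := by
    rw [show Nat.card W = (W : Set G).ncard from Nat.card_coe_set_eq _]
    refine Set.ncard_le_ncard ?_ (Set.toFinite _)
    rintro e (rfl | rfl | rfl | rfl | rfl)
    exacts [one_mem W, hw, haW, hbW, hz]
  rw [hK.2.2.2.2.1, Set.ncard_insert_of_notMem (by simp [Ne.symm hw1, Ne.symm ha1, Ne.symm hb1,
      Ne.symm hc.1]) (Set.toFinite _),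
    Set.ncard_insert_of_notMem (by simp [haw.symm, hbw.symm, Ne.symm hc.2.1]) (Set.toFinite _),
    Set.ncard_insert_of_notMem (by simp [hab, Ne.symm hc.2.2.1]) (Set.toFinite _),
    Set.ncard_pair hc.2.2.2.symm] at h5
  omega

omit [Finite G] in
theorem isJComponent_congr {T' : Subgroup G} (h : thompsonSubgroupOf 2 T' = J)
    (hK : IsJComponent T K) : IsJComponent T' K := by
  unfold IsJComponent at hK ⊢
  rw [h]
  exact hK

/-- The Thompson subgroup of a conjugate of `T` inside a subgroup with a Sylow subgroup of Thompson subgroup `J(T)`. -/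
theorem exists_conj_J {S₀ : Subgroup G} (hT : IsPGroup 2 T) (hS₀ : IsSylowTwoIn S₀ N)
    (hJ : thompsonSubgroupOf 2 S₀ = J) (g : G)
    (hg : thompsonSubgroupOf 2 (T.map (MulAut.conj g).toMonoidHom) ≤ N) :
    ∃ n ∈ N, (J).map (MulAut.conj n).toMonoidHom = thompsonSubgroupOf 2 (T.map (MulAut.conj g).toMonoidHom) := by
  haveI : Fact (Nat.Prime 2) := ⟨Nat.prime_two⟩
  set T' := T.map (MulAut.conj g).toMonoidHom with hT'
  obtain ⟨S', hS', hJS'⟩ := exists_sylow ((hT.map _).to_le (map_subtype_le _ : thompsonSubgroupOf 2 T' ≤ T')) hg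
  obtain ⟨n, hn, hnS⟩ := exists_conj_sylow hS₀ hS'
  refine ⟨n, hn, ?_⟩
  have hJn : (J).map (MulAut.conj n).toMonoidHom = thompsonSubgroupOf 2 S' := by
    rw [← hJ, thompson_map, hnS]
  rw [hJn]
  symm
  refine eq_of_le_of_card_ge ?_ (by
    rw [← hJn, hT', ← thompson_map, BaumannBlock.card_map_mulEquiv, BaumannBlock.card_map_mulEquiv])
  rw [thompsonSubgroupOf_eq_sSup (P := T'), sSup_le_iff]
  intro B hB
  have hBT' : B ≤ thompsonSubgroupOf 2 T' := by
    rw [thompsonSubgroupOf_eq_sSup]; exact le_sSup hB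
  rw [thompsonSubgroupOf_eq_sSup]
  refine le_sSup ⟨hBT'.trans hJS', hB.2.1, fun C hC hCe => ?_⟩
  -- sizes are compared through `S₀` and `T`
  obtain ⟨A, hA⟩ := exists_isMaxEAIn (p := 2) T
  have hA' := max_of_thompson_eq hJ hA
  have h1 : Nat.card C ≤ Nat.card A := by
    rw [← BaumannBlock.card_map_mulEquiv (MulAut.conj n).symm C]
    refine hA'.2.2 _ ?_ (Thompson.isEA_map _ hCe)
    rintro _ ⟨x, hx, rfl⟩
    obtain ⟨y, hy, rfl⟩ := hnS.ge (hC hx)
    show (MulAut.conj n).symm ((MulAut.conj n) y) ∈ S₀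
    rw [MulEquiv.symm_apply_apply]; exact hy
  have h2 := hB.2.2 _ (map_mono (f := (MulAut.conj g).toMonoidHom) hA.1) (Thompson.isEA_map _ hA.2.1)
  rw [BaumannBlock.card_map_mulEquiv] at h2
  exact h1.trans h2

variable (c : Ctx T N) (hK : IsJComponent T K) (hKN : K ≤ N)
include c hK hKN

/-- Elements centralizing `W` and `V / W` lie in `D`, if `W` is normal in `N`. -/
theorem stab_le (hNW : N ≤ normalizer (W : Set G)) {x : G} (hxN : x ∈ N)
    (hxW : x ∈ centralizer (W : Set G)) (hxA : x ∈ actW K N) : x ∈ Dk N := by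
  refine normal_two_le c (M := N ⊓ centralizer (W : Set G) ⊓ actW K N) (inf_le_left.trans inf_le_left) ?_ ?_
    ⟨⟨hxN, hxW⟩, hxA⟩
  · refine Core.le_normalizer_iff_conj_mem.2 fun n hn y hy => ⟨⟨?_, ?_⟩, ⟨?_, fun v hv => ?_⟩⟩
    · exact N.mul_mem (N.mul_mem hn hy.1.1) (N.inv_mem hn)
    · refine mem_centralizer_iff.2 fun w hw => ?_
      have h := mem_centralizer_iff.1 hy.1.2 _ ((mem_normalizer_iff''.1 (hNW hn) w).1 hw)
      calc w * (n * y * n⁻¹) = n * ((n⁻¹ * w * n) * y) * n⁻¹ := by group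
        _ = n * (y * (n⁻¹ * w * n)) * n⁻¹ := by rw [h]
        _ = n * y * n⁻¹ * w := by group
    · exact mul_mem (mul_mem (hNW hn) hy.2.1) (inv_mem (hNW hn))
    · rw [show ⁅n * y * n⁻¹, v⁆ = n * ⁅y, n⁻¹ * v * n⁆ * n⁻¹ by simp [commutatorElement_def]; group]
      exact (mem_normalizer_iff.1 (hNW hn) _).1
        (hy.2.2 _ ((mem_normalizer_iff''.1 (Vc_normalized hn) v).1 hv))
  · exact fun y hy => ⟨1, by rw [pow_one]; exact sq_mem_Dk c hK hKN hy.1.1 hy.2 hy.1.2⟩

/-- `C_N(W)` normalizes `K`, if `W` is normal in `N`. -/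
theorem centralizer_normalizes (hNW : N ≤ normalizer (W : Set G)) {g : G} (hgN : g ∈ N)
    (hgW : g ∈ centralizer (W : Set G)) : g ∈ normalizer (K : Set G) := by
  haveI : Fact (Nat.Prime 2) := ⟨Nat.prime_two⟩
  obtain ⟨ρ, hρ, ho, hn, hgen⟩ := exists_rho hK
  obtain ⟨a, haJ, haW, haV⟩ := exists_atom c hK hKN
  obtain ⟨S₀, hS₀, hJS, -⟩ := c.sylow
  have haN : a ∈ N := J_le c haJ
  have hρN : ρ ∈ N := hKN hρ
  have hρA : ρ ∈ actW K N := sup_Dk_le_actW c hK hKN (mem_sup_left hρ)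
  have haA : a ∈ actW K N := ⟨hNW haN, haV⟩
  -- conjugating by `g` changes actions by elements of `D`
  have hD : ∀ x ∈ N, x ∈ actW K N → ⁅g, x⁆ ∈ Dk N := by
    intro x hxN hxA
    refine stab_le c hK hKN hNW ?_ ?_ ?_
    · rw [commutatorElement_def]
      exact N.mul_mem (N.mul_mem (N.mul_mem hgN hxN) (N.inv_mem hgN)) (N.inv_mem hxN)
    · rw [commutatorElement_def, show g * x * g⁻¹ * x⁻¹ = g * (x * g⁻¹ * x⁻¹) by group]
      refine mul_mem hgW (mem_centralizer_iff.2 fun w hw => ?_)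
      have h := mem_centralizer_iff.1 (inv_mem hgW) _ ((mem_normalizer_iff''.1 (hNW hxN) w).1 hw)
      calc w * (x * g⁻¹ * x⁻¹) = x * ((x⁻¹ * w * x) * g⁻¹) * x⁻¹ := by group
        _ = x * (g⁻¹ * (x⁻¹ * w * x)) * x⁻¹ := by rw [h]
        _ = x * g⁻¹ * x⁻¹ * w := by group
    · refine mul_mem ⟨mul_mem (mul_mem (hNW hgN) hxA.1) (inv_mem (hNW hgN)), fun v hv => ?_⟩ (inv_mem hxA)
      rw [show ⁅g * x * g⁻¹, v⁆ = g * ⁅x, g⁻¹ * v * g⁆ * g⁻¹ by simp [commutatorElement_def]; group]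
      exact (mem_normalizer_iff.1 (hNW hgN) _).1
        (hxA.2 _ ((mem_normalizer_iff''.1 (Vc_normalized hgN) v).1 hv))
  set z := ⁅g, ρ⁆ with hz
  set u := ⁅a, g⁆ with hu
  have hzD : z ∈ Dk N := hD ρ hρN hρA
  have huD : u ∈ Dk N := by
    rw [hu, ← commutatorElement_inv]; exact inv_mem (hD a haN haA)
  -- `a` inverts `ρ` modulo `O₂(K)`
  have hinv : a * ρ * a⁻¹ * ρ ∈ Q := by
    refine coreK_le c hK hKN ?_
    obtain ⟨⟨r, hr⟩, hr1⟩ := ne_bot_iff_exists_ne_one.1
      (fun h => by have := card_fixed c.hT hK; rw [h, card_bot] at this; omega :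
        W ⊓ centralizer (J : Set G) ≠ ⊥)
    have hr' : r ≠ 1 := fun h => hr1 (Subtype.ext h)
    have haK : a * ρ * a⁻¹ ∈ K := (mem_normalizer_iff.1 (J_le_normalizer hK haJ) ρ).1 hρ
    refine fix_le_core hK (K.mul_mem haK hρ) hr.1 hr' ?_
    have hfr : a * r * a⁻¹ = r := by
      rw [(show Commute a r from mem_centralizer_iff.1 hr.2 a haJ).eq]; group
    have hρW : ρ ∈ normalizer (W : Set G) := normalizer_le_normalizer_W (le_normalizer hρ)
    have haW' : a ∈ normalizer (W : Set G) := hNW haN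
    set r' := ρ * r * ρ⁻¹ with hr'def
    have hr'W : r' ∈ W := (mem_normalizer_iff.1 hρW r).1 hr.1
    set s := a⁻¹ * r' * a with hs
    have hsW : s ∈ W := (mem_normalizer_iff''.1 haW' r').1 hr'W
    have hs' : s = ρ⁻¹ * r * ρ := by
      have hsr : r' = a * s * a⁻¹ := by rw [hs]; group
      rcases four_list hK hρ ho hn hr.1 hr' hsW with h | h | h | h
      · exfalso
        rw [h] at hsr
        exact hr' (conj_eq_one_iff.1 (show ρ * r * ρ⁻¹ = 1 by rw [← hr'def, hsr]; group))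
      · exfalso
        rw [h, hfr] at hsr
        exact hr' (rho_fpf hK hρ ho hn hr.1 hsr)
      · exfalso
        rw [h] at hsr
        have h2 := fixed_eq c.hT hK haJ haW hr'W hsr.symm
        have h3 : (⟨r', hr'W, h2⟩ : ↥(W ⊓ centralizer (J : Set G))) ≠ 1 := fun e =>
          hr' (conj_eq_one_iff.1 (congrArg Subtype.val e))
        obtain ⟨d, hd⟩ := (Nat.card_eq_two_iff' (1 : ↥(W ⊓ centralizer (J : Set G)))).1 (card_fixed c.hT hK)
        have e := congrArg Subtype.val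
          ((hd.2 _ h3).trans (hd.2 ⟨r, hr⟩ (fun e => hr' (congrArg Subtype.val e))).symm)
        exact hr' (rho_fpf hK hρ ho hn hr.1 e)
      · exact h
    calc a * ρ * a⁻¹ * ρ * r * (a * ρ * a⁻¹ * ρ)⁻¹ = a * (ρ * s * ρ⁻¹) * a⁻¹ := by
          rw [hs, hr'def]; group
      _ = a * r * a⁻¹ := by rw [hs']; group
      _ = r := hfr
  -- the computation modulo `O₂(N)`
  set Q' := (Q).subgroupOf N with hQ'
  haveI : Q'.Normal := (normal_subgroupOf_iff_le_normalizer (map_subtype_le _)).2 core_le_normalizer'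
  set π := QuotientGroup.mk' Q' with hπ
  have hπ1 : ∀ x : N, π x = 1 ↔ (x : G) ∈ Q := fun x =>
    (QuotientGroup.eq_one_iff x).trans mem_subgroupOf
  have hcom : ∀ {x y : N}, ⁅(x : G), (y : G)⁆ ∈ Q → Commute (π x) (π y) := by
    intro x y h
    refine commutatorElement_eq_one_iff_mul_comm.1 ?_
    rw [← map_commutatorElement]
    exact (hπ1 _).2 h
  set g' := π ⟨g, hgN⟩
  set ρ' := π ⟨ρ, hρN⟩
  set a' := π ⟨a, haN⟩
  set z' := π ⟨z, hzD.1⟩
  set u' := π ⟨u, huD.1⟩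
  have e1 : g' * ρ' * g'⁻¹ = z' * ρ' := by
    simp only [g', ρ', z', ← map_inv, ← map_mul]
    congr 1
    apply Subtype.ext
    show g * ρ * g⁻¹ = z * ρ
    rw [hz, commutatorElement_def]; group
  have e2 : a' * g' * a'⁻¹ = u' * g' := by
    simp only [a', g', u', ← map_inv, ← map_mul]
    congr 1
    apply Subtype.ext
    show a * g * a⁻¹ = u * g
    rw [hu, commutatorElement_def]; group
  have e3 : a' * ρ' * a'⁻¹ = ρ'⁻¹ := by
    rw [← mul_eq_one_iff_eq_inv]
    simp only [a', ρ', ← map_inv, ← map_mul]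
    exact (hπ1 _).2 hinv
  have czρ : Commute ρ' z' := hcom (component_comm_Dk c hK hKN hρ hzD)
  have cuρ : Commute ρ' u' := hcom (component_comm_Dk c hK hKN hρ huD)
  have caz : Commute a' z' := hcom (sylow_comm_Dk c hS₀ (hJS haJ) hzD)
  have hρ3 : ρ' ^ 3 = 1 := by
    simp only [ρ', ← map_pow]
    refine (hπ1 _).2 (coreK_le c hK hKN ?_)
    rw [coe_pow]
    haveI : ((R2).subgroupOf K).Normal :=
      (normal_subgroupOf_iff_le_normalizer core_le).2 (le_normalizer.trans (normalizer_le_normalizer_pCoreOf K))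
    have h := Subgroup.pow_index_mem ((R2).subgroupOf K) ⟨ρ, hρ⟩
    rw [show ((R2).subgroupOf K).index = 3 from hK.2.2.1] at h
    exact h
  have hz3 : z' ^ 3 = 1 := by
    have h : (g' * ρ' * g'⁻¹) ^ 3 = (z' * ρ') ^ 3 := by rw [e1]
    rw [conj_pow, hρ3, mul_one, mul_inv_cancel, czρ.symm.mul_pow, hρ3, mul_one] at h
    exact h.symm
  have key : u' * z'⁻¹ * u'⁻¹ = z' := by
    have h : a' * (g' * ρ' * g'⁻¹) * a'⁻¹ = a' * (z' * ρ') * a'⁻¹ := by rw [e1]
    have hl : a' * (g' * ρ' * g'⁻¹) * a'⁻¹ = ρ'⁻¹ * (u' * z'⁻¹ * u'⁻¹) := by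
      calc a' * (g' * ρ' * g'⁻¹) * a'⁻¹
          = (a' * g' * a'⁻¹) * (a' * ρ' * a'⁻¹) * (a' * g' * a'⁻¹)⁻¹ := by group
        _ = u' * (g' * ρ' * g'⁻¹)⁻¹ * u'⁻¹ := by rw [e2, e3]; group
        _ = (u' * ρ'⁻¹) * z'⁻¹ * u'⁻¹ := by rw [e1]; group
        _ = ρ'⁻¹ * (u' * z'⁻¹ * u'⁻¹) := by rw [cuρ.symm.inv_right.eq]; group
    have hr2 : a' * (z' * ρ') * a'⁻¹ = ρ'⁻¹ * z' := by
      calc a' * (z' * ρ') * a'⁻¹ = (a' * z' * a'⁻¹) * (a' * ρ' * a'⁻¹) := by group
        _ = z' * ρ'⁻¹ := by rw [caz.eq, mul_inv_cancel_right, e3]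
        _ = ρ'⁻¹ * z' := czρ.symm.inv_right.eq
    exact mul_left_cancel (hl.symm.trans (h.trans hr2))
  obtain ⟨e, m, hm, hem⟩ := Nat.exists_eq_two_pow_mul_odd (n := orderOf u) (orderOf_pos u).ne'
  have hum : u' ^ m = 1 := by
    simp only [u', ← map_pow]
    refine (hπ1 _).2 ?_
    rw [coe_pow]
    have h2 : (u ^ m) ^ 2 ^ e = 1 := by
      rw [← pow_mul, mul_comm, ← hem, pow_orderOf_eq_one]
    refine two_in_Dk c ?_ (zpowers_le.2 (pow_mem huD m)) (mem_zpowers _)
    rintro ⟨x, i, rfl⟩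
    refine ⟨e, Subtype.ext ?_⟩
    show ((u ^ m) ^ i) ^ 2 ^ e = 1
    rw [← zpow_natCast, ← zpow_mul, mul_comm, zpow_mul, zpow_natCast, h2, one_zpow]
  have key2 : u' ^ 2 * z' * (u' ^ 2)⁻¹ = z' := by
    have k' : u' * z' * u'⁻¹ = z'⁻¹ := by
      calc u' * z' * u'⁻¹ = (u' * z'⁻¹ * u'⁻¹)⁻¹ := by group
        _ = z'⁻¹ := by rw [key]
    calc u' ^ 2 * z' * (u' ^ 2)⁻¹ = u' * (u' * z' * u'⁻¹) * u'⁻¹ := by rw [pow_two]; group
      _ = z' := by rw [k', key]
  have hcu : Commute (u' ^ 2) z' := mul_inv_eq_iff_eq_mul.1 key2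
  obtain ⟨i, hi⟩ := exists_pow_eq_self_of_coprime
    (show Nat.Coprime 2 (orderOf u') from Nat.coprime_two_left.2 (hm.of_dvd_nat (orderOf_dvd_of_pow_eq_one hum)))
  have hcu' : Commute u' z' := hi ▸ hcu.pow_left i
  have hz2 : z'⁻¹ = z' := by
    rw [hcu'.inv_right.eq, mul_inv_cancel_right] at key
    exact key
  have hz1 : z' = 1 := by
    have h2 : z' * z' = 1 := by
      calc z' * z' = z'⁻¹ * z' := by rw [hz2]
        _ = 1 := inv_mul_cancel z'
    calc z' = z' * (z' * z') := by rw [h2, mul_one]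
      _ = 1 := by rw [← hz3, pow_succ', pow_two]
  have hzQ : z ∈ Q := (hπ1 ⟨z, hzD.1⟩).1 hz1
  -- conclude
  have hQK := core_le_normalizer_component c hK hKN
  have hle : K.map (MulAut.conj g).toMonoidHom ≤ K ⊔ Q := by
    conv_lhs => rw [← hgen]
    rw [Subgroup.map_sup, MonoidHom.map_zpowers]
    refine sup_le ?_ (zpowers_le.2 ?_)
    · rintro _ ⟨x, hx, rfl⟩
      exact mem_sup_right ((mem_normalizer_iff.1 (core_le_normalizer' hgN) x).1 (coreK_le c hK hKN hx))
    · show g * ρ * g⁻¹ ∈ K ⊔ Q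
      rw [show g * ρ * g⁻¹ = z * ρ by rw [hz, commutatorElement_def]; group]
      exact mul_mem (mem_sup_right hzQ) (mem_sup_left hρ)
  have hsub : K ≤ K.comap (MulAut.conj g).toMonoidHom := le_of_odd hK fun x hx hxo => by
    refine BaumannBlock.mem_of_coprime hQK isPGroup_Q (hle ⟨x, hx, rfl⟩) ?_
    show (orderOf (MulAut.conj g x)).Coprime 2
    rw [MulEquiv.orderOf_eq]; exact odd_iff_coprime.1 hxo
  exact mem_normalizer_fintype fun x hx => hsub hx

/-- `N_N(K) = N` when `W` is normal in `N`. -/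
theorem normalizes_of_normal_W (hNW : N ≤ normalizer (W : Set G)) : N ≤ normalizer (K : Set G) := by
  obtain ⟨ρ, hρ, ho, hn, -⟩ := exists_rho hK
  obtain ⟨a, haJ, haW, -⟩ := exists_atom c hK hKN
  obtain ⟨⟨r, hr⟩, hr1⟩ := ne_bot_iff_exists_ne_one.1
    (fun h => by have := card_fixed c.hT hK; rw [h, card_bot] at this; omega :
      W ⊓ centralizer (J : Set G) ≠ ⊥)
  have hr' : r ≠ 1 := fun h => hr1 (Subtype.ext h)
  have hρW : ρ ∈ normalizer (W : Set G) := normalizer_le_normalizer_W (le_normalizer hρ)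
  have hρK : ρ ∈ normalizer (K : Set G) := le_normalizer hρ
  have haK : a ∈ normalizer (K : Set G) := J_le_normalizer hK haJ
  set r' := ρ * r * ρ⁻¹ with hr'def
  have hr'W : r' ∈ W := (mem_normalizer_iff.1 hρW r).1 hr.1
  have hr'1 : r' ≠ 1 := fun h => hr' (conj_eq_one_iff.1 h)
  have hrr : r' ≠ r := fun h => hr' (rho_fpf hK hρ ho hn hr.1 h)
  -- fixing two points of `W`
  have hfix : ∀ x ∈ N, x * r * x⁻¹ = r → x * r' * x⁻¹ = r' → x ∈ normalizer (K : Set G) := by
    intro x hx h1 h2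
    refine centralizer_normalizes c hK hKN hNW hx (mem_centralizer_iff.2 fun w hw => ?_)
    suffices h : x * w * x⁻¹ = w from (mul_inv_eq_iff_eq_mul.1 h).symm
    have hxw : x * w * x⁻¹ ∈ W := (mem_normalizer_iff.1 (hNW hx) w).1 hw
    have hinj : ∀ {p q : G}, x * p * x⁻¹ = x * q * x⁻¹ → p = q :=
      fun h => mul_left_cancel (mul_right_cancel h)
    rcases four_list hK hρ ho hn hr.1 hr' hw with h | h | h | h
    · subst h; group
    · subst h; exact h1
    · rw [h]; exact h2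
    · rcases four_list hK hρ ho hn hr.1 hr' hxw with k | k | k | k
      · rw [conj_eq_one_iff.1 k]; group
      · exact k.trans (hinj (k.trans h1.symm)).symm
      · exact k.trans (hinj (k.trans h2.symm)).symm
      · exact k.trans h.symm
  -- fixing `r`
  have hfix1 : ∀ x ∈ N, x * r * x⁻¹ = r → x ∈ normalizer (K : Set G) := by
    intro x hx h1
    by_cases h2 : x * r' * x⁻¹ = r'
    · exact hfix x hx h1 h2
    have hfr : a * r * a⁻¹ = r := by
      rw [(show Commute a r from mem_centralizer_iff.1 hr.2 a haJ).eq]; group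
    have hxr : x * r' * x⁻¹ ∈ W := (mem_normalizer_iff.1 (hNW hx) r').1 hr'W
    have hax : a * x ∈ normalizer (K : Set G) := by
      refine hfix _ (N.mul_mem (J_le c haJ) hx) ?_ ?_
      · calc a * x * r * (a * x)⁻¹ = a * (x * r * x⁻¹) * a⁻¹ := by group
          _ = r := by rw [h1, hfr]
      · have hx3 : x * r' * x⁻¹ = ρ⁻¹ * r * ρ := by
          rcases four_list hK hρ ho hn hr.1 hr' hxr with k | k | k | k
          · exact absurd (conj_eq_one_iff.1 k) hr'1
          · exact absurd (mul_left_cancel (mul_right_cancel (k.trans h1.symm))) hrr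
          · exact absurd k h2
          · exact k
        rw [show a * x * r' * (a * x)⁻¹ = a * (x * r' * x⁻¹) * a⁻¹ by group, hx3]
        have hs : ρ⁻¹ * r * ρ ∈ W := (mem_normalizer_iff''.1 hρW r).1 hr.1
        have has : a * (ρ⁻¹ * r * ρ) * a⁻¹ ∈ W := (mem_normalizer_iff.1 (hNW (J_le c haJ)) _).1 hs
        rcases four_list hK hρ ho hn hr.1 hr' has with k | k | k | k
        · have e := conj_eq_one_iff.1 k
          exact absurd (show r = 1 by
            have := congrArg (fun y => ρ * y * ρ⁻¹) e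
            simpa [mul_assoc] using this) hr'
        · have e : ρ⁻¹ * r * ρ = r := mul_left_cancel (mul_right_cancel (k.trans hfr.symm))
          exact absurd (rho_fpf hK hρ ho hn hr.1 (show ρ * r * ρ⁻¹ = r from
            calc ρ * r * ρ⁻¹ = ρ * (ρ⁻¹ * r * ρ) * ρ⁻¹ := by rw [e]
              _ = r := by group)) hr'
        · exact k.trans hr'def.symm
        · exfalso
          have h3 := fixed_eq c.hT hK haJ haW hs k
          obtain ⟨d, hd⟩ := (Nat.card_eq_two_iff' (1 : ↥(W ⊓ centralizer (J : Set G)))).1 (card_fixed c.hT hK)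
          have hne : (⟨ρ⁻¹ * r * ρ, hs, h3⟩ : ↥(W ⊓ centralizer (J : Set G))) ≠ 1 := fun e => by
            have e' : ρ⁻¹ * r * ρ = 1 := congrArg Subtype.val e
            have := congrArg (fun y => ρ * y * ρ⁻¹) e'
            exact hr' (by simpa [mul_assoc] using this)
          have e := congrArg Subtype.val
            ((hd.2 _ hne).trans (hd.2 ⟨r, hr⟩ (fun e => hr' (congrArg Subtype.val e))).symm)
          have e' : ρ⁻¹ * r * ρ = r := e
          exact hr' (rho_fpf hK hρ ho hn hr.1 (show ρ * r * ρ⁻¹ = r from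
            calc ρ * r * ρ⁻¹ = ρ * (ρ⁻¹ * r * ρ) * ρ⁻¹ := by rw [e']
              _ = r := by group))
    have := mul_mem (inv_mem haK) hax
    rwa [inv_mul_cancel_left] at this
  intro x hx
  have hxr : x * r * x⁻¹ ∈ W := (mem_normalizer_iff.1 (hNW hx) r).1 hr.1
  rcases four_list hK hρ ho hn hr.1 hr' hxr with k | k | k | k
  · exact absurd (conj_eq_one_iff.1 k) hr'
  · exact hfix1 x hx k
  · have h := hfix1 (ρ⁻¹ * x) (N.mul_mem (N.inv_mem (hKN hρ)) hx) (by
      rw [show ρ⁻¹ * x * r * (ρ⁻¹ * x)⁻¹ = ρ⁻¹ * (x * r * x⁻¹) * ρ by group, k]; group)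
    have := mul_mem hρK h
    rwa [mul_inv_cancel_left] at this
  · have h := hfix1 (ρ * x) (N.mul_mem (hKN hρ) hx) (by
      rw [show ρ * x * r * (ρ * x)⁻¹ = ρ * (x * r * x⁻¹) * ρ⁻¹ by group, k]; group)
    have := mul_mem (inv_mem hρK) h
    rwa [inv_mul_cancel_left] at this

end Cfsg.Lib.Local.JComp
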