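import Cfsg.Agent.Lib.Local.JComp.SubComp

/-!
# Largest elementary abelian subgroups fix the four-group of a subnormal component
-/

set_option autoImplicit false
set_option linter.style.haveILetI false

namespace Cfsg.Lib.Local.JComp

open Subgroup Cfsg Cfsg.Lib Cfsg.Lib.Local.GlaubermanZJ
open scoped commutatorElement

universe u

variable {G : Type u} [Group G] [Finite G]

theorem le_normalizer_W_of_max {X K L T A : Subgroup G} (h : SubComp X K) (hXL : X ≤ L)
    (hT : IsSylowTwoIn T L) (hA : IsMaxEAIn 2 T A) (hAX : A ≤ X) :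
    A ≤ normalizer (wOf K : Set G) := by
  classical
  haveI : Fact (Nat.Prime 2) := ⟨Nat.prime_two⟩
  haveI := Fintype.ofFinite A
  obtain ⟨T', hK⟩ := h.comp
  set W := wOf K with hW
  let Kc : G → Subgroup G := fun a => K.map (MulAut.conj a).toMonoidHom
  let Wc : G → Subgroup G := fun a => W.map (MulAut.conj a).toMonoidHom
  have hWc : ∀ a, wOf (Kc a) = Wc a := fun a => wOf_map K _
  have hcomp : ∀ a ∈ A, SubComp X (Kc a) := fun a ha => h.conj (hAX ha)
  set Ω := omegaCenterOf (pCoreOf 2 X) with hΩdef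
  have hΩP : Ω ≤ pCoreOf 2 X := BaumannBlock.omegaOneCenter_le 2 _
  have hcΩ : ∀ {a b}, a ∈ Ω → b ∈ Ω → Commute a b := fun ha hb =>
    BaumannBlock.omegaOneCenter_commute (p := 2) ha (hΩP hb)
  set O : Finset (Subgroup G) := Finset.univ.image fun a : A => Wc a with hO
  have hOmem : ∀ Y ∈ O, ∃ a ∈ A, Y = Wc a := fun Y hY => by
    obtain ⟨a, -, rfl⟩ := Finset.mem_image.1 hY
    exact ⟨a, a.2, rfl⟩
  have hmemO : ∀ a ∈ A, Wc a ∈ O := fun a ha => Finset.mem_image.2 ⟨⟨a, ha⟩, Finset.mem_univ _, rfl⟩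
  have hW1 : Wc 1 = W := by
    show W.map (MulAut.conj (1 : G)).toMonoidHom = W
    ext x; simp
  have hWO : W ∈ O := hW1 ▸ hmemO 1 A.one_mem
  have hsupΩ : ∀ F : Finset (Subgroup G), F ⊆ O → F.sup id ≤ Ω := fun F hF =>
    Finset.sup_le fun Y hY => by
      obtain ⟨a, ha, rfl⟩ := hOmem Y (hF hY)
      exact (hWc a) ▸ (hcomp a ha).W_le_omega
  -- components centralize the other four-groups
  have hcent : ∀ a ∈ A, ∀ F : Finset (Subgroup G), F ⊆ O → Wc a ∉ F →
      F.sup id ≤ centralizer (Kc a : Set G) := by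
    intro a ha F hF hn
    refine Finset.sup_le fun Y hY => ?_
    obtain ⟨b, hb, rfl⟩ := hOmem Y (hF hY)
    rw [id, le_centralizer_iff, ← hWc b]
    refine SubComp.centralizes (hcomp b hb) (hcomp a ha) ?_
    rw [hWc, hWc]
    exact fun e => hn (e ▸ hY)
  have hfpf : ∀ a ∈ A, Wc a ⊓ centralizer (Kc a : Set G) = ⊥ := by
    intro a ha
    obtain ⟨T₁, hK₁⟩ := (hcomp a ha).comp
    obtain ⟨ρ, hρ, ho, hn, -⟩ := exists_rho hK₁
    rw [eq_bot_iff]
    rintro w ⟨hw, hc⟩
    refine mem_bot.2 (rho_fpf hK₁ hρ ho hn (by rw [hWc]; exact hw) ?_)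
    rw [mem_centralizer_iff.1 hc ρ hρ, mul_inv_cancel_right]
  have hnormΩ : ∀ {Y Z : Subgroup G}, Y ≤ Ω → Z ≤ Ω → Z ≤ normalizer (Y : Set G) := fun hY hZ z hz =>
    mem_normalizer_fintype fun y hy => by
      rw [(hcΩ (hZ hz) (hY hy)).eq, mul_inv_cancel_right]; exact hy
  have hcard : ∀ F : Finset (Subgroup G), F ⊆ O → Nat.card ↥(F.sup id) = 4 ^ F.card := by
    intro F
    induction F using Finset.induction_on with
    | empty => intro _; simp
    | insert Y F hYF ih =>
      intro hF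
      have hF' := (Finset.insert_subset_iff.1 hF).2
      obtain ⟨a, ha, rfl⟩ := hOmem Y ((Finset.insert_subset_iff.1 hF).1)
      have hinf : Wc a ⊓ F.sup id = ⊥ :=
        le_bot_iff.1 ((inf_le_inf_left _ (hcent a ha F hF' hYF)).trans (hfpf a ha).le)
      have h1 := card_sup_mul_card_inf' (A := Wc a) (B := F.sup id)
        (hnormΩ ((hWc a) ▸ (hcomp a ha).W_le_omega) (hsupΩ F hF'))
      rw [hinf, card_bot, mul_one, ih hF'] at h1
      rw [Finset.sup_insert, id, h1, Finset.card_insert_of_notMem hYF, pow_succ']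
      congr 1
      rw [← hWc]
      obtain ⟨T₁, hK₁⟩ := (hcomp a ha).comp
      exact hK₁.2.2.2.2.1
  have htriv : ∀ F : Finset (Subgroup G), F ⊆ O → ∀ x ∈ F.sup id,
      (∀ a ∈ A, x ∈ centralizer (Kc a : Set G)) → x = 1 := by
    intro F
    induction F using Finset.induction_on with
    | empty =>
      intro _ x hx _
      simpa using hx
    | insert Y F hYF ih =>
      intro hF x hx hall
      have hF' := (Finset.insert_subset_iff.1 hF).2
      obtain ⟨a, ha, rfl⟩ := hOmem Y ((Finset.insert_subset_iff.1 hF).1)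
      rw [Finset.sup_insert, id] at hx
      obtain ⟨y, hy, v, hv, rfl⟩ := (Core.mem_sup_of_le_normalizer
        (hnormΩ (hsupΩ F hF') ((hWc a) ▸ (hcomp a ha).W_le_omega))).1 hx
      have hy1 : y = 1 := by
        have := mul_mem (hall a ha) (inv_mem (hcent a ha F hF' hYF hv))
        rw [mul_inv_cancel_right] at this
        exact mem_bot.1 ((hfpf a ha).le ⟨hy, this⟩)
      rw [hy1, one_mul] at hall ⊢
      exact ih hF' v hv hall
  -- the pieces
  set U := O.sup id with hU
  set As := A ⊓ normalizer (W : Set G) with hAs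
  set A₁ := A ⊓ centralizer (W : Set G) with hA₁
  set R := W ⊓ centralizer (As : Set G) with hR
  set V' := (O.erase W).sup id with hV'
  set C := U ⊓ centralizer (A : Set G) with hC
  have hUΩ : U ≤ Ω := hsupΩ O le_rfl
  have hV'Ω : V' ≤ Ω := hsupΩ _ (Finset.erase_subset _ _)
  have hWΩ : W ≤ Ω := h.W_le_omega
  have hV'K : V' ≤ centralizer (K : Set G) := by
    have h1 := hcent 1 A.one_mem (O.erase W) (Finset.erase_subset _ _) (by rw [hW1]; exact Finset.notMem_erase _ _)
    have hK1 : Kc 1 = K := by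
      show K.map (MulAut.conj (1 : G)).toMonoidHom = K
      ext x; simp
    rwa [hK1] at h1
  have hWV : W ⊓ V' = ⊥ := by
    have h1 : W ⊓ centralizer (K : Set G) = ⊥ := by
      obtain ⟨ρ, hρ, ho, hn, -⟩ := exists_rho hK
      rw [eq_bot_iff]
      rintro w ⟨hw, hc⟩
      refine mem_bot.2 (rho_fpf hK hρ ho hn hw ?_)
      rw [mem_centralizer_iff.1 hc ρ hρ, mul_inv_cancel_right]
    exact le_bot_iff.1 ((inf_le_inf_left _ hV'K).trans h1.le)
  have hCV : C ⊓ V' = ⊥ := by
    rw [eq_bot_iff]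
    rintro x ⟨hxC, hxV⟩
    refine mem_bot.2 (htriv O le_rfl x hxC.1 fun a ha => mem_centralizer_iff.2 ?_)
    rintro _ ⟨k, hk, rfl⟩
    show a * k * a⁻¹ * x = x * (a * k * a⁻¹)
    have h1 : Commute a x := mem_centralizer_iff.1 hxC.2 a ha
    have h2 : Commute k x := mem_centralizer_iff.1 (hV'K hxV) k hk
    exact ((h1.mul_left h2).mul_left h1.inv_left).eq
  have hCR : C ≤ R ⊔ V' := by
    intro x hx
    have hxU : x ∈ W ⊔ V' := by
      have : U = W ⊔ V' := by
        rw [hU, ← Finset.insert_erase hWO, Finset.sup_insert, id]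
      exact this ▸ hx.1
    obtain ⟨w, hw, v, hv, rfl⟩ := (Core.mem_sup_of_le_normalizer (hnormΩ hV'Ω hWΩ)).1 hxU
    refine mul_mem (mem_sup_left ⟨hw, mem_centralizer_iff.2 fun b hb => ?_⟩) (mem_sup_right hv)
    have hbW : W.map (MulAut.conj b).toMonoidHom = W := Core.map_conj_eq_of_mem_normalizer hb.2
    have hbV : V'.map (MulAut.conj b).toMonoidHom ≤ V' := by
      rw [map_le_iff_le_comap]
      refine Finset.sup_le fun Y hY => map_le_iff_le_comap.1 ?_
      obtain ⟨hYW, hYO⟩ := Finset.mem_erase.1 hY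
      obtain ⟨a, ha, rfl⟩ := hOmem Y hYO
      have he : (Wc a).map (MulAut.conj b).toMonoidHom = Wc (b * a) := by
        show (W.map _).map _ = W.map _
        rw [Subgroup.map_map]
        congr 1
        ext x; simp [mul_assoc]
      rw [id, he]
      refine Finset.le_sup (f := id) (Finset.mem_erase.2 ⟨fun e => hYW ?_, hmemO _ (A.mul_mem hb.1 ha)⟩)
      exact Subgroup.map_injective (MulAut.conj b).injective ((he.trans e).trans hbW.symm)
    have h1 : b * (w * v) * b⁻¹ = w * v := by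
      rw [mem_centralizer_iff.1 hx.2 b hb.1, mul_inv_cancel_right]
    have h2 : w⁻¹ * (b * w * b⁻¹) = v * (b * v * b⁻¹)⁻¹ := by
      calc w⁻¹ * (b * w * b⁻¹) = w⁻¹ * (b * (w * v) * b⁻¹) * (b * v * b⁻¹)⁻¹ := by group
        _ = v * (b * v * b⁻¹)⁻¹ := by rw [h1]; group
    have h3 : w⁻¹ * (b * w * b⁻¹) ∈ W ⊓ V' :=
      ⟨W.mul_mem (W.inv_mem hw) (hbW.le ⟨w, hw, rfl⟩),
        h2 ▸ V'.mul_mem hv (V'.inv_mem (hbV ⟨v, hv, rfl⟩))⟩
    rw [hWV, mem_bot, inv_mul_eq_one] at h3
    exact mul_inv_eq_iff_eq_mul.1 h3.symm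
  have hCcard : Nat.card C ≤ Nat.card R := by
    have h1 := card_sup_mul_card_inf' (A := C) (B := V') (hnormΩ (inf_le_left.trans hUΩ) hV'Ω)
    rw [hCV, card_bot, mul_one] at h1
    have h2 := card_sup_mul_card_inf' (A := R) (B := V') (hnormΩ (inf_le_left.trans hWΩ) hV'Ω)
    have h3 : Nat.card ↥(C ⊔ V') ≤ Nat.card ↥(R ⊔ V') := card_le_of_le (sup_le hCR le_sup_right)
    have h4 : Nat.card ↥(R ⊔ V') ≤ Nat.card R * Nat.card V' := by
      rw [← h2]; exact Nat.le_mul_of_pos_right _ Nat.card_pos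
    exact Nat.le_of_mul_le_mul_right (h1 ▸ h3.trans h4) Nat.card_pos
  -- orbit length
  have horb : Nat.card A ≤ O.card * Nat.card As := by
    choose rep hrep hrep' using hOmem
    rw [← Fintype.card_coe O, ← Nat.card_eq_fintype_card, ← Nat.card_prod]
    refine Nat.card_le_card_of_injective (fun a : A =>
      (⟨⟨Wc a, hmemO a a.2⟩, ⟨(rep _ (hmemO a a.2))⁻¹ * a,
        A.mul_mem (A.inv_mem (hrep _ _)) a.2, ?_⟩⟩ : O × As)) ?_
    · show (rep _ (hmemO a a.2))⁻¹ * (a : G) ∈ normalizer (W : Set G)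
      rw [Core.mem_normalizer_iff_map_conj]
      have e : (Wc (rep _ (hmemO a a.2))).map (MulAut.conj (rep _ (hmemO a a.2))⁻¹).toMonoidHom = W := by
        show (W.map _).map _ = W
        rw [Subgroup.map_map]
        ext x; simp [mul_assoc]
      conv_rhs => rw [← e, ← hrep' _ (hmemO a a.2)]
      show W.map _ = (W.map _).map _
      rw [Subgroup.map_map]
      congr 1
      ext x; simp [mul_assoc]
    · intro a b hab
      simp only [Prod.mk.injEq, Subtype.mk.injEq] at hab
      obtain ⟨h1, h2⟩ := hab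
      have h3 : rep _ (hmemO a a.2) = rep _ (hmemO b b.2) := by congr 1
      have h4 : (rep _ (hmemO a a.2))⁻¹ * (a : G) = (rep _ (hmemO b b.2))⁻¹ * (b : G) :=
        congrArg Subtype.val h2
      rw [h3] at h4
      exact Subtype.ext (mul_left_cancel h4)
  have hWea : IsElementaryAbelian 2 W := isEA_W
  have hstab : Nat.card As * Nat.card R ≤ 4 * Nat.card A₁ := by
    have hR4 : Nat.card R ∣ 4 := hK.2.2.2.2.1 ▸ card_dvd_of_le inf_le_left
    by_cases hc : As ≤ centralizer (W : Set G)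
    · calc Nat.card As * Nat.card R ≤ Nat.card A₁ * 4 := Nat.mul_le_mul
            (card_le_of_le (le_inf inf_le_left hc)) (Nat.le_of_dvd (by norm_num) hR4)
        _ = _ := mul_comm _ _
    · have hR2 : Nat.card R ≤ 2 := by
        obtain ⟨i, hi, e⟩ := (Nat.dvd_prime_pow Nat.prime_two (m := 2)).1 hR4
        rw [e]
        interval_cases i
        · norm_num
        · norm_num
        · exfalso
          refine hc ?_
          rw [le_centralizer_iff]
          exact (eq_of_le_of_card_ge (inf_le_left : R ≤ W) (by rw [e, hK.2.2.2.2.1]; norm_num)).ge.trans inf_le_right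
      have h2 := relIndex_centralizer_le_two hWea hK.2.2.2.2.1
        ((Thompson.isPGroup_of_isEA hA.2.1).to_le inf_le_left) (inf_le_right : As ≤ _)
      have h3 := Core.card_mul_relIndex (inf_le_right : centralizer (W : Set G) ⊓ As ≤ As)
      rw [inf_relIndex_right] at h3
      have h4 : Nat.card ↥(centralizer (W : Set G) ⊓ As) ≤ Nat.card A₁ :=
        card_le_of_le fun x hx => ⟨hx.2.1, hx.1⟩
      calc Nat.card As * Nat.card R ≤ (Nat.card A₁ * 2) * 2 :=
            Nat.mul_le_mul (h3 ▸ Nat.mul_le_mul h4 h2) hR2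
        _ = _ := by ring
  -- a competitor of `A`
  have hA₁U : ∀ {y u : G}, y ∈ A₁ → u ∈ U → Commute y u := by
    intro y u hy hu
    suffices hle : U ≤ centralizer ({y} : Set G) from (mem_centralizer_singleton_iff.1 (hle hu)).symm
    refine Finset.sup_le fun Y hY => ?_
    obtain ⟨a, ha, rfl⟩ := hOmem Y hY
    rintro _ ⟨w, hw, rfl⟩
    refine mem_centralizer_singleton_iff.2 ?_
    show a * w * a⁻¹ * y = y * (a * w * a⁻¹)
    have h1 : Commute y a := Thompson.isEA_commute hA.2.1 hy.1 ha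
    have h2 : Commute y w := (mem_centralizer_iff.1 hy.2 w hw).symm
    exact (((h1.mul_right h2).mul_right h1.inv_right).eq).symm
  have hCea : IsElementaryAbelian 2 (A₁ ⊔ U) := by
    rw [← closure_eq A₁, ← closure_eq U, ← Subgroup.closure_union]
    refine Thompson.isEA_closure ?_ ?_
    · rintro y (hy | hy) z (hz | hz)
      · exact Thompson.isEA_commute hA.2.1 hy.1 hz.1
      · exact hA₁U hy hz
      · exact (hA₁U hz hy).symm
      · exact hcΩ (hUΩ hy) (hUΩ hz)
    · rintro y (hy | hy)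
      · exact hA.2.1.2 y hy.1
      · exact BaumannBlock.omegaOneCenter_pow (p := 2) (hUΩ hy)
  have hbound : Nat.card ↥(A₁ ⊔ U) ≤ Nat.card A := by
    have hle : A₁ ⊔ U ≤ L := sup_le (inf_le_left.trans (hA.1.trans hT.1))
      ((hUΩ.trans hΩP).trans ((map_subtype_le _).trans hXL))
    obtain ⟨S, hS, hCS⟩ := exists_sylow (Thompson.isPGroup_of_isEA hCea) hle
    obtain ⟨n, -, hn⟩ := exists_conj_sylow hS hT
    rw [← BaumannBlock.card_map_mulEquiv (MulAut.conj n) (A₁ ⊔ U)]
    exact hA.2.2 _ ((map_mono hCS).trans hn.le) (Thompson.isEA_map _ hCea)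
  have hm : 4 ^ O.card ≤ 4 * O.card := by
    have h1 := card_sup_mul_card_inf' (A := A₁) (B := U) fun u hu => mem_normalizer_fintype fun y hy => by
      rw [← (hA₁U hy hu).eq, mul_inv_cancel_right]; exact hy
    rw [hcard O le_rfl] at h1
    have h2 : Nat.card ↥(A₁ ⊓ U) ≤ Nat.card C := card_le_of_le fun x hx => ⟨hx.2,
      mem_centralizer_iff.2 fun a ha => (Thompson.isEA_commute hA.2.1 ha hx.1.1).eq⟩
    refine Nat.le_of_mul_le_mul_left ?_ (Nat.card_pos (α := A₁))
    calc Nat.card A₁ * 4 ^ O.card = Nat.card ↥(A₁ ⊔ U) * Nat.card ↥(A₁ ⊓ U) := h1.symm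
      _ ≤ Nat.card A * Nat.card R := Nat.mul_le_mul hbound (h2.trans hCcard)
      _ ≤ O.card * Nat.card As * Nat.card R := Nat.mul_le_mul_right _ horb
      _ = O.card * (Nat.card As * Nat.card R) := mul_assoc _ _ _
      _ ≤ O.card * (4 * Nat.card A₁) := Nat.mul_le_mul_left _ hstab
      _ = Nat.card A₁ * (4 * O.card) := by ring
  have hone : O.card ≤ 1 := by
    by_contra hc
    have : ∀ m : ℕ, 2 ≤ m → 4 * m < 4 ^ m := by
      intro m hm
      induction m, hm using Nat.le_induction with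
      | base => norm_num
      | succ m hm ih => rw [pow_succ]; omega
    have := this O.card (by omega)
    omega
  intro a ha
  rw [Core.mem_normalizer_iff_map_conj]
  exact Finset.card_le_one.1 hone _ (hmemO a ha) _ hWO

end Cfsg.Lib.Local.JComp
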