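import Cfsg.Agent.Lib.Local.JComp.Small

/-!
# The subgroup generated by a component and `T`
-/

set_option autoImplicit false
set_option linter.style.haveILetI false

namespace Cfsg.Lib.Local.JComp

open Subgroup Cfsg Cfsg.Lib Cfsg.Lib.Local.GlaubermanZJ
open scoped commutatorElement

universe u

variable {G : Type u} [Group G] [Finite G] {T K L M : Subgroup G}

variable {S : Sylow 2 G} (b : Base S T M) (hLmax : IsMaximalTwoLocal L) (hTL : IsSylowTwoIn T L)
  (hK : IsJComponent T K) (hKM : ¬ K ≤ M) (hKL : K ≤ L) (hTK : T ≤ normalizer (K : Set G))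
include b hLmax hTL hK hKM hKL hTK

/-- The structure of `⟨K, T⟩`. -/
theorem Base.join_facts :
    Subgroup.centralizer (pCoreOf 2 (K ⊔ T) : Set G) ≤ pCoreOf 2 (K ⊔ T) ∧ IsSylowTwoIn T (K ⊔ T) ∧
      (pCoreOf 2 (K ⊔ T)).relIndex (K ⊔ T) = 6 ∧ ¬ ⁅K ⊔ T, K ⊔ T⁆ ≤ pCoreOf 2 (K ⊔ T) ∧
      ⁅omegaCenterOf T, K ⊔ T⁆ ≠ ⊥ ∧
      ∃ L : Subgroup G, IsMaximalTwoLocal L ∧ K ⊔ T ≤ L ∧ IsSylowTwoIn T L ∧
        ∀ L' : Subgroup G, IsMaximalTwoLocal L' → K ⊔ T ≤ L' → L' = L := by
  haveI : Fact (Nat.Prime 2) := ⟨Nat.prime_two⟩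
  set P := K ⊔ T with hP
  set C := T ⊓ Subgroup.centralizer (wOf K : Set G) with hC
  have hPL : P ≤ L := sup_le hKL hTL.1
  have hTP : IsSylowTwoIn T P :=
    ⟨le_sup_right, b.isPGroup, hTL.2.2.of_dvd_nat (Dvd.intro _ (relIndex_mul_relIndex T P L le_sup_right hPL))⟩
  have hR2T : pCoreOf 2 K ≤ T := by
    have hle : T ≤ normalizer (pCoreOf 2 K : Set G) := hTK.trans (normalizer_le_normalizer_pCoreOf K)
    exact le_sup_left.trans (eq_of_two hTL (IsPGroup.to_sup_of_normal_left' isPGroup_core b.isPGroup hle)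
      le_sup_right (sup_le (core_le.trans hKL) hTL.1)).le
  have hKT : K ⊓ T = pCoreOf 2 K :=
    eq_core_of_two hK (le_inf core_le hR2T) inf_le_left (b.isPGroup.to_le inf_le_right)
  obtain ⟨r, hr, hr1⟩ := fixed_exists b.isPGroup hK
  obtain ⟨A, hA, hAW⟩ := exists_moving hK
  obtain ⟨a, haA, haW⟩ := SetLike.not_le_iff_exists.1 hAW
  have haT : a ∈ T := hA.1 haA
  obtain ⟨ρ, hρ, ho, hn, -, hinv⟩ :=
    exists_inverted b.isPGroup hK hTK haT (by rw [← pow_two]; exact hA.2.1.2 a haA) haW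
  have hPW : P ≤ normalizer (wOf K : Set G) :=
    (sup_le le_normalizer hTK).trans normalizer_le_normalizer_W
  -- `O₂(P) = C`
  have hCP : P ≤ normalizer (C : Set G) := by
    intro p hp
    refine mem_normalizer_fintype fun c hc => ?_
    have hd : p * c * p⁻¹ ∈ P := P.mul_mem (P.mul_mem hp (mem_sup_right hc.1)) (P.inv_mem hp)
    have hdW : p * c * p⁻¹ ∈ Subgroup.centralizer (wOf K : Set G) := mem_centralizer_iff.2 fun w hw => by
      have h1 := mem_centralizer_iff.1 hc.2 _ ((mem_normalizer_iff''.1 (hPW hp) w).1 hw)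
      calc w * (p * c * p⁻¹) = p * ((p⁻¹ * w * p) * c) * p⁻¹ := by group
        _ = p * (c * (p⁻¹ * w * p)) * p⁻¹ := by rw [h1]
        _ = p * c * p⁻¹ * w := by group
    refine ⟨?_, hdW⟩
    rw [hP, sup_comm] at hd
    obtain ⟨t, ht, k, hk, e⟩ := (Core.mem_sup_of_le_normalizer hTK).1 hd
    rw [← e] at hdW ⊢
    refine T.mul_mem ht (hR2T ?_)
    by_cases htW : t ∈ Subgroup.centralizer (wOf K : Set G)
    · refine (inf_centralizer_eq hK).le ⟨hk, ?_⟩
      simpa using (Subgroup.centralizer (wOf K : Set G)).mul_mem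
        ((Subgroup.centralizer (wOf K : Set G)).inv_mem htW) hdW
    · refine fix_le_core hK hk hr.1 hr1 (mul_inv_eq_iff_eq_mul.2 ?_)
      have h1 : Commute (t * k) r := (mem_centralizer_iff.1 hdW r hr.1).symm
      have h2 := T_commute_fixed b.isPGroup hK hTK ht hr
      simpa using (h2.inv_left.mul_left h1).eq
  have hO : pCoreOf 2 P = C := by
    refine le_antisymm (fun x hx => ?_)
      (le_pCoreOf (inf_le_left.trans le_sup_right) hCP (b.isPGroup.to_le inf_le_left))
    have hxT : x ∈ T := core_le_sylow hTP hx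
    refine ⟨hxT, by_contra fun hxW => ?_⟩
    set c := ρ * x * ρ⁻¹ * x⁻¹ with hc
    have hcK : c ∈ K := by
      have h := (mem_normalizer_iff.1 (hTK hxT) ρ⁻¹).1 (K.inv_mem hρ)
      have := K.mul_mem hρ h
      rwa [← mul_assoc, ← mul_assoc] at this
    have hcO : c ∈ pCoreOf 2 P :=
      (pCoreOf 2 P).mul_mem ((mem_normalizer_iff.1 (core_le_normalizer' (N := P) (mem_sup_left hρ)) x).1 hx)
        ((pCoreOf 2 P).inv_mem hx)
    have hcW : c ∈ Subgroup.centralizer (wOf K : Set G) :=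
      core_le_centralizer_W (hKT.le ⟨hcK, core_le_sylow hTP hcO⟩)
    have h1 : Commute (c * x) r :=
      (mem_centralizer_iff.1 hcW r hr.1).symm |> fun h : Commute c r =>
        h.mul_left (T_commute_fixed b.isPGroup hK hTK hxT hr)
    rw [hc, inv_mul_cancel_right] at h1
    set y := ρ⁻¹ * r * ρ with hy
    have hyW : y ∈ wOf K :=
      (mem_normalizer_iff''.1 (normalizer_le_normalizer_W (le_normalizer hρ)) r).1 hr.1
    have hxy : Commute x y := by
      have := h1.map (MulAut.conj ρ⁻¹)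
      simpa [hy, mul_assoc] using this
    have hy1 : y ≠ 1 := fun h => hr1 (by
      calc r = ρ * y * ρ⁻¹ := by rw [hy]; group
        _ = 1 := by rw [h]; group)
    have e := fixed_unique b.isPGroup hK hr hr1 (T_fixed b.isPGroup hK hTK hxT hxW hyW hxy) hy1
    refine hr1 (rho_fpf hK hρ ho hn hr.1 ?_)
    conv_lhs => rw [← e]
    rw [hy]; group
  have hQC : pCoreOf 2 L ≤ C := by
    rw [← hO]
    exact le_pCoreOf ((core_le_sylow hTL).trans le_sup_right) (hPL.trans core_le_normalizer')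
      isPGroup_Q
  refine ⟨?_, hTP, ?_, ?_, ?_, L, hLmax, hPL, hTL, fun L' hL' hle => ?_⟩
  · rw [hO]
    exact (Subgroup.centralizer_le hQC).trans ((twoLocal_facts b.char2 hLmax.1).trans hQC)
  · have h1 := card_sup_mul_card_inf' (A := K) (B := T) hTK
    rw [hKT, card_eq hK, ← hP] at h1
    have h2 : Nat.card P = 3 * Nat.card T := by
      apply Nat.eq_of_mul_eq_mul_right (Nat.card_pos (α := ↥(pCoreOf 2 K)))
      rw [h1]; ring
    have h3 : Nat.card T = 2 * Nat.card C := by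
      refine le_antisymm ?_ (two_mul_card_le inf_le_left haT fun h => haW h.2)
      have hcov : (T : Set G) ⊆ (C : Set G) ∪ (fun v => a * v) '' (C : Set G) := by
        intro v hv
        by_cases hvW : v ∈ Subgroup.centralizer (wOf K : Set G)
        · exact Or.inl ⟨hv, hvW⟩
        · exact Or.inr ⟨a⁻¹ * v, ⟨T.mul_mem (T.inv_mem haT) hv,
            T_mul_mem b.isPGroup hK hTK haT hv haW hvW⟩, mul_inv_cancel_left a v⟩
      rw [show Nat.card T = (T : Set G).ncard from Nat.card_coe_set_eq _,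
        show Nat.card C = (C : Set G).ncard from Nat.card_coe_set_eq _]
      refine le_trans (Set.ncard_le_ncard hcov (Set.toFinite _)) (le_trans (Set.ncard_union_le _ _) ?_)
      have := Set.ncard_image_le (f := fun v => a * v) (s := (C : Set G)) (Set.toFinite _)
      omega
    rw [hO]
    have h4 := Core.card_mul_relIndex (show C ≤ P from inf_le_left.trans le_sup_right)
    rw [h2, h3] at h4
    apply Nat.eq_of_mul_eq_mul_left (Nat.card_pos (α := ↥C))
    rw [h4]; ring
  · intro h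
    have h1 : ⁅a, ρ⁆ ∈ Subgroup.centralizer (wOf K : Set G) :=
      ((hO ▸ h) (commutator_mem_commutator (mem_sup_right haT) (mem_sup_left hρ))).2
    rw [commutatorElement_def, hinv] at h1
    have h2 : ρ⁻¹ * ρ⁻¹ ∈ pCoreOf 2 K :=
      (inf_centralizer_eq hK).le ⟨K.mul_mem (K.inv_mem hρ) (K.inv_mem hρ), h1⟩
    rw [← mul_inv_rev, inv_mem_iff] at h2
    obtain ⟨m, hm⟩ := exists_pow_eq_self_of_coprime
      (show Nat.Coprime 2 (orderOf ρ) from Nat.coprime_two_left.2 ho)
    exact hn (hm ▸ pow_mem (by rw [pow_two]; exact h2) m)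
  · intro h
    have hrΩ : r ∈ omegaCenterOf T := subset_closure
      ⟨⟨Z0_le (fixed_le_Z0 b.isPGroup hK hr), mem_centralizer_iff.2 fun t ht =>
        (T_commute_fixed b.isPGroup hK hTK ht hr).eq⟩, W_pow hr.1⟩
    have h1 := h.le (commutator_mem_commutator hrΩ (mem_sup_left hρ))
    rw [mem_bot, commutatorElement_eq_one_iff_mul_comm] at h1
    exact hr1 (rho_fpf hK hρ ho hn hr.1 (mul_inv_eq_iff_eq_mul.2 h1.symm))
  · exact (hL'.2 L hLmax.1 (b.eq_max hLmax hKL hK hKM ((map_subtype_le _).trans hTL.1) hL'.1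
      (le_sup_left.trans hle) ((map_subtype_le _).trans (le_sup_right.trans hle)))).symm

omit hKM hLmax hTL hKL hTK in
omit b hK in
/-- Two components in different maximal subgroups generate a subgroup with trivial 2-core. -/
theorem Base.core_join_eq_bot {K₂ : Subgroup G} (b : Base S T M) (hLmax : IsMaximalTwoLocal L)
    (hJL : thompsonSubgroupOf 2 T ≤ L) (hK : IsJComponent T K) (hKM : ¬ K ≤ M) (hKL : K ≤ L)
    (hK₂ : ¬ K₂ ≤ L) : pCoreOf 2 ((K ⊔ T) ⊔ (K₂ ⊔ T)) = ⊥ := by
  by_contra hU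
  set X := (K ⊔ T) ⊔ (K₂ ⊔ T)
  have hX : X ≤ normalizer (pCoreOf 2 X : Set G) := core_le_normalizer'
  exact hK₂ ((le_sup_left.trans (le_sup_right.trans hX)).trans (b.eq_max hLmax hKL hK hKM hJL
    ⟨_, (Core.pCore_isPGroup 2 _).map _, hU, rfl⟩ (le_sup_left.trans (le_sup_left.trans hX))
    ((map_subtype_le _).trans (le_sup_right.trans (le_sup_left.trans hX)))))

end Cfsg.Lib.Local.JComp
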