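import Cfsg.Agent.Lib.Local.JComp.Critical

/-!
# The maximal subgroups of two linked components
-/

set_option autoImplicit false
set_option linter.style.haveILetI false

namespace Cfsg.Lib.Local.JComp

open Subgroup Cfsg Cfsg.Lib Cfsg.Lib.Local.GlaubermanZJ

universe u

variable {G : Type u} [Group G] [Finite G] {T K₁ K₂ L₁ L₂ : Subgroup G}

omit [Finite G] in
/-- The subgroup generated by squares. -/
abbrev sqClosure (X : Subgroup G) : Subgroup G := Subgroup.closure ((fun x => x * x) '' (X : Set G))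

theorem normalizer_le_sqClosure (X : Subgroup G) :
    normalizer (X : Set G) ≤ normalizer (sqClosure X : Set G) := by
  intro g hg
  refine mem_normalizer_fintype fun x hx => ?_
  have hle : sqClosure X ≤ (sqClosure X).comap (MulAut.conj g).toMonoidHom := by
    refine (Subgroup.closure_le _).2 ?_
    rintro _ ⟨y, hy, rfl⟩
    exact Subgroup.subset_closure ⟨g * y * g⁻¹, (mem_normalizer_iff.1 hg y).1 hy, by simp [mul_assoc]⟩
  exact hle hx

namespace Linked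

variable (k : Linked T K₁ L₁ K₂ L₂)
include k

/-- The decomposition of `T ∩ C(W₁)`. -/
theorem split_CT : ∃ v ∈ wOf K₂, v ∉ Subgroup.centralizer (wOf K₁ : Set G) ∧
    ∃ ρ ∈ K₁, ρ ∉ pCoreOf 2 K₁ ∧ ∀ c ∈ CT T K₁, ∃ w ∈ wOf K₁, ∃ c₀ ∈ CT T K₁ ⊓ CT T K₂,
      Commute ρ c₀ ∧ Commute v c₀ ∧ c = w * c₀ := by
  have s₁ := k.left
  have s₂ := k.right
  obtain ⟨s, hs1, hs₁, hs₂⟩ := k.fixed_common k.not_commute
  obtain ⟨v, hv, hvW⟩ := SetLike.not_le_iff_exists.1 k.not_commute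
  have hsZ := fixed_le_Z0 s₁.isPGroup s₁.comp hs₁
  have hvR : v ∉ wOf K₂ ⊓ Subgroup.centralizer (thompsonSubgroupOf 2 T : Set G) := by
    intro h
    apply hvW
    by_cases hv1 : v = 1
    · rw [hv1]; exact one_mem _
    · rw [fixed_unique s₂.isPGroup s₂.comp hs₂ hs1 h hv1]
      exact mem_centralizer_iff.2 fun w hw => (W_commute hw hs₁.1).eq
  have hmove : ∀ t ∈ T, t * v * t⁻¹ = v ∨ t * v * t⁻¹ = v * s := fun t ht => by
    by_cases htW : t ∈ Subgroup.centralizer (wOf K₂ : Set G)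
    · left; rw [← mem_centralizer_iff.1 htW v hv, mul_inv_cancel_right]
    · right; rw [T_moves s₂.isPGroup s₂.comp s₂.norm ht htW hs₂ hs1 hv hvR, (W_commute hs₂.1 hv).eq]
  have d : SplitData T K₁ (Subgroup.centralizer ({s} : Set G)) v s :=
    ⟨s₁.isPGroup, s₁.comp, s₁.norm, s₁.W_le, s₁.K_le_normalizer_CT, s₂.W_le hv,
      by rw [← pow_two]; exact W_pow hv, fun t ht => s₁.Z0_central ht hsZ, Z0_sq hsZ, hs1, hmove,
      fun ρ hρ hn h => hn (fix_le_core s₁.comp hρ hs₁.1 hs1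
        (mul_inv_eq_iff_eq_mul.2 (mem_centralizer_singleton_iff.1 h))), le_rfl⟩
  obtain ⟨-, ρ, hρ, -, hn, hsplit⟩ := d.split hvW
  refine ⟨v, hv, hvW, ρ, hρ, hn, fun c hc => ?_⟩
  obtain ⟨w, hw, c₀, hc₀, hρc, hvc, e⟩ := hsplit c hc
  refine ⟨w, hw, c₀, ⟨hc₀, hc₀.1, ?_⟩, hρc, hvc, e⟩
  by_contra hW
  exact hvR (T_fixed s₂.isPGroup s₂.comp s₂.norm hc₀.1 hW hv hvc.symm)

theorem sqClosure_le : sqClosure (CT T K₁) ≤ sqClosure (CT T K₁ ⊓ CT T K₂) := by
  obtain ⟨v, -, -, ρ, -, -, h⟩ := k.split_CT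
  refine (Subgroup.closure_le _).2 ?_
  rintro _ ⟨c, hc, rfl⟩
  obtain ⟨w, hw, c₀, hc₀, -, -, rfl⟩ := h c hc
  refine Subgroup.subset_closure ⟨c₀, hc₀, ?_⟩
  have hwc : Commute w c₀ := mem_centralizer_iff.1 hc₀.1.2 w hw
  show c₀ * c₀ = w * c₀ * (w * c₀)
  calc c₀ * c₀ = (w * w) * (c₀ * c₀) := by rw [← pow_two w, W_pow hw, one_mul]
    _ = w * (w * c₀) * c₀ := by group
    _ = w * (c₀ * w) * c₀ := by rw [hwc.eq]
    _ = _ := by group

/-- `T ∩ C(W₁)` is elementary abelian. -/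
theorem CT_sq {c : G} (hc : c ∈ CT T K₁) : c * c = 1 := by
  have mono : ∀ {X Y : Subgroup G}, X ≤ Y → sqClosure X ≤ sqClosure Y := fun h =>
    Subgroup.closure_mono (Set.image_mono (SetLike.coe_subset_coe.2 h))
  have e₁ : sqClosure (CT T K₁) = sqClosure (CT T K₁ ⊓ CT T K₂) :=
    le_antisymm k.sqClosure_le (mono inf_le_left)
  have e₂ : sqClosure (CT T K₂) = sqClosure (CT T K₁ ⊓ CT T K₂) :=
    le_antisymm (k.symm.sqClosure_le.trans (by rw [inf_comm])) (mono inf_le_right)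
  by_contra hne
  set Q := sqClosure (CT T K₁)
  have hQ1 : Q ≠ ⊥ := fun h => hne (mem_bot.1 (h ▸ Subgroup.subset_closure ⟨c, hc, rfl⟩))
  have hQp : IsPGroup 2 Q := k.left.isPGroup.to_le ((Subgroup.closure_le _).2 (by
    rintro _ ⟨x, hx, rfl⟩
    exact T.mul_mem hx.1 hx.1))
  have hle := k.left.eq_max ⟨Q, hQp, hQ1, rfl⟩
    (k.left.K_le_normalizer_CT.trans (normalizer_le_sqClosure _))
    ((map_subtype_le _).trans (k.left.T_le_normalizer_CT.trans (normalizer_le_sqClosure _)))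
  refine k.out (le_trans ?_ hle)
  show K₂ ≤ normalizer (Q : Set G)
  rw [show Q = sqClosure (CT T K₂) from e₁.trans e₂.symm]
  exact k.right.K_le_normalizer_CT.trans (normalizer_le_sqClosure _)

theorem CT_comm {a b : G} (ha : a ∈ CT T K₁) (hb : b ∈ CT T K₁) : Commute a b := by
  have h1 := k.CT_sq ha
  have h2 := k.CT_sq hb
  have h3 := k.CT_sq ((CT T K₁).mul_mem ha hb)
  show a * b = b * a
  calc a * b = (a * b)⁻¹ := (inv_eq_of_mul_eq_one_right h3).symm
    _ = b⁻¹ * a⁻¹ := mul_inv_rev a b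
    _ = b * a := by rw [inv_eq_of_mul_eq_one_right h1, inv_eq_of_mul_eq_one_right h2]

theorem CT_eq : CT T K₁ = wOf K₁ ⊔ Hof T K₁ := by
  have s₁ := k.left
  refine le_antisymm (fun c hc => ?_) (sup_le s₁.W_le_CT fun h hh =>
    ⟨(s₁.Hof_central hh).1, mem_centralizer_iff.2 fun w hw =>
      mem_centralizer_iff.1 (s₁.Hof_central hh).2 w (s₁.W_le hw)⟩)
  obtain ⟨v, hv, hvW, ρ, hρ, hn, hsplit⟩ := k.split_CT
  obtain ⟨w, hw, c₀, hc₀, hρc, hvc, rfl⟩ := hsplit c hc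
  refine mul_mem (mem_sup_left hw) (mem_sup_right ⟨omega_le_Z0 (Subgroup.subset_closure
    ⟨⟨hc₀.1.1, mem_centralizer_iff.2 fun t ht => ?_⟩, by rw [pow_two]; exact k.CT_sq hc₀.1⟩),
    mem_centralizer_iff.2 fun x hx => ?_⟩)
  · show Commute t c₀
    by_cases htW : t ∈ Subgroup.centralizer (wOf K₁ : Set G)
    · exact k.CT_comm ⟨ht, htW⟩ hc₀.1
    · have h1 : v⁻¹ * t ∈ CT T K₁ :=
        ⟨T.mul_mem (T.inv_mem (k.right.W_le hv)) ht,
          T_mul_mem s₁.isPGroup s₁.comp s₁.norm (k.right.W_le hv) ht hvW htW⟩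
      have h2 := hvc.mul_left (k.CT_comm h1 hc₀.1)
      rwa [mul_inv_cancel_left] at h2
  · have hle : K₁ ≤ Subgroup.centralizer ({c₀} : Set G) := by
      conv_lhs => rw [← eq_of_core_lt s₁.comp (le_sup_left : pCoreOf 2 K₁ ≤ pCoreOf 2 K₁ ⊔ zpowers ρ)
        (sup_le core_le (zpowers_le.2 hρ)) fun h => hn (h (mem_sup_right (mem_zpowers ρ)))]
      refine sup_le (fun q hq => mem_centralizer_singleton_iff.2 (k.CT_comm (s₁.R2_le_CT hq) hc₀.1).eq) ?_
      rw [zpowers_le]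
      exact mem_centralizer_singleton_iff.2 hρc.eq
    exact mem_centralizer_singleton_iff.1 (hle hx)

omit k in
theorem W_inf_Hof {T K : Subgroup G} (hK : IsJComponent T K) : wOf K ⊓ Hof T K = ⊥ := by
  refine (eq_bot_iff_forall _).2 fun x hx => ?_
  obtain ⟨ρ, hρ, ho, hn, -⟩ := exists_rho hK
  refine rho_fpf hK hρ ho hn hx.1 ?_
  rw [mem_centralizer_iff.1 hx.2.2 ρ hρ, mul_inv_cancel_right]

theorem card_CT : Nat.card ↥(CT T K₁) = 4 * Nat.card ↥(Hof T K₁) := by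
  have hn : Hof T K₁ ≤ normalizer (wOf K₁ : Set G) := fun h hh =>
    normalizer_le_normalizer_W (k.left.norm (Z0_le hh.1))
  have h := card_sup_mul_card_inf' hn
  rw [← k.CT_eq, W_inf_Hof k.left.comp, card_bot, mul_one, k.left.comp.2.2.2.2.1] at h
  exact h

theorem core_L : pCoreOf 2 L₁ = CT T K₁ := by
  haveI : Fact (Nat.Prime 2) := ⟨Nat.prime_two⟩
  have s₁ := k.left
  have hQT := core_le_sylow s₁.sylow (N := L₁)
  have hPL : K₁ ⊔ T ≤ L₁ := sup_le s₁.le s₁.sylow.1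
  obtain ⟨S, M, b, hKM⟩ := s₁.base
  have hC := twoLocal_facts b.char2 s₁.max.1
  have h1 : pCoreOf 2 L₁ ≤ CT T K₁ := by
    refine le_inf hQT fun x hx => ?_
    by_contra hxW
    obtain ⟨ρ, hρ, ho, hn, -⟩ := exists_rho s₁.comp
    obtain ⟨r, hr, hr1⟩ := fixed_exists s₁.isPGroup s₁.comp
    have hx' : ρ⁻¹ * x * ρ ∈ pCoreOf 2 L₁ :=
      (mem_normalizer_iff''.1 (core_le_normalizer' (s₁.le hρ)) x).1 hx
    have h2 := T_commute_fixed s₁.isPGroup s₁.comp s₁.norm (hQT hx') hr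
    have h3 : Commute x (ρ * r * ρ⁻¹) := by
      have := h2.map (MulAut.conj ρ)
      simpa [mul_assoc] using this
    have hyW : ρ * r * ρ⁻¹ ∈ wOf K₁ :=
      (mem_normalizer_iff.1 (normalizer_le_normalizer_W (le_normalizer hρ)) r).1 hr.1
    exact hr1 (rho_fpf s₁.comp hρ ho hn hr.1 (fixed_unique s₁.isPGroup s₁.comp hr hr1
      (T_fixed s₁.isPGroup s₁.comp s₁.norm (hQT hx) hxW hyW h3) fun e => hr1 (conj_eq_one_iff.1 e)))
  exact le_antisymm h1 fun c hc => hC (mem_centralizer_iff.2 fun q hq => (k.CT_comm (h1 hq) hc).eq)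

/-- `L₁ = K₁ T`. -/
theorem L_eq : L₁ = K₁ ⊔ T := by
  haveI : Fact (Nat.Prime 2) := ⟨Nat.prime_two⟩
  have s₁ := k.left
  obtain ⟨S, M, b, hKM⟩ := s₁.base
  have hC := twoLocal_facts b.char2 s₁.max.1
  rw [k.core_L] at hC
  refine le_antisymm (fun g hg => ?_) (sup_le s₁.le s₁.sylow.1)
  have hsame : ∀ K', IsJComponent T K' → K' ≤ L₁ → wOf K₁ = wOf K' := by
    intro K' hK' hK'L
    by_contra hne
    obtain ⟨h1, -⟩ := s₁.centralizes hK' hK'L hne
    have c := b.ctx s₁.max.1 (fun h => hKM (s₁.le.trans h)) s₁.J_le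
    have hW' : wOf K' ≤ CT T K₁ := by
      rw [← k.core_L]
      exact W_le_core.trans
        (SubComp.core_le_core ⟨⟨T, hK'⟩, hK'L, c.isSubnormal hK' hK'L⟩)
    have h2 : wOf K' ≤ normalizer (wOf K₁ : Set G) := fun x hx =>
      normalizer_le_normalizer_W (s₁.norm (hW' hx).1)
    have h3 := card_sup_mul_card_inf' h2
    rw [s₁.comp.2.2.2.2.1, hK'.2.2.2.2.1] at h3
    have h4 : Nat.card ↥(wOf K₁ ⊔ wOf K') ≤ 8 := by
      refine (card_le_of_le (sup_le s₁.W_le_CT hW')).trans ?_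
      rw [k.card_CT]
      have := s₁.card_Hof
      omega
    have h5 : wOf K₁ ⊓ wOf K' ≠ ⊥ := fun h => by rw [h, card_bot, mul_one] at h3; omega
    obtain ⟨⟨x, hx⟩, hx1⟩ := ne_bot_iff_exists_ne_one.1 h5
    obtain ⟨ρ, hρ, ho, hn, -⟩ := exists_rho hK'
    refine hx1 (Subtype.ext (rho_fpf hK' hρ ho hn hx.2 ?_))
    rw [← mem_centralizer_iff.1 (h1 hρ) x hx.1, mul_inv_cancel_right]
  have hgW := s₁.le_normalizer_W hsame hg
  obtain ⟨p, hp, hpg⟩ := s₁.exists_same_action hgW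
  set c := p⁻¹ * g
  have hcL : c ∈ L₁ := L₁.mul_mem (L₁.inv_mem (sup_le s₁.le s₁.sylow.1 hp)) hg
  have hcK : c ∈ normalizer (K₁ : Set G) := by
    rw [s₁.normalizer_K_eq]; exact centralizer_le_normalizer _ hpg
  have hcC : ∀ x ∈ CT T K₁, c * x * c⁻¹ ∈ CT T K₁ := fun x hx => by
    rw [← k.core_L] at hx ⊢
    exact (mem_normalizer_iff.1 (core_le_normalizer' hcL) x).1 hx
  have hcH : ∀ h ∈ Hof T K₁, c * h * c⁻¹ ∈ Hof T K₁ := by
    intro h hh
    have h1 := hcC h (k.CT_eq.ge (mem_sup_right hh))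
    have h2 : c * h * c⁻¹ ∈ Subgroup.centralizer (K₁ : Set G) := mem_centralizer_iff.2 fun x hx => by
      have := mem_centralizer_iff.1 hh.2 _ ((mem_normalizer_iff''.1 hcK x).1 hx)
      calc x * (c * h * c⁻¹) = c * ((c⁻¹ * x * c) * h) * c⁻¹ := by group
        _ = c * (h * (c⁻¹ * x * c)) * c⁻¹ := by rw [this]
        _ = c * h * c⁻¹ * x := by group
    rw [k.CT_eq] at h1
    obtain ⟨w, hw, h', hh', e⟩ := (Core.mem_sup_of_le_normalizer (show wOf K₁ ≤ normalizer (Hof T K₁ : Set G)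
      from s₁.W_le.trans s₁.T_le_normalizer_Hof)).1 h1
    have hw1 : w ∈ wOf K₁ ⊓ Hof T K₁ := by
      refine ⟨hw, fixed_le_Z0 s₁.isPGroup s₁.comp ?_, ?_⟩
      · obtain ⟨ρ, hρ, ho, hn, -⟩ := exists_rho s₁.comp
        have hwe : w = c * h * c⁻¹ * h'⁻¹ := by rw [← e, mul_inv_cancel_right]
        have : w = 1 := rho_fpf s₁.comp hρ ho hn hw (by
          have h3 : Commute ρ w := by
            rw [hwe]
            exact (show Commute ρ (c * h * c⁻¹) from mem_centralizer_iff.1 h2 ρ hρ).mul_right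
              (show Commute ρ h' from mem_centralizer_iff.1 hh'.2 ρ hρ).inv_right
          rw [h3.eq, mul_inv_cancel_right])
        rw [this]; exact one_mem _
      · rw [show w = c * h * c⁻¹ * h'⁻¹ by rw [← e, mul_inv_cancel_right]]
        exact mul_mem h2 (Subgroup.inv_mem _ hh'.2)
    rw [W_inf_Hof s₁.comp, mem_bot] at hw1
    rw [← e, hw1, one_mul]
    exact hh'
  have hcc : c ∈ Subgroup.centralizer (CT T K₁ : Set G) := by
    refine mem_centralizer_iff.2 fun x hx => ?_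
    have hle : CT T K₁ ≤ Subgroup.centralizer ({c} : Set G) := by
      rw [k.CT_eq]
      refine sup_le (fun w hw => mem_centralizer_singleton_iff.2 (mem_centralizer_iff.1 hpg w hw)) ?_
      intro h hh
      refine mem_centralizer_singleton_iff.2 ?_
      by_cases h1 : h = 1
      · rw [h1, one_mul, mul_one]
      have e : c * h * c⁻¹ = h := by
        by_contra hne
        have h3 : ({1, h, c * h * c⁻¹} : Set G).ncard ≤ Nat.card ↥(Hof T K₁) := by
          rw [show Nat.card ↥(Hof T K₁) = (Hof T K₁ : Set G).ncard from Nat.card_coe_set_eq _]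
          refine Set.ncard_le_ncard ?_ (Set.toFinite _)
          rintro v (rfl | rfl | rfl)
          exacts [one_mem _, hh, hcH h hh]
        have h4 : c * h * c⁻¹ ≠ 1 := fun e => h1 (conj_eq_one_iff.1 e)
        rw [Set.ncard_insert_of_notMem (by simp [Ne.symm h1, Ne.symm h4]) (Set.toFinite _),
          Set.ncard_pair (Ne.symm hne)] at h3
        have := s₁.card_Hof
        omega
      exact (mul_inv_eq_iff_eq_mul.1 e).symm
    exact mem_centralizer_singleton_iff.1 (hle hx)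
  have := (K₁ ⊔ T).mul_mem hp (mem_sup_right (hC hcc).1)
  rwa [mul_inv_cancel_left] at this

/-- The isomorphism type. -/
theorem iso :
    (Nat.card ↥(Hof T K₁) = 1 → Nonempty (↥L₁ ≃* Equiv.Perm (Fin 4))) ∧
    (Nat.card ↥(Hof T K₁) = 2 → Nonempty (↥L₁ ≃* Equiv.Perm (Fin 4) × Multiplicative (ZMod 2))) := by
  classical
  haveI : Fact (Nat.Prime 2) := ⟨Nat.prime_two⟩
  haveI : Fact (Nat.Prime 3) := ⟨Nat.prime_three⟩
  have s₁ := k.left
  have hL := k.L_eq
  obtain ⟨A, hA, hAW⟩ := exists_moving s₁.comp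
  obtain ⟨a, haA, haW⟩ := SetLike.not_le_iff_exists.1 hAW
  have haT : a ∈ T := hA.1 haA
  have ha2 : a * a = 1 := by rw [← pow_two]; exact hA.2.1.2 a haA
  have ha1 : a ≠ 1 := fun h => haW (h ▸ one_mem _)
  obtain ⟨ρ, hρ, ho, hn, hρ3, hinv⟩ := exists_inverted s₁.isPGroup s₁.comp s₁.norm haT ha2 haW
  have hρ1 : ρ ≠ 1 := fun h => hn (h ▸ one_mem _)
  have hor : orderOf ρ = 3 := orderOf_eq_prime (by rw [pow_succ, pow_two]; exact hρ3) hρ1
  have hoa : orderOf a = 2 := orderOf_eq_prime (by rw [pow_two]; exact ha2) ha1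
  set A₀ := zpowers ρ
  set B₀ := zpowers a
  have hBA : B₀ ≤ normalizer (A₀ : Set G) := zpowers_le.2 (mem_normalizer_fintype fun x hx => by
    obtain ⟨i, rfl⟩ := hx
    refine ⟨-i, ?_⟩
    show ρ ^ (-i) = a * ρ ^ i * a⁻¹
    rw [← conj_zpow, hinv, inv_zpow, zpow_neg])
  have hAc : Nat.card A₀ = 3 := by rw [Nat.card_zpowers, hor]
  have hBc : Nat.card B₀ = 2 := by rw [Nat.card_zpowers, hoa]
  set S₀ := A₀ ⊔ B₀ with hS₀
  have hS6 : Nat.card S₀ = 6 := by
    have h := card_sup_mul_card_inf' hBA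
    have hinf : Nat.card ↥(A₀ ⊓ B₀) = 1 := Nat.eq_one_of_dvd_coprimes (by norm_num : Nat.Coprime 3 2)
      (hAc ▸ card_dvd_of_le inf_le_left) (hBc ▸ card_dvd_of_le inf_le_right)
    rw [hinf, mul_one, hAc, hBc] at h
    exact h
  obtain ⟨r, hr, hr1⟩ := fixed_exists s₁.isPGroup s₁.comp
  have hρW : ρ ∈ normalizer (wOf K₁ : Set G) := normalizer_le_normalizer_W (le_normalizer hρ)
  have hSW : S₀ ≤ normalizer (wOf K₁ : Set G) := sup_le (zpowers_le.2 hρW)
    (zpowers_le.2 (normalizer_le_normalizer_W (s₁.norm haT)))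
  have hSC : ∀ x ∈ S₀, x ∈ Subgroup.centralizer (wOf K₁ : Set G) → x = 1 := by
    intro x hx hxW
    rw [hS₀, sup_comm] at hx
    obtain ⟨b, hb, c, hc, rfl⟩ := (Core.mem_sup_of_le_normalizer hBA).1 hx
    obtain ⟨i, rfl⟩ := hc
    have hcK : ρ ^ i ∈ K₁ := K₁.zpow_mem hρ i
    have hc1 : ρ ^ i ∈ Subgroup.centralizer (wOf K₁ : Set G) → ρ ^ i = 1 := by
      intro hcW
      have h1 := (inf_centralizer_eq s₁.comp).le ⟨hcK, hcW⟩
      obtain ⟨m, hm⟩ := isPGroup_core ⟨ρ ^ i, h1⟩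
      have h2 : orderOf (ρ ^ i) ∣ 2 ^ m := orderOf_dvd_of_pow_eq_one (congrArg Subtype.val hm)
      have h3 : orderOf (ρ ^ i) ∣ 3 := hor ▸ orderOf_dvd_of_pow_eq_one (by
        rw [← zpow_natCast, ← zpow_mul, mul_comm, zpow_mul, zpow_natCast, pow_orderOf_eq_one, one_zpow])
      exact orderOf_eq_one_iff.1 (Nat.eq_one_of_dvd_coprimes
        ((by norm_num : Nat.Coprime 2 3).pow_left m) h2 h3)
    obtain ⟨j, rfl⟩ := hb
    rcases Int.even_or_odd' j with ⟨m, rfl | rfl⟩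
    · have e : a ^ (2 * m) = 1 := by rw [zpow_mul, zpow_two, ha2, one_zpow]
      change a ^ (2 * m) * ρ ^ i ∈ _ at hxW
      show a ^ (2 * m) * ρ ^ i = 1
      rw [e, one_mul] at hxW ⊢
      exact hc1 hxW
    · exfalso
      have e : a ^ (2 * m + 1) = a := by rw [zpow_add_one, zpow_mul, zpow_two, ha2, one_zpow, one_mul]
      change a ^ (2 * m + 1) * ρ ^ i ∈ _ at hxW
      rw [e] at hxW
      have h1 : Commute (a * ρ ^ i) r := (mem_centralizer_iff.1 hxW r hr.1).symm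
      have h2 := (T_commute_fixed s₁.isPGroup s₁.comp s₁.norm haT hr).inv_left.mul_left h1
      rw [inv_mul_cancel_left] at h2
      have h3 := core_le_centralizer_W (fix_le_core s₁.comp hcK hr.1 hr1 (mul_inv_eq_iff_eq_mul.2 h2.eq))
      have h4 := (Subgroup.centralizer (wOf K₁ : Set G)).mul_mem hxW
        ((Subgroup.centralizer (wOf K₁ : Set G)).inv_mem h3)
      rw [mul_inv_cancel_right] at h4
      exact haW h4
  have hWS : wOf K₁ ⊓ S₀ = ⊥ := (eq_bot_iff_forall _).2 fun x hx =>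
    hSC x hx.2 (mem_centralizer_iff.2 fun w hw => (W_commute hw hx.1).eq)
  set P₀ := wOf K₁ ⊔ S₀ with hP₀
  have hP24 : Nat.card P₀ = 24 := by
    have h := card_sup_mul_card_inf' hSW
    rw [hWS, card_bot, mul_one, s₁.comp.2.2.2.2.1, hS6] at h
    exact h
  have hS₀L : S₀ ≤ L₁ := sup_le (zpowers_le.2 (s₁.le hρ)) (zpowers_le.2 (s₁.sylow.1 haT))
  have hP₀L : P₀ ≤ L₁ := sup_le (W_le.trans s₁.le) hS₀L
  -- the action on the four cosets
  set Q := S₀.subgroupOf P₀ with hQ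
  have hQi : Nat.card (P₀ ⧸ Q) = 4 := by
    have h := Q.card_mul_index
    rw [Nat.card_congr (subgroupOfEquivOfLe (le_sup_right : S₀ ≤ P₀)).toEquiv, hS6, hP24] at h
    show Q.index = 4
    omega
  set φ := MulAction.toPermHom P₀ (P₀ ⧸ Q)
  have hker : φ.ker = ⊥ := by
    refine (eq_bot_iff_forall _).2 fun x hx => ?_
    have hxc : x ∈ Q.normalCore := by rw [Subgroup.normalCore_eq_ker]; exact hx
    refine Subtype.ext (hSC x (mem_subgroupOf.1 (Subgroup.normalCore_le Q hxc)) ?_)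
    refine mem_centralizer_iff.2 fun w hw => ?_
    have hwP : w ∈ P₀ := mem_sup_left hw
    have h1 := (Subgroup.normalCore_normal Q).conj_mem x hxc ⟨w, hwP⟩
    have h2 : w * x * w⁻¹ * (x : G)⁻¹ ∈ S₀ :=
      mul_mem (mem_subgroupOf.1 (Subgroup.normalCore_le Q h1))
        (inv_mem (mem_subgroupOf.1 (Subgroup.normalCore_le Q hxc)))
    have h3 : w * x * w⁻¹ * (x : G)⁻¹ ∈ wOf K₁ := by
      have hxN : (x : G) ∈ normalizer (wOf K₁ : Set G) :=
        hSW (mem_subgroupOf.1 (Subgroup.normalCore_le Q hxc))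
      rw [show w * x * w⁻¹ * (x : G)⁻¹ = w * ((x : G) * w⁻¹ * (x : G)⁻¹) by group]
      exact mul_mem hw ((mem_normalizer_iff.1 hxN _).1 (inv_mem hw))
    have h4 : w * x * w⁻¹ * (x : G)⁻¹ = 1 := mem_bot.1 (hWS.le ⟨h3, h2⟩)
    exact commutatorElement_eq_one_iff_mul_comm.1 h4
  have hinj : Function.Injective φ := (MonoidHom.ker_eq_bot_iff φ).1 hker
  have hbij : Function.Bijective φ := by
    refine (Nat.bijective_iff_injective_and_card φ).2 ⟨hinj, ?_⟩
    rw [hP24, Nat.card_perm, hQi]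
    rfl
  obtain ⟨e4⟩ : Nonempty (↥P₀ ≃* Equiv.Perm (Fin 4)) :=
    ⟨(MulEquiv.ofBijective φ hbij).trans (Equiv.permCongrHom (Finite.equivFinOfCardEq hQi))⟩
  have hLc : Nat.card L₁ = 24 * Nat.card ↥(Hof T K₁) := by
    have h1 : Nat.card ↥(K₁ ⊔ T) * Nat.card ↥(K₁ ⊓ T) = Nat.card K₁ * Nat.card T :=
      card_sup_mul_card_inf' s₁.norm
    have hKT : K₁ ⊓ T = pCoreOf 2 K₁ :=
      eq_core_of_two s₁.comp (le_inf core_le s₁.R2_le) inf_le_left (s₁.isPGroup.to_le inf_le_right)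
    rw [hKT, card_eq s₁.comp, ← hL, s₁.card_T, k.card_CT] at h1
    apply Nat.eq_of_mul_eq_mul_right (Nat.card_pos (α := ↥(pCoreOf 2 K₁)))
    rw [h1]; ring
  refine ⟨fun h => ?_, fun h => ?_⟩
  · rw [h, mul_one] at hLc
    exact ⟨(MulEquiv.subgroupCongr (eq_of_le_of_card_ge hP₀L (by rw [hLc, hP24])).symm).trans e4⟩
  · set H := Hof T K₁
    have hHc : ∀ p ∈ L₁, ∀ h ∈ H, Commute p h := by
      intro p hp h hh
      have hle : K₁ ⊔ T ≤ Subgroup.centralizer ({h} : Set G) := sup_le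
        (fun x hx => mem_centralizer_singleton_iff.2 (mem_centralizer_iff.1 hh.2 x hx))
        (fun t ht => mem_centralizer_singleton_iff.2 (mem_centralizer_iff.1 (s₁.Hof_central hh).2 t ht))
      exact mem_centralizer_singleton_iff.1 (hle (hL ▸ hp))
    have hHL : H ≤ L₁ := fun x hx => s₁.sylow.1 (Z0_le hx.1)
    let ψ : ↥P₀ × ↥H →* ↥L₁ :=
      { toFun := fun x => ⟨(x.1 : G) * x.2, L₁.mul_mem (hP₀L x.1.2) (hHL x.2.2)⟩
        map_one' := Subtype.ext (one_mul 1)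
        map_mul' := fun x y => Subtype.ext (by
          show ((x.1 : G) * y.1) * ((x.2 : G) * y.2) = (x.1 : G) * x.2 * ((y.1 : G) * y.2)
          have := (hHc y.1 (hP₀L y.1.2) x.2 x.2.2).eq
          calc ((x.1 : G) * y.1) * ((x.2 : G) * y.2) = x.1 * ((y.1 : G) * x.2) * y.2 := by group
            _ = x.1 * ((x.2 : G) * y.1) * y.2 := by rw [this]
            _ = _ := by group) }
    have hψ : Function.Injective ψ := by
      rw [injective_iff_map_eq_one]
      rintro ⟨⟨p, hp⟩, ⟨x, hx⟩⟩ he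
      have he' : p * x = 1 := congrArg Subtype.val he
      have hpx : p = x⁻¹ := eq_inv_of_mul_eq_one_left he'
      obtain ⟨w, hw, c, hc, e⟩ := (Core.mem_sup_of_le_normalizer (A := S₀) (B := wOf K₁) hSW).1
        (show p ∈ S₀ ⊔ wOf K₁ by rw [sup_comm]; exact hp)
      have hw1 : w = 1 := hSC w hw (by
        rw [show w = x⁻¹ * c⁻¹ by rw [← hpx, ← e, mul_inv_cancel_right]]
        exact mul_mem (inv_mem (mem_centralizer_iff.2 fun v hv =>
          mem_centralizer_iff.1 (s₁.Hof_central hx).2 v (s₁.W_le hv)))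
          (inv_mem (mem_centralizer_iff.2 fun v hv => (W_commute hv hc).eq)))
      rw [hw1, one_mul] at e
      have hp1 : p = 1 := mem_bot.1 ((W_inf_Hof s₁.comp).le ⟨e ▸ hc, hpx ▸ Subgroup.inv_mem _ hx⟩)
      have hx1 : x = 1 := by rw [hp1, one_mul] at he'; exact he'
      exact Prod.ext (Subtype.ext hp1) (Subtype.ext hx1)
    have hψb : Function.Bijective ψ := by
      refine (Nat.bijective_iff_injective_and_card ψ).2 ⟨hψ, ?_⟩
      rw [Nat.card_prod, hP24, hLc]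
    have hH2 : Nat.card ↥H = Nat.card (Multiplicative (ZMod 2)) := by
      rw [h, Nat.card_congr (Multiplicative.toAdd (α := ZMod 2)), Nat.card_zmod]
    have hHcyc : IsCyclic ↥H := isCyclic_of_prime_card (p := 2) h
    exact ⟨(MulEquiv.ofBijective ψ hψb).symm.trans (MulEquiv.prodCongr e4 (mulEquivOfCyclicCardEq hH2))⟩

end Linked

end Cfsg.Lib.Local.JComp
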