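import Cfsg.Agent.Lib.Local.JComp.Pair

/-!
# A component with its maximal 2-local subgroup, seen from `T`
-/

set_option autoImplicit false
set_option linter.style.haveILetI false

namespace Cfsg.Lib.Local.JComp

open Subgroup Cfsg Cfsg.Lib Cfsg.Lib.Local.GlaubermanZJ

universe u

variable {G : Type u} [Group G] [Finite G] {T K L : Subgroup G}

omit [Finite G] in
/-- `T ∩ C(W)`. -/
abbrev CT (T K : Subgroup G) : Subgroup G := T ⊓ centralizer (wOf K : Set G)

/-- A component `K` outside some `M`, inside its maximal 2-local subgroup `L` with Sylow subgroup `T`. -/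
structure Side (T K L : Subgroup G) : Prop where
  base : ∃ (S : Sylow 2 G) (M : Subgroup G), Base S T M ∧ ¬ K ≤ M
  comp : IsJComponent T K
  max : IsMaximalTwoLocal L
  sylow : IsSylowTwoIn T L
  le : K ≤ L
  norm : T ≤ normalizer (K : Set G)
  card : Nat.card ↥(Z0 T) ≤ 4

theorem straddling_map' {X M : Subgroup G} (e : G ≃* G) (hX : X ∈ straddlingTwoSubgroups M) :
    X.map e.toMonoidHom ∈ straddlingTwoSubgroups (M.map e.toMonoidHom) := by
  obtain ⟨hp, hX1, hXM, N, ⟨U, hU, hU1, rfl⟩, hXN, hNM⟩ := hX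
  refine ⟨hp.map _, fun h => hX1 ((map_eq_bot_iff_of_injective X e.injective).1 h),
    map_mono hXM, (normalizer (U : Set G)).map e.toMonoidHom,
    ⟨U.map e.toMonoidHom, hU.map _, fun h => hU1 ((map_eq_bot_iff_of_injective U e.injective).1 h),
      map_equiv_normalizer_eq U e⟩, map_mono hXN, fun h => hNM ?_⟩
  exact (map_le_map_iff_of_injective e.injective).1 h

theorem base_map {S : Sylow 2 G} {M : Subgroup G} (b : Base S T M) {n : G}
    (hn : n ∈ normalizer (T : Set G)) : Base (n • S) T (M.map (MulAut.conj n).toMonoidHom) := by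
  set e := MulAut.conj n with he
  have hT : T.map e.toMonoidHom = T := Core.map_conj_eq_of_mem_normalizer hn
  refine ⟨b.char2, b.solv, b.hZ, ?_, ?_⟩
  · have h : ((n • S : Sylow 2 G) : Subgroup G) = (S : Subgroup G).map e.toMonoidHom := rfl
    rw [h, ← thompson_map, ← map_equiv_normalizer_eq]
    exact map_mono b.hMJ
  · refine ⟨hT ▸ straddling_map' e b.hT.1, fun X hX => ?_⟩
    have h := straddling_map' e.symm hX
    have hM : (M.map e.toMonoidHom).map e.symm.toMonoidHom = M := by
      have := map_map_symm M e.symm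
      rwa [MulEquiv.symm_symm] at this
    rw [hM] at h
    have h' := b.hT.2 _ h
    rw [maxElemAbelianOrder_map, ← thompson_map, BaumannBlock.card_map_mulEquiv,
      BaumannBlock.card_map_mulEquiv] at h'
    exact h'

namespace Side

variable (s : Side T K L)
include s

theorem isPGroup : IsPGroup 2 T := by
  obtain ⟨S, M, b, -⟩ := s.base
  exact b.isPGroup

theorem J_le : thompsonSubgroupOf 2 T ≤ L := (map_subtype_le _).trans s.sylow.1

theorem eq_max {N : Subgroup G} (hN : IsTwoLocal N) (hKN : K ≤ N) (hJN : thompsonSubgroupOf 2 T ≤ N) :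
    N ≤ L := by
  obtain ⟨S, M, b, hKM⟩ := s.base
  exact b.eq_max s.max s.le s.comp hKM s.J_le hN hKN hJN

theorem centralizer_le {x : G} (hx : x ∈ Hof T K) (hx1 : x ≠ 1) :
    Subgroup.centralizer ({x} : Set G) ≤ L := by
  obtain ⟨S, M, b, hKM⟩ := s.base
  exact b.centralizer_le s.max s.J_le s.comp hKM s.le hx hx1

theorem center_split :
    Hof T K ⊔ (wOf K ⊓ Subgroup.centralizer (thompsonSubgroupOf 2 T : Set G)) = Z0 T ∧
      Nat.card ↥(Z0 T) = 2 * Nat.card ↥(Hof T K) := by
  obtain ⟨S, M, b, -⟩ := s.base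
  exact b.center_split s.comp

theorem R2_le : pCoreOf 2 K ≤ T := by
  haveI : Fact (Nat.Prime 2) := ⟨Nat.prime_two⟩
  have hle : T ≤ normalizer (pCoreOf 2 K : Set G) := s.norm.trans (normalizer_le_normalizer_pCoreOf K)
  exact le_sup_left.trans (eq_of_two s.sylow (IsPGroup.to_sup_of_normal_left' isPGroup_core s.isPGroup hle)
    le_sup_right (sup_le (core_le.trans s.le) s.sylow.1)).le

theorem W_le : wOf K ≤ T := W_le_core.trans s.R2_le

theorem W_le_CT : wOf K ≤ CT T K :=
  le_inf s.W_le fun _ hw => mem_centralizer_iff.2 fun _ hv => (W_commute hv hw).eq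

theorem R2_le_CT : pCoreOf 2 K ≤ CT T K := le_inf s.R2_le core_le_centralizer_W

theorem K_le_normalizer_CT : K ≤ normalizer (CT T K : Set G) := by
  intro k hk
  refine mem_normalizer_fintype fun c hc => ?_
  have hd : k * c * k⁻¹ ∈ K ⊔ T :=
    (K ⊔ T).mul_mem ((K ⊔ T).mul_mem (mem_sup_left hk) (mem_sup_right hc.1))
      ((K ⊔ T).inv_mem (mem_sup_left hk))
  have hdW : k * c * k⁻¹ ∈ Subgroup.centralizer (wOf K : Set G) := mem_centralizer_iff.2 fun w hw => by
    have h1 := mem_centralizer_iff.1 hc.2 _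
      ((mem_normalizer_iff''.1 (normalizer_le_normalizer_W (le_normalizer hk)) w).1 hw)
    calc w * (k * c * k⁻¹) = k * ((k⁻¹ * w * k) * c) * k⁻¹ := by group
      _ = k * (c * (k⁻¹ * w * k)) * k⁻¹ := by rw [h1]
      _ = k * c * k⁻¹ * w := by group
  refine ⟨?_, hdW⟩
  rw [sup_comm] at hd
  obtain ⟨t, ht, k', hk', e⟩ := (Core.mem_sup_of_le_normalizer s.norm).1 hd
  rw [← e] at hdW ⊢
  refine T.mul_mem ht (s.R2_le ?_)
  by_cases htW : t ∈ Subgroup.centralizer (wOf K : Set G)
  · refine (inf_centralizer_eq s.comp).le ⟨hk', ?_⟩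
    simpa using (Subgroup.centralizer (wOf K : Set G)).mul_mem
      ((Subgroup.centralizer (wOf K : Set G)).inv_mem htW) hdW
  · obtain ⟨r₀, hr₀, hr₀1⟩ := fixed_exists s.isPGroup s.comp
    refine fix_le_core s.comp hk' hr₀.1 hr₀1 (mul_inv_eq_iff_eq_mul.2 ?_)
    have h1 : Commute (t * k') r₀ := (mem_centralizer_iff.1 hdW r₀ hr₀.1).symm
    have h2 := T_commute_fixed s.isPGroup s.comp s.norm ht hr₀
    simpa using (h2.inv_left.mul_left h1).eq

theorem T_le_normalizer_CT : T ≤ normalizer (CT T K : Set G) :=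
  (le_inf le_normalizer ((s.norm.trans normalizer_le_normalizer_W).trans fun g hg =>
    mem_normalizer_fintype fun c hc => mem_centralizer_iff.2 fun w hw => by
      have h1 := mem_centralizer_iff.1 hc _ ((mem_normalizer_iff''.1 hg w).1 hw)
      calc w * (g * c * g⁻¹) = g * ((g⁻¹ * w * g) * c) * g⁻¹ := by group
        _ = g * (c * (g⁻¹ * w * g)) * g⁻¹ := by rw [h1]
        _ = g * c * g⁻¹ * w := by group)).trans inf_normalizer_le_normalizer_inf

theorem T_le_normalizer_Hof : T ≤ normalizer (Hof T K : Set G) := by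
  refine le_trans (le_inf ((T_le_normalizer_J T).trans normalizer_J_le_Z0) ?_) inf_normalizer_le_normalizer_inf
  exact fun t ht => mem_normalizer_fintype fun c hc => mem_centralizer_iff.2 fun k hk => by
    have h1 := mem_centralizer_iff.1 hc _ ((mem_normalizer_iff''.1 (s.norm ht) k).1 hk)
    calc k * (t * c * t⁻¹) = t * ((t⁻¹ * k * t) * c) * t⁻¹ := by group
      _ = t * (c * (t⁻¹ * k * t)) * t⁻¹ := by rw [h1]
      _ = t * c * t⁻¹ * k := by group

theorem card_Hof : Nat.card ↥(Hof T K) ≤ 2 := by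
  have := s.center_split.2
  have := s.card
  omega

theorem Hof_central : Hof T K ≤ T ⊓ Subgroup.centralizer (T : Set G) :=
  le_inf (inf_le_left.trans Z0_le) (centralizes_of_card_le_two s.isPGroup (inf_le_left.trans Z0_le)
    s.T_le_normalizer_Hof s.card_Hof)

theorem Z0_central {t x : G} (ht : t ∈ T) (hx : x ∈ Z0 T) : Commute t x := by
  rw [← s.center_split.1] at hx
  exact ((mem_centralizer_singleton_iff.1 ((sup_le
    (fun h hh => mem_centralizer_singleton_iff.2 (mem_centralizer_iff.1 (s.Hof_central hh).2 t ht).symm)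
    (fun r hr => mem_centralizer_singleton_iff.2 (T_commute_fixed s.isPGroup s.comp s.norm ht hr).eq.symm) :
    Hof T K ⊔ (wOf K ⊓ Subgroup.centralizer (thompsonSubgroupOf 2 T : Set G)) ≤
      Subgroup.centralizer ({t} : Set G)) hx)) : Commute x t).symm

theorem map {n : G} (hn : n ∈ normalizer (T : Set G)) :
    Side T (K.map (MulAut.conj n).toMonoidHom) (L.map (MulAut.conj n).toMonoidHom) := by
  obtain ⟨S, M, b, hKM⟩ := s.base
  have hT : T.map (MulAut.conj n).toMonoidHom = T := Core.map_conj_eq_of_mem_normalizer hn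
  refine ⟨⟨n • S, _, base_map b hn, fun h => hKM ((map_le_map_iff_of_injective (MulAut.conj n).injective).1 h)⟩,
    ?_, maximal_map s.max _, ?_, map_mono s.le, ?_, s.card⟩
  · have := isJComponent_map s.comp (MulAut.conj n)
    rwa [hT] at this
  · have := isSylowTwoIn_map_equiv (MulAut.conj n) s.sylow
    rwa [hT] at this
  · rw [← map_equiv_normalizer_eq]
    conv_lhs => rw [← hT]
    exact map_mono s.norm

theorem normalizer_K_eq : normalizer (K : Set G) = normalizer (wOf K : Set G) := by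
  obtain ⟨S, M, b, hKM⟩ := s.base
  exact b.normalizer_W (b.zero_outside s.comp hKM)

/-- If all components in `L` share `W`, then `L` normalizes `W`. -/
theorem le_normalizer_W (hsame : ∀ K', IsJComponent T K' → K' ≤ L → wOf K = wOf K') :
    L ≤ normalizer (wOf K : Set G) := by
  by_contra hc
  obtain ⟨S, M, b, hKM⟩ := s.base
  have hLM : ¬ L ≤ M := fun h => hKM (s.le.trans h)
  have hJQ : ¬ thompsonSubgroupOf 2 T ≤ pCoreOf 2 L :=
    (straddle_sylow S b.hMJ b.hT s.max.1 hLM s.sylow (map_subtype_le _)).2.2.2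
  obtain ⟨K', hK', hK'L, hK'W⟩ := (b.ctx s.max.1 hLM s.J_le).exists_component_outside s.sylow hJQ
    (s.norm.trans normalizer_le_normalizer_W) (fun n hn => by
      have hn' := hsame _ (b.conj_component s.comp hKM hn.2).1 (by
        rintro _ ⟨k, hk, rfl⟩
        exact L.mul_mem (L.mul_mem hn.1 (s.le hk)) (L.inv_mem hn.1))
      rw [wOf_map] at hn'
      exact Core.mem_normalizer_iff_map_conj.2 hn'.symm) hc
  exact hK'W (by rw [hsame K' hK' hK'L]; exact le_normalizer.trans normalizer_le_normalizer_W)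

/-- A component of `L` with another four-group commutes with `W`, both ways. -/
theorem centralizes {K' : Subgroup G} (hK' : IsJComponent T K') (hK'L : K' ≤ L) (hne : wOf K ≠ wOf K') :
    K' ≤ Subgroup.centralizer (wOf K : Set G) ∧ K ≤ Subgroup.centralizer (wOf K' : Set G) := by
  obtain ⟨S, M, b, hKM⟩ := s.base
  have c := b.ctx s.max.1 (fun h => hKM (s.le.trans h)) s.J_le
  have h1 : SubComp L K := ⟨⟨T, s.comp⟩, s.le, c.isSubnormal s.comp s.le⟩
  have h2 : SubComp L K' := ⟨⟨T, hK'⟩, hK'L, c.isSubnormal hK' hK'L⟩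
  exact ⟨SubComp.centralizes h1 h2 hne.symm, SubComp.centralizes h2 h1 hne⟩

/-- An element of `K T` with the action of a given element normalizing `W`. -/
theorem exists_same_action {g : G} (hg : g ∈ normalizer (wOf K : Set G)) :
    ∃ p ∈ K ⊔ T, p⁻¹ * g ∈ Subgroup.centralizer (wOf K : Set G) := by
  obtain ⟨ρ, hρ, ho, hn, -⟩ := exists_rho s.comp
  obtain ⟨r, hr, hr1⟩ := fixed_exists s.isPGroup s.comp
  obtain ⟨k, hk, hkr⟩ : ∃ k ∈ K, k * r * k⁻¹ = g * r * g⁻¹ := by
    rcases four_list s.comp hρ ho hn hr.1 hr1 ((mem_normalizer_iff.1 hg r).1 hr.1) with h | h | h | h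
    · exact absurd (conj_eq_one_iff.1 h) hr1
    · exact ⟨1, K.one_mem, by rw [h]; group⟩
    · exact ⟨ρ, hρ, h.symm⟩
    · exact ⟨ρ⁻¹, K.inv_mem hρ, by rw [h, inv_inv]⟩
  set h := k⁻¹ * g with hh
  have hhN : h ∈ normalizer (wOf K : Set G) :=
    mul_mem (inv_mem (normalizer_le_normalizer_W (le_normalizer hk))) hg
  have hhr : h * r * h⁻¹ = r := by
    calc h * r * h⁻¹ = k⁻¹ * (g * r * g⁻¹) * k := by rw [hh]; group
      _ = r := by rw [← hkr]; group
  obtain ⟨y, hy, hyR⟩ : ∃ y ∈ wOf K, y ∉ wOf K ⊓ Subgroup.centralizer (thompsonSubgroupOf 2 T : Set G) := by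
    by_contra hc
    push Not at hc
    have := card_le_of_le (show wOf K ≤ _ from hc)
    rw [card_fixed s.isPGroup s.comp, s.comp.2.2.2.2.1] at this
    omega
  have key : ∀ v, v * r * v⁻¹ = r → v * y * v⁻¹ = y → v ∈ Subgroup.centralizer (wOf K : Set G) := by
    intro v h1 h2
    have h1' : Commute v r := mul_inv_eq_iff_eq_mul.1 h1
    have h2' : Commute v y := mul_inv_eq_iff_eq_mul.1 h2
    refine mem_centralizer_iff.2 fun w hw => ?_
    rcases W_cases s.isPGroup s.comp hr hr1 hy hyR hw with rfl | rfl | rfl | rfl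
    exacts [(Commute.one_left v).eq, h1'.eq.symm, h2'.eq.symm, (h1'.mul_right h2').eq.symm]
  rcases W_cases s.isPGroup s.comp hr hr1 hy hyR ((mem_normalizer_iff.1 hhN y).1 hy) with e | e | e | e
  · exact absurd (conj_eq_one_iff.1 e) fun e => hyR (e ▸ one_mem _)
  · exact absurd (mul_left_cancel (mul_right_cancel (e.trans hhr.symm))) fun e => hyR (e ▸ hr)
  · exact ⟨k, mem_sup_left hk, key h hhr e⟩
  · obtain ⟨A, hA, hAW⟩ := exists_moving s.comp
    obtain ⟨a, haA, haW⟩ := SetLike.not_le_iff_exists.1 hAW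
    have haT := hA.1 haA
    refine ⟨k * a, mul_mem (mem_sup_left hk) (mem_sup_right haT), ?_⟩
    rw [mul_inv_rev, mul_assoc, ← hh]
    have har : Commute a r := T_commute_fixed s.isPGroup s.comp s.norm haT hr
    have hay := T_moves s.isPGroup s.comp s.norm haT haW hr hr1 hy hyR
    have hair : a⁻¹ * r * a = r := by rw [har.inv_left.eq, inv_mul_cancel_right]
    refine key _ ?_ ?_
    · calc a⁻¹ * h * r * (a⁻¹ * h)⁻¹ = a⁻¹ * (h * r * h⁻¹) * a := by group
        _ = r := by rw [hhr, hair]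
    · calc a⁻¹ * h * y * (a⁻¹ * h)⁻¹ = a⁻¹ * (h * y * h⁻¹) * a := by group
        _ = a⁻¹ * (a * y * a⁻¹) * a := by rw [e, hay]
        _ = y := by group

/-- `T` is `T ∩ C(W)` and one coset. -/
theorem card_T : Nat.card T = 2 * Nat.card ↥(CT T K) := by
  obtain ⟨A, hA, hAW⟩ := exists_moving s.comp
  obtain ⟨a, haA, haW⟩ := SetLike.not_le_iff_exists.1 hAW
  have haT := hA.1 haA
  refine le_antisymm ?_ (two_mul_card_le inf_le_left haT fun h => haW h.2)
  have hcov : (T : Set G) ⊆ (CT T K : Set G) ∪ (fun v => a * v) '' (CT T K : Set G) := by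
    intro v hv
    by_cases hvW : v ∈ Subgroup.centralizer (wOf K : Set G)
    · exact Or.inl ⟨hv, hvW⟩
    · exact Or.inr ⟨a⁻¹ * v, ⟨T.mul_mem (T.inv_mem haT) hv,
        T_mul_mem s.isPGroup s.comp s.norm haT hv haW hvW⟩, mul_inv_cancel_left a v⟩
  rw [show Nat.card T = (T : Set G).ncard from Nat.card_coe_set_eq _,
    show Nat.card ↥(CT T K) = (CT T K : Set G).ncard from Nat.card_coe_set_eq _]
  refine le_trans (Set.ncard_le_ncard hcov (Set.toFinite _)) (le_trans (Set.ncard_union_le _ _) ?_)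
  have := Set.ncard_image_le (f := fun v => a * v) (s := (CT T K : Set G)) (Set.toFinite _)
  omega

end Side

end Cfsg.Lib.Local.JComp
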