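import Cfsg.Agent.Lib.Local.JComp.NoLocal

/-!
# Components outside `M` are normal in their join with `T`
-/

set_option autoImplicit false
set_option linter.style.haveILetI false

namespace Cfsg.Lib.Local.JComp

open Subgroup Cfsg Cfsg.Lib Cfsg.Lib.Local.GlaubermanZJ

universe u

variable {G : Type u} [Group G] [Finite G] {T K L M : Subgroup G}

variable {S : Sylow 2 G} (b : Base S T M)
include b

/-- The attached subgroup has `T` as a Sylow subgroup. -/
theorem Base.sylow_max (hLmax : IsMaximalTwoLocal L) (hK : IsJComponent T K) (hKM : ¬ K ≤ M)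
    (hKL : K ≤ L) (hJL : thompsonSubgroupOf 2 T ≤ L) (hO2 : pCoreOf 2 (K ⊔ T) ≠ ⊥) :
    IsSylowTwoIn T L := by
  have hN2 : IsTwoLocal (normalizer (pCoreOf 2 (K ⊔ T) : Set G)) :=
    ⟨_, (Core.pCore_isPGroup 2 _).map _, hO2, rfl⟩
  have hKT : K ⊔ T ≤ normalizer (pCoreOf 2 (K ⊔ T) : Set G) :=
    le_normalizer.trans (normalizer_le_normalizer_pCoreOf _)
  have hTL : T ≤ L := (le_sup_right.trans hKT).trans (b.eq_max hLmax hKL hK hKM hJL hN2
    (le_sup_left.trans hKT) ((map_subtype_le _).trans (le_sup_right.trans hKT)))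
  exact (straddle_component b.char2 b.solv b.hZ S b.hMJ b.hT hLmax.1 (fun h => hKM (hKL.trans h)) hTL).1

/-- `Ω₁Z(J(T))` has order at most 4 and `T` normalizes `K`. -/
theorem Base.small (hO : pCore 2 G = ⊥) (hLmax : IsMaximalTwoLocal L) (hTL : IsSylowTwoIn T L)
    (hK : IsJComponent T K) (hKM : ¬ K ≤ M) (hKL : K ≤ L) :
    Nat.card ↥(Z0 T) ≤ 4 ∧ T ≤ normalizer (K : Set G) := by
  haveI : Fact (Nat.Prime 2) := ⟨Nat.prime_two⟩
  by_cases hA : ∃ n ∈ normalizer (thompsonSubgroupOf 2 T : Set G), n ∉ L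
  · obtain ⟨n, hn, hnL⟩ := hA
    exact ⟨(b.small_of_moved hLmax hTL.1 hK hKM hKL hn hnL).1,
      (b.small_of_moved hLmax hTL.1 hK hKM hKL hn hnL).2.1⟩
  push Not at hA
  obtain ⟨P, hP⟩ := b.isPGroup.exists_le_sylow
  have hTP : T = (P : Subgroup G) := by
    by_contra hne
    obtain ⟨n, -, -, -, hnL, hnJ⟩ := b.exists_moved hTL P.isPGroup' (lt_of_le_of_ne hP hne)
    exact hnL (hA n hnJ)
  by_cases hall : ∀ N, IsTwoLocal N → T ≤ N → N ≤ L
  · have h := b.Hof_eq_bot hLmax hTL hK hKM hKL P hTP hA hO hall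
    refine ⟨by rw [(b.center_split hK).2, h, card_bot]; norm_num, fun t ht => ?_⟩
    by_contra htK
    obtain ⟨hK', hK'M⟩ := b.conj_component hK hKM (T_le_normalizer_J T ht)
    obtain ⟨r, hr, hr1⟩ := fixed_exists b.isPGroup hK'
    have := b.fixed_le_Hof hLmax ((map_subtype_le _).trans hTL.1) hK hKM hKL hK' (by
      rintro _ ⟨k, hk, rfl⟩
      exact L.mul_mem (L.mul_mem (hTL.1 ht) (hKL hk)) (L.inv_mem (hTL.1 ht)))
      (b.wOf_conj_ne hK hKM htK) hr
    rw [h] at this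
    exact hr1 (mem_bot.1 this)
  · push Not at hall
    obtain ⟨N, hN, hTN, hNL⟩ := hall
    exact b.small_of_other_local hLmax hTL hK hKM hKL P hTP hA hN hTN hNL

end Cfsg.Lib.Local.JComp
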