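import Cfsg.Agent.Lib.Local.JComp.Exists
import Cfsg.Agent.Lib.Local.JComp.Transport

/-!
# Maximal straddling 2-subgroups
-/

set_option autoImplicit false
set_option linter.style.haveILetI false

namespace Cfsg.Lib.Local.JComp

open Subgroup Cfsg Cfsg.Lib Cfsg.Lib.Local.GlaubermanZJ

universe u

variable {G : Type u} [Group G] [Finite G] {T L M : Subgroup G}

local notation "J" => thompsonSubgroupOf 2 T

theorem maxElemAbelianOrder_eq {A : Subgroup G} (hA : IsMaxEAIn 2 T A) :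
    maxElemAbelianOrder T = Nat.card A := by
  obtain ⟨hAT, hA'⟩ := isMaxEAIn_iff.1 hA
  have h : (fun B : Subgroup T => Nat.card B) '' maxElementaryAbelianSubgroups 2 T = {Nat.card A} := by
    refine Set.eq_singleton_iff_unique_mem.2 ⟨⟨_, hA', Nat.card_congr (subgroupOfEquivOfLe hAT).toEquiv⟩, ?_⟩
    rintro _ ⟨B, hB, rfl⟩
    have h1 := hA'.2 B hB.1
    have h2 := hB.2 _ hA'.1
    rw [Nat.card_congr (subgroupOfEquivOfLe hAT).toEquiv] at h1 h2
    exact le_antisymm h1 h2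
  rw [maxElemAbelianOrder, h]
  exact csSup_singleton _

/-- A group containing `J(T)` that is no larger in the lexicographic order has the same Thompson subgroup. -/
theorem thompson_eq_of_straddling (hT : T ∈ maxStraddlingTwoSubgroups M) {X : Subgroup G}
    (hX : X ∈ straddlingTwoSubgroups M) (hJX : J ≤ X) :
    thompsonSubgroupOf 2 X = J ∧ Nat.card X ≤ Nat.card T := by
  obtain ⟨A, hA⟩ := exists_isMaxEAIn (p := 2) T
  obtain ⟨B, hB⟩ := exists_isMaxEAIn (p := 2) X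
  have ha : maxElemAbelianOrder T = Nat.card A := maxElemAbelianOrder_eq hA
  have hb : maxElemAbelianOrder X = Nat.card B := maxElemAbelianOrder_eq hB
  obtain ⟨h1, h2⟩ := hT.2 X hX
  have hAX : ∀ {C}, IsMaxEAIn 2 T C → C ≤ X := fun hC => (le_J hC).trans hJX
  have he : maxElemAbelianOrder X = maxElemAbelianOrder T :=
    le_antisymm h1 (by rw [ha, hb]; exact hB.2.2 A (hAX hA) hA.2.1)
  have hle : J ≤ thompsonSubgroupOf 2 X := by
    conv_lhs => rw [thompsonSubgroupOf_eq_sSup]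
    rw [thompsonSubgroupOf_eq_sSup]
    refine sSup_le_sSup fun C hC => ⟨hAX hC, hC.2.1, fun D hD hDe => ?_⟩
    calc Nat.card D ≤ Nat.card B := hB.2.2 D hD hDe
      _ = Nat.card A := by rw [← hb, he, ha]
      _ ≤ Nat.card C := hC.2.2 A hA.1 hA.2.1
  have h3 := (h2 he).1
  have hJ := (eq_of_le_of_card_ge hle h3).symm
  exact ⟨hJ, (h2 he).2 (by rw [hJ])⟩

/-- `N(J(T)) ≤ M`. -/
theorem normalizer_J_le (S : Sylow 2 G)
    (hMJ : normalizer (thompsonSubgroupOf 2 (S : Subgroup G) : Set G) ≤ M)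
    (hT : T ∈ maxStraddlingTwoSubgroups M) : normalizer (J : Set G) ≤ M := by
  haveI : Fact (Nat.Prime 2) := ⟨Nat.prime_two⟩
  obtain ⟨hTp, hT1, hTM, -⟩ := hT.1
  by_contra hN
  set N := normalizer (J : Set G)
  have hN2 : IsTwoLocal N := ⟨J, isPGroup_J hTp, Thompson.thompsonSubgroupOf_ne_bot hTp hT1, rfl⟩
  have hTN : T ≤ N := le_normalizer.trans (Thompson.normalizer_le_normalizer_thompsonSubgroupOf T)
  obtain ⟨T₁, hT₁, hTT₁⟩ := exists_sylow hTp (le_inf hTN hTM)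
  have hX : T₁ ∈ straddlingTwoSubgroups M :=
    ⟨hT₁.2.1, fun h => hT1 (le_bot_iff.1 (hTT₁.trans h.le)), hT₁.1.trans inf_le_right, N, hN2,
      hT₁.1.trans inf_le_left, hN⟩
  have hT₁T : T₁ = T := (eq_of_le_of_card_ge hTT₁
    (thompson_eq_of_straddling hT hX ((Thompson.thompsonSubgroupOf_le T).trans hTT₁)).2).symm
  rw [hT₁T] at hT₁
  -- `T` is a Sylow subgroup of `M`, hence of `G`
  have hSN : (S : Subgroup G) ≤ M :=
    (le_normalizer.trans (Thompson.normalizer_le_normalizer_thompsonSubgroupOf _)).trans hMJ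
  obtain ⟨P, hP, hTP⟩ := exists_sylow hTp hTM
  have hPT : P = T := by
    by_contra hne
    have hlt : T < P := lt_of_le_of_ne hTP (Ne.symm hne)
    have hnil : Group.IsNilpotent P := hP.2.1.isNilpotent
    have hlt' : T.subgroupOf P < ⊤ := by
      rw [lt_top_iff_ne_top, Ne, subgroupOf_eq_top]
      exact fun h => hne (le_antisymm h hTP)
    obtain ⟨u, hu, huT⟩ := SetLike.exists_of_lt
      (Group.normalizerCondition_of_isNilpotent (G := P) _ hlt')
    rw [mem_subgroupOf] at huT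
    have huN : (u : G) ∈ normalizer (T : Set G) := mem_normalizer_fintype fun x hx =>
      (mem_normalizer_iff.1 hu ⟨x, hTP hx⟩).1 hx
    set T' := T ⊔ zpowers (u : G)
    have hT'le : T' ≤ N ⊓ M := sup_le (le_inf hTN hTM) (zpowers_le.2
      ⟨Thompson.normalizer_le_normalizer_thompsonSubgroupOf T huN, hP.1 u.2⟩)
    have hT'p : IsPGroup 2 T' := hP.2.1.to_le (sup_le hTP (zpowers_le.2 u.2))
    exact huT ((eq_of_two hT₁ hT'p le_sup_left hT'le).le (mem_sup_right (mem_zpowers _)))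
  rw [hPT] at hP
  have hST : IsSylowTwoIn (S : Subgroup G) M := by
    refine ⟨hSN, S.isPGroup', ?_⟩
    exact (Nat.odd_iff.2 (Nat.two_dvd_ne_zero.1 S.not_dvd_index)).of_dvd_nat
      (relIndex_dvd_index_of_le hSN)
  obtain ⟨m, hm, hmS⟩ := exists_conj_sylow hST hP
  apply hN
  intro x hx
  have hJ : J = (thompsonSubgroupOf 2 (S : Subgroup G)).map (MulAut.conj m).toMonoidHom := by
    rw [← hmS, thompson_map]
  have hxS : m⁻¹ * x * m ∈ normalizer (thompsonSubgroupOf 2 (S : Subgroup G) : Set G) := by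
    refine mem_normalizer_fintype fun y hy => ?_
    have h1 : m * y * m⁻¹ ∈ J := hJ.ge ⟨y, hy, rfl⟩
    obtain ⟨y', hy', hye⟩ := hJ.le ((mem_normalizer_iff.1 hx _).1 h1)
    have : m⁻¹ * x * m * y * (m⁻¹ * x * m)⁻¹ = y' := by
      calc m⁻¹ * x * m * y * (m⁻¹ * x * m)⁻¹ = m⁻¹ * (x * (m * y * m⁻¹) * x⁻¹) * m := by group
        _ = m⁻¹ * (m * y' * m⁻¹) * m := by rw [← hye]; rfl
        _ = y' := by group
    show m⁻¹ * x * m * y * (m⁻¹ * x * m)⁻¹ ∈ thompsonSubgroupOf 2 (S : Subgroup G)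
    rw [this]; exact hy'
  have := mul_mem (mul_mem hm (hMJ hxS)) (inv_mem hm)
  simpa [mul_assoc] using this

/-- Sylow subgroups over `J(T)` of 2-local subgroups outside `M`. -/
theorem straddle_sylow (S : Sylow 2 G)
    (hMJ : normalizer (thompsonSubgroupOf 2 (S : Subgroup G) : Set G) ≤ M)
    (hT : T ∈ maxStraddlingTwoSubgroups M) (hL2 : IsTwoLocal L) (hLM : ¬ L ≤ M) {T₀ : Subgroup G}
    (hT₀ : IsSylowTwoIn T₀ L) (hJT₀ : J ≤ T₀) :
    thompsonSubgroupOf 2 T₀ = J ∧ T₀ ∈ straddlingTwoSubgroups M ∧ Nat.card T₀ ≤ Nat.card T ∧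
      ¬ J ≤ pCoreOf 2 L := by
  haveI : Fact (Nat.Prime 2) := ⟨Nat.prime_two⟩
  obtain ⟨hTp, hT1, hTM, -⟩ := hT.1
  have hNJ := normalizer_J_le S hMJ hT
  have hJne : J ≠ ⊥ := Thompson.thompsonSubgroupOf_ne_bot hTp hT1
  set X := T₀ ⊓ M with hX'
  have hJX : J ≤ X := le_inf hJT₀ ((Thompson.thompsonSubgroupOf_le T).trans hTM)
  have hX : X ∈ straddlingTwoSubgroups M :=
    ⟨hT₀.2.1.to_le inf_le_left, fun h => hJne (le_bot_iff.1 (hJX.trans h.le)), inf_le_right, L, hL2,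
      inf_le_left.trans hT₀.1, hLM⟩
  have hJeq := (thompson_eq_of_straddling hT hX hJX).1
  have hXT : X = T₀ := by
    by_contra hne
    have hlt : X.subgroupOf T₀ < ⊤ := by
      rw [lt_top_iff_ne_top, Ne, subgroupOf_eq_top]
      exact fun h => hne (le_antisymm inf_le_left h)
    have hnil : Group.IsNilpotent T₀ := hT₀.2.1.isNilpotent
    obtain ⟨u, hu, huX⟩ := SetLike.exists_of_lt
      (Group.normalizerCondition_of_isNilpotent (G := T₀) _ hlt)
    rw [mem_subgroupOf] at huX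
    have huN : (u : G) ∈ normalizer (X : Set G) := mem_normalizer_fintype fun x hx =>
      (mem_normalizer_iff.1 hu ⟨x, hx.1⟩).1 hx
    have := Thompson.normalizer_le_normalizer_thompsonSubgroupOf (p := 2) X huN
    rw [hJeq] at this
    exact huX ⟨u.2, hNJ this⟩
  rw [hXT] at hX hJeq
  refine ⟨hJeq, hX, (thompson_eq_of_straddling hT hX hJT₀).2, fun hJQ => hLM ?_⟩
  have hQ := core_le_sylow hT₀
  have h := thompson_eq_of_two hT₀ ((Core.pCore_isPGroup 2 _).map _) (map_subtype_le _)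
    (show thompsonSubgroupOf 2 T₀ ≤ pCoreOf 2 L from hJeq.le.trans hJQ)
  refine le_trans ?_ hNJ
  refine core_le_normalizer'.trans ((Thompson.normalizer_le_normalizer_thompsonSubgroupOf (p := 2) _).trans ?_)
  exact le_of_eq (congrArg (fun X : Subgroup G => normalizer (X : Set G)) (h.trans hJeq))

/-- A component inside `L` outside `M`. -/
theorem straddle_component (hL : IsCharacteristicTwoType G)
    (hN : ∀ N : Subgroup G, IsTwoLocal N → Group.IsSolvable ↥N)
    (hZ : ∀ S : Sylow 2 G, centralizer (omegaCenterOf (S : Subgroup G) : Set G) ≤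
      normalizer ((S : Subgroup G) : Set G))
    (S : Sylow 2 G) (hMJ : normalizer (thompsonSubgroupOf 2 (S : Subgroup G) : Set G) ≤ M)
    (hT : T ∈ maxStraddlingTwoSubgroups M) (hL2 : IsTwoLocal L) (hLM : ¬ L ≤ M) (hTL : T ≤ L) :
    IsSylowTwoIn T L ∧ L ∈ jOvergroups T ∧ ∃ K, IsJComponent T K ∧ K ≤ L ∧ ¬ K ≤ M := by
  obtain ⟨hTp, hT1, hTM, -⟩ := hT.1
  obtain ⟨T₁, hT₁, hTT₁⟩ := exists_sylow hTp hTL
  obtain ⟨-, -, hc, hJQ⟩ := straddle_sylow S hMJ hT hL2 hLM hT₁ ((Thompson.thompsonSubgroupOf_le T).trans hTT₁)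
  have he : T₁ = T := (eq_of_le_of_card_ge hTT₁ hc).symm
  rw [he] at hT₁
  have hLj : L ∈ jOvergroups T := ⟨hT₁, hJQ, twoLocal_facts hL hL2⟩
  exact ⟨hT₁, hLj, (ctx_of_overgroup hN hZ hTp hT1 hLj).exists_component_outside hT₁ hJQ hTM
    (inf_le_right.trans (normalizer_J_le S hMJ hT)) hLM⟩

end Cfsg.Lib.Local.JComp
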