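import Cfsg.Agent.Lib.Local.JComp.Local

/-!
# Subnormality of components
-/

set_option autoImplicit false
set_option linter.style.haveILetI false

namespace Cfsg.Lib.Local.JComp

open Subgroup Cfsg Cfsg.Lib Cfsg.Lib.Local.GlaubermanZJ
open scoped commutatorElement

universe u

variable {G : Type u} [Group G] [Finite G] {T K N : Subgroup G}

omit [Finite G] in
theorem isSubnormal_step {H M : Subgroup G} (hHM : H ≤ M) (hn : M ≤ normalizer (H : Set G))
    (h : (M.subgroupOf N).IsSubnormal) : (H.subgroupOf N).IsSubnormal := by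
  have hle : H.subgroupOf N ≤ M.subgroupOf N := fun x hx => hHM hx
  refine Core.isSubnormal_of_normal_subgroupOf hle h ?_
  refine (normal_subgroupOf_iff_le_normalizer hle).2 fun x hx => mem_normalizer_iff.2 fun y => ?_
  show (y : G) ∈ H ↔ ((x * y * x⁻¹ : N) : G) ∈ H
  rw [coe_mul, coe_mul, coe_inv]
  exact mem_normalizer_iff.1 (hn hx) (y : G)

/-- `K ⊴ K Q ⊴ K D ⊴ E ⊴ N`. -/
theorem Ctx.isSubnormal (c : Ctx T N) (hK : IsJComponent T K) (hKN : K ≤ N) :
    (K.subgroupOf N).IsSubnormal := by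
  obtain ⟨E, hEN, hNE, hKE, hDE, -, hcomm⟩ := exists_layer c hK hKN
  have hQK := core_le_normalizer_component c hK hKN
  refine isSubnormal_step (le_sup_left : K ≤ K ⊔ pCoreOf 2 N) (sup_le le_normalizer hQK) ?_
  refine isSubnormal_step (sup_le_sup_left (core_le_Dk c) K : K ⊔ pCoreOf 2 N ≤ K ⊔ Dk N) ?_ ?_
  · refine sup_le (le_normalizer.trans' le_sup_left) ?_
    refine Core.le_normalizer_iff_conj_mem.2 fun d hd x hx => ?_
    suffices h : (K ⊔ pCoreOf 2 N) ≤ (K ⊔ pCoreOf 2 N).comap (MulAut.conj d).toMonoidHom from h hx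
    refine sup_le (fun k hk => ?_) (fun q hq => ?_)
    · have h1 : ⁅d, k⁆ ∈ pCoreOf 2 N := by
        rw [← commutatorElement_inv]; exact inv_mem (component_comm_Dk c hK hKN hk hd)
      show d * k * d⁻¹ ∈ K ⊔ pCoreOf 2 N
      rw [show d * k * d⁻¹ = ⁅d, k⁆ * k by simp [commutatorElement_def]]
      exact mul_mem (mem_sup_right h1) (mem_sup_left hk)
    · exact mem_sup_right ((mem_normalizer_iff.1 (core_le_normalizer' (Dk_le hd)) q).1 hq)
  refine isSubnormal_step (sup_le hKE hDE : K ⊔ Dk N ≤ E) ?_ ?_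
  · refine Core.le_normalizer_iff_conj_mem.2 fun e he x hx => ?_
    rw [show e * x * e⁻¹ = ⁅e, x⁆ * x by simp [commutatorElement_def]]
    exact mul_mem (mem_sup_right (hcomm e he x (sup_le hKE hDE hx))) hx
  exact ((normal_subgroupOf_iff_le_normalizer hEN).2 hNE).isSubnormal

/-- Subgroups of `N_G(O₂(L))` are solvable. -/
theorem solvable_of_overgroup (hN : ∀ N : Subgroup G, IsTwoLocal N → Group.IsSolvable ↥N)
    {L : Subgroup G} (hC : centralizer (pCoreOf 2 L : Set G) ≤ pCoreOf 2 L) [Nontrivial G] :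
    Group.IsSolvable L := by
  have hQ : pCoreOf 2 L ≠ ⊥ := by
    intro h
    rw [h] at hC
    have h1 : centralizer ((⊥ : Subgroup G) : Set G) = ⊤ := eq_top_iff.2 fun x _ =>
      mem_centralizer_iff.2 fun y hy => by rw [mem_bot.1 hy]; simp
    rw [h1, top_le_iff] at hC
    exact bot_ne_top hC
  haveI := hN _ ⟨pCoreOf 2 L, (Core.pCore_isPGroup 2 _).map _, hQ, rfl⟩
  exact solvable_of_solvable_injective (f := inclusion (core_le_normalizer' (N := L))) (inclusion_injective _)

/-- The context at a member of the family of overgroups. -/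
theorem ctx_of_overgroup (hN : ∀ N : Subgroup G, IsTwoLocal N → Group.IsSolvable ↥N)
    (hZ : ∀ P : Sylow 2 G, centralizer (omegaCenterOf (P : Subgroup G) : Set G) ≤
      normalizer ((P : Subgroup G) : Set G))
    (hT : IsPGroup 2 T) (hT1 : T ≠ ⊥) {L : Subgroup G} (hL : L ∈ jOvergroups T) : Ctx T L := by
  haveI : Nontrivial G := by
    obtain ⟨x, hx⟩ := ne_bot_iff_exists_ne_one.1 hT1
    exact ⟨x, 1, fun h => hx (Subtype.ext h)⟩
  exact ⟨hT, solvable_of_overgroup hN hL.2.2, hL.2.2, fun S hS => hz_of hZ hL.2.2 hS,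
    T, hL.1, map_subtype_le _, rfl⟩

end Cfsg.Lib.Local.JComp
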