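import Cfsg.Agent.Lib.Local.JComp.Subnormal

/-!
# Components with the same attached four-group
-/

set_option autoImplicit false
set_option linter.style.haveILetI false

namespace Cfsg.Lib.Local.JComp

open Subgroup Cfsg Cfsg.Lib Cfsg.Lib.Local.GlaubermanZJ
open scoped commutatorElement

universe u

variable {G : Type u} [Group G] [Finite G] {T K N : Subgroup G}

local notation "J" => thompsonSubgroupOf 2 T
local notation "W" => wOf K
local notation "Q" => pCoreOf 2 N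

/-- The elements of `G` normalizing `W` and acting trivially on `V / W`. -/
def actW (K N : Subgroup G) : Subgroup G where
  carrier := {g | g ∈ normalizer (wOf K : Set G) ∧ ∀ v ∈ Vc N, ⁅g, v⁆ ∈ wOf K}
  one_mem' := ⟨one_mem _, by simp⟩
  mul_mem' := by
    rintro a b ⟨ha, ha'⟩ ⟨hb, hb'⟩
    refine ⟨mul_mem ha hb, fun y hy => ?_⟩
    rw [show ⁅a * b, y⁆ = a * ⁅b, y⁆ * a⁻¹ * ⁅a, y⁆ by simp [commutatorElement_def]; group]
    exact mul_mem ((mem_normalizer_iff.1 ha _).1 (hb' y hy)) (ha' y hy)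
  inv_mem' := by
    rintro a ⟨ha, ha'⟩
    refine ⟨inv_mem ha, fun y hy => ?_⟩
    rw [show ⁅a⁻¹, y⁆ = a⁻¹ * ⁅a, y⁆⁻¹ * a by simp [commutatorElement_def]; group]
    exact (mem_normalizer_iff''.1 ha _).1 (inv_mem (ha' y hy))

variable (c : Ctx T N) (hK : IsJComponent T K) (hKN : K ≤ N)
include c hK hKN

theorem sup_Dk_le_actW : K ⊔ Dk N ≤ actW K N := by
  refine sup_le (fun k hk => ⟨normalizer_le_normalizer_W (le_normalizer hk),
    fun v hv => comm_Vc_mem c hK hKN hk hv⟩) (fun d hd => ⟨mem_normalizer_fintype fun w hw => ?_, fun v hv => ?_⟩)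
  · rw [← mem_centralizer_iff.1 hd.2 w (W_le_Vc c hK hKN hw), mul_inv_cancel_right]; exact hw
  · rw [commutatorElement_eq_one_iff_mul_comm.2 (mem_centralizer_iff.1 hd.2 v hv).symm]
    exact one_mem _

/-- An element of `actW` centralizing `W` has its square in `D`. -/
theorem sq_mem_Dk {x : G} (hxN : x ∈ N) (hx : x ∈ actW K N) (hxW : x ∈ centralizer (W : Set G)) :
    x ^ 2 ∈ Dk N := by
  refine ⟨N.pow_mem hxN 2, mem_centralizer_iff.2 fun v hv => ?_⟩
  have hw := hx.2 v hv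
  have h1 : x * v * x⁻¹ = ⁅x, v⁆ * v := by simp [commutatorElement_def]
  have h2 : x * ⁅x, v⁆ * x⁻¹ = ⁅x, v⁆ := by
    rw [← mem_centralizer_iff.1 hxW _ hw, mul_inv_cancel_right]
  have h3 : x ^ 2 * v * (x ^ 2)⁻¹ = v := by
    calc x ^ 2 * v * (x ^ 2)⁻¹ = x * (x * v * x⁻¹) * x⁻¹ := by rw [pow_two]; group
      _ = (x * ⁅x, v⁆ * x⁻¹) * (x * v * x⁻¹) := by rw [h1]; group
      _ = ⁅x, v⁆ ^ 2 * v := by rw [h2, h1, pow_two, mul_assoc]
      _ = v := by rw [W_pow hw, one_mul]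
  exact (mul_inv_eq_iff_eq_mul.1 h3).symm

/-- The part of the layer acting like `K` is `K D`. -/
theorem layer_mem {E : Subgroup G} (hEN : E ≤ N) (hKE : K ≤ E) (h3 : ∀ x ∈ E, x ^ 3 ∈ Dk N)
    {g : G} (hg : g ∈ E) (hgA : g ∈ actW K N) : g ∈ K ⊔ Dk N := by
  classical
  obtain ⟨ρ, hρ, ho, hn, -⟩ := exists_rho hK
  have hρW : ρ ∈ normalizer (W : Set G) := normalizer_le_normalizer_W (le_normalizer hρ)
  obtain ⟨⟨w, hw⟩, hw1⟩ := ne_bot_iff_exists_ne_one.1
    (fun h => by have := hK.2.2.2.2.1; rw [h, card_bot] at this; omega : W ≠ ⊥)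
  have hw' : w ≠ 1 := fun h => hw1 (Subtype.ext h)
  set a := ρ * w * ρ⁻¹ with ha
  set b := ρ⁻¹ * w * ρ with hb
  have haW : a ∈ W := (mem_normalizer_iff.1 hρW w).1 hw
  have hbW : b ∈ W := (mem_normalizer_iff''.1 hρW w).1 hw
  have ha1 : a ≠ 1 := fun h => hw' (conj_eq_one_iff.1 h)
  have hb1 : b ≠ 1 := fun h => hw' (by
    have h' := congrArg (fun z => ρ * z * ρ⁻¹) h
    simpa [hb, mul_assoc] using h')
  have haw : a ≠ w := fun h => hw' (rho_fpf hK hρ ho hn hw h)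
  have hbw : b ≠ w := fun h => hw' (rho_fpf hK hρ ho hn hw (by
    conv_lhs => rw [← h]
    rw [hb]; group))
  have hab : a ≠ b := fun h => by
    refine hw' (rho_fpf hK (ρ := ρ * ρ) (K.mul_mem hρ hρ) ?_ ?_ hw ?_)
    · exact ho.of_dvd_nat (by rw [← pow_two]; exact orderOf_pow_dvd 2)
    · intro h2
      obtain ⟨m, hm⟩ := exists_pow_eq_self_of_coprime
        (show Nat.Coprime 2 (orderOf ρ) from Nat.coprime_two_left.2 ho)
      exact hn (hm ▸ pow_mem (by rw [pow_two]; exact h2) m)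
    · calc ρ * ρ * w * (ρ * ρ)⁻¹ = ρ * a * ρ⁻¹ := by rw [ha]; group
        _ = w := by rw [h, hb]; group
  have hall : ∀ z ∈ W, z = 1 ∨ z = w ∨ z = a ∨ z = b := by
    intro z hz
    by_contra hc
    push Not at hc
    have h5 : ({1, w, a, b, z} : Set G).ncard ≤ Nat.card W := by
      rw [show Nat.card W = (W : Set G).ncard from Nat.card_coe_set_eq _]
      refine Set.ncard_le_ncard ?_ (Set.toFinite _)
      rintro e (rfl | rfl | rfl | rfl | rfl)
      exacts [one_mem W, hw, haW, hbW, hz]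
    rw [hK.2.2.2.2.1, Set.ncard_insert_of_notMem (by simp [Ne.symm hw', Ne.symm ha1, Ne.symm hb1,
        Ne.symm hc.1]) (Set.toFinite _),
      Set.ncard_insert_of_notMem (by simp [haw.symm, hbw.symm, Ne.symm hc.2.1]) (Set.toFinite _),
      Set.ncard_insert_of_notMem (by simp [hab, Ne.symm hc.2.2.1]) (Set.toFinite _),
      Set.ncard_pair hc.2.2.2.symm] at h5
    omega
  -- an element of `K g` fixing `w`
  obtain ⟨k, hk, hfix⟩ : ∃ k ∈ K, (k * g) * w * (k * g)⁻¹ = w := by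
    have hgw : g * w * g⁻¹ ∈ W := (mem_normalizer_iff.1 hgA.1 w).1 hw
    rcases hall _ hgw with h | h | h | h
    · exact absurd (conj_eq_one_iff.1 h) hw'
    · exact ⟨1, K.one_mem, by simpa using h⟩
    · refine ⟨ρ⁻¹, K.inv_mem hρ, ?_⟩
      calc ρ⁻¹ * g * w * (ρ⁻¹ * g)⁻¹ = ρ⁻¹ * (g * w * g⁻¹) * ρ := by group
        _ = w := by rw [h, ha]; group
    · refine ⟨ρ, hρ, ?_⟩
      calc ρ * g * w * (ρ * g)⁻¹ = ρ * (g * w * g⁻¹) * ρ⁻¹ := by group
        _ = w := by rw [h, hb]; group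
  set x := k * g with hx
  have hxE : x ∈ E := E.mul_mem (hKE hk) hg
  have hxA : x ∈ actW K N := mul_mem (sup_Dk_le_actW c hK hKN (mem_sup_left hk)) hgA
  suffices hxD : x ∈ Dk N by
    have : g = k⁻¹ * x := by rw [hx, inv_mul_cancel_left]
    rw [this]; exact mul_mem (mem_sup_left (K.inv_mem hk)) (mem_sup_right hxD)
  obtain ⟨e, m, hm, hmo⟩ := Nat.exists_eq_two_pow_mul_odd (n := orderOf x) (orderOf_pos x).ne'
  set y := x ^ 2 ^ e with hy
  have hyo : Odd (orderOf y) := hm.of_dvd_nat (orderOf_dvd_of_pow_eq_one (by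
    rw [hy, ← pow_mul, ← hmo, pow_orderOf_eq_one]))
  have hyfix : y * w * y⁻¹ = w := by
    have : x ∈ centralizer ({w} : Set G) :=
      mem_centralizer_singleton_iff.2 (mul_inv_eq_iff_eq_mul.1 hfix)
    rw [mem_centralizer_singleton_iff.1 (pow_mem this (2 ^ e)), mul_inv_cancel_right]
  have hyW : y ∈ centralizer (W : Set G) :=
    four_fix hK.2.2.2.2.1 (pow_mem hxA.1 _) hyo hw hw' hyfix
  have h2 := sq_mem_Dk c hK hKN (pow_mem (hEN hxE) _) (pow_mem hxA _) hyW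
  have h3' := h3 y (pow_mem hxE _)
  have hyD : y ∈ Dk N := by
    have := mul_mem h3' (inv_mem h2)
    rwa [pow_succ y 2, mul_inv_eq_iff_eq_mul.2] at this
    exact (((Commute.refl y).pow_left 2).eq)
  obtain ⟨u, v, huv⟩ : ∃ u v : ℤ, (3 : ℤ) * u + (2 ^ e : ℤ) * v = 1 := by
    have h : IsCoprime (3 : ℤ) (2 ^ e) := IsCoprime.pow_right (by norm_num [Int.isCoprime_iff_gcd_eq_one])
    obtain ⟨u, v, h⟩ := h
    exact ⟨u, v, by linarith⟩
  have hpow : x ^ (1 : ℤ) = (x ^ 3) ^ u * y ^ v := by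
    rw [← huv, zpow_add, zpow_mul, zpow_mul, hy, ← zpow_natCast x (2 ^ e), ← zpow_natCast x 3]
    push_cast
    rfl
  rw [zpow_one] at hpow
  rw [hpow]
  exact mul_mem (zpow_mem (h3 x hxE) u) (zpow_mem hyD v)

theorem Dk_le_normalizer_sup : Dk N ≤ normalizer ((K ⊔ Q : Subgroup G) : Set G) := by
  refine Core.le_normalizer_iff_conj_mem.2 fun d hd x hx => ?_
  suffices h : (K ⊔ Q) ≤ (K ⊔ Q).comap (MulAut.conj d).toMonoidHom from h hx
  refine sup_le (fun k hk => ?_) (fun q hq => ?_)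
  · have h1 : ⁅d, k⁆ ∈ Q := by
      rw [← commutatorElement_inv]; exact inv_mem (component_comm_Dk c hK hKN hk hd)
    show d * k * d⁻¹ ∈ K ⊔ Q
    rw [show d * k * d⁻¹ = ⁅d, k⁆ * k by simp [commutatorElement_def]]
    exact mul_mem (mem_sup_right h1) (mem_sup_left hk)
  · exact mem_sup_right ((mem_normalizer_iff.1 (core_le_normalizer' (Dk_le hd)) q).1 hq)

/-- A component inside `K D` is `K`. -/
theorem eq_of_le_sup {K' : Subgroup G} (hK' : IsJComponent T K') (h : K' ≤ K ⊔ Dk N)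
    (hcard : Nat.card K ≤ Nat.card K') : K' = K := by
  haveI : Fact (Nat.Prime 2) := ⟨Nat.prime_two⟩
  obtain ⟨S₀, hS₀, hJS, -⟩ := c.sylow
  have hQK := core_le_normalizer_component c hK hKN
  let Cj : Subgroup G :=
    { carrier := {g | g ∈ normalizer ((K ⊔ Q : Subgroup G) : Set G) ∧ ∀ j ∈ J, ⁅g, j⁆ ∈ K ⊔ Q}
      one_mem' := ⟨one_mem _, by simp⟩
      mul_mem' := by
        rintro a b ⟨ha, ha'⟩ ⟨hb, hb'⟩
        refine ⟨mul_mem ha hb, fun y hy => ?_⟩
        rw [show ⁅a * b, y⁆ = a * ⁅b, y⁆ * a⁻¹ * ⁅a, y⁆ by simp [commutatorElement_def]; group]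
        exact mul_mem ((mem_normalizer_iff.1 ha _).1 (hb' y hy)) (ha' y hy)
      inv_mem' := by
        rintro a ⟨ha, ha'⟩
        refine ⟨inv_mem ha, fun y hy => ?_⟩
        rw [show ⁅a⁻¹, y⁆ = a⁻¹ * ⁅a, y⁆⁻¹ * a by simp [commutatorElement_def]; group]
        exact (mem_normalizer_iff''.1 ha _).1 (inv_mem (ha' y hy)) }
  have hle : K ⊔ Dk N ≤ Cj := by
    refine sup_le (fun k hk => ⟨le_normalizer (mem_sup_left hk), fun j hj =>
      mem_sup_left (hK.2.1.le (commutator_mem_commutator hk hj))⟩)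
      (fun d hd => ⟨Dk_le_normalizer_sup c hK hKN hd, fun j hj => ?_⟩)
    rw [← commutatorElement_inv]
    exact inv_mem (mem_sup_right (sylow_comm_Dk c hS₀ (hJS hj) hd))
  have h1 : K' ≤ K ⊔ Q := hK'.2.1.ge.trans (commutator_le.2 fun k hk j hj => (hle (h hk)).2 j hj)
  refine eq_of_le_of_card_ge (le_of_odd hK' fun x hx ho => ?_) hcard
  exact BaumannBlock.mem_of_coprime hQK isPGroup_Q (h1 hx) (odd_iff_coprime.1 ho)

end Cfsg.Lib.Local.JComp
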